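/-
In `PSL_d`, `d ≥ 3`, a product of two non-trivial classes is not a single class.
-/
import Cfsg.Agent.H66.VectorPermChar

set_option autoImplicit false

open Matrix

namespace Cfsg.Agent.H71.ClassProduct

variable {F : Type*} [Field F] {d : ℕ}

/-- A non-scalar matrix moves some line. -/
theorem exists_moved (M : Matrix (Fin d) (Fin d) F) (h : ∀ c : F, Matrix.scalar (Fin d) c ≠ M) :
    ∃ u, ¬ ∃ c : F, M *ᵥ u = c • u := by
  by_contra hall
  push Not at hall
  choose c hc using hall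
  have hentry : ∀ i j, M i j = c (Pi.single j 1) * (Pi.single j 1 : Fin d → F) i := by
    intro i j
    have := congrFun (hc (Pi.single j 1)) i
    rwa [Matrix.mulVec_single_one, Matrix.col_apply, Pi.smul_apply, smul_eq_mul] at this
  rcases isEmpty_or_nonempty (Fin d) with he | ⟨⟨i₀⟩⟩
  · exact h 0 (Matrix.ext fun i => isEmptyElim i)
  refine h (c (Pi.single i₀ 1)) (Matrix.ext fun i j => ?_)
  have key : ∀ j, c (Pi.single j 1) = c (Pi.single i₀ 1) := by
    intro j
    by_cases hj : j = i₀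
    · rw [hj]
    have h1 := hc (Pi.single j 1 + Pi.single i₀ 1)
    rw [Matrix.mulVec_add, hc, hc] at h1
    have a := congrFun h1 j
    have b := congrFun h1 i₀
    simp [hj, Ne.symm hj] at a b
    rw [a, b]
  rw [Matrix.scalar_apply, hentry, key]
  rcases eq_or_ne i j with rfl | hij
  · simp [key i]
  · simp [hij]

/-- `1 + u φ` as an element of `SL`. -/
def elem (u φ : Fin d → F) (h : φ ⬝ᵥ u = 0) : Matrix.SpecialLinearGroup (Fin d) F :=
  ⟨1 + vecMulVec u φ, by
    rw [Matrix.vecMulVec_eq Unit, Matrix.det_one_add_replicateCol_mul_replicateRow, h, add_zero]⟩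

theorem vecMulVec_sq {u φ : Fin d → F} (h : φ ⬝ᵥ u = 0) :
    vecMulVec u φ * vecMulVec u φ = 0 := by
  rw [Matrix.vecMulVec_mul_vecMulVec, h, zero_smul]; simp

theorem elem_inv (u φ : Fin d → F) (h : φ ⬝ᵥ u = 0) :
    (((elem u φ h)⁻¹ : Matrix.SpecialLinearGroup (Fin d) F) : Matrix (Fin d) (Fin d) F) =
      1 - vecMulVec u φ := by
  have h1 : (((elem u φ h)⁻¹ * elem u φ h : Matrix.SpecialLinearGroup (Fin d) F) :
      Matrix (Fin d) (Fin d) F) = 1 := by rw [inv_mul_cancel]; rfl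
  rw [Matrix.SpecialLinearGroup.coe_mul] at h1
  have h2 : ((elem u φ h : Matrix.SpecialLinearGroup (Fin d) F) : Matrix (Fin d) (Fin d) F) *
      (1 - vecMulVec u φ) = 1 := by
    show (1 + vecMulVec u φ) * (1 - vecMulVec u φ) = 1
    rw [add_mul, mul_sub, mul_sub, one_mul, one_mul, mul_one, vecMulVec_sq h]
    abel
  calc (((elem u φ h)⁻¹ : Matrix.SpecialLinearGroup (Fin d) F) : Matrix (Fin d) (Fin d) F)
      = (((elem u φ h)⁻¹ : Matrix.SpecialLinearGroup (Fin d) F) : Matrix (Fin d) (Fin d) F) *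
          (((elem u φ h : Matrix.SpecialLinearGroup (Fin d) F) : Matrix (Fin d) (Fin d) F) *
            (1 - vecMulVec u φ)) := by rw [h2, mul_one]
    _ = 1 - vecMulVec u φ := by rw [← mul_assoc, h1, one_mul]

theorem trace_vecMulVec_mul (u φ : Fin d → F) (M : Matrix (Fin d) (Fin d) F) :
    (vecMulVec u φ * M).trace = φ ⬝ᵥ (M *ᵥ u) := by
  rw [Matrix.vecMulVec_mul, Matrix.trace_vecMulVec, dotProduct_comm, Matrix.dotProduct_mulVec]

/-- The first-order condition. -/
theorem comm_dot_eq_zero (A B : Matrix.SpecialLinearGroup (Fin d) F) (T : F)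
    (hT : ∀ g : Matrix.SpecialLinearGroup (Fin d) F,
      ((g * A * g⁻¹ * B : Matrix.SpecialLinearGroup (Fin d) F) :
        Matrix (Fin d) (Fin d) F).trace = 0 ↔ T = 0)
    (g : Matrix.SpecialLinearGroup (Fin d) F) (u φ : Fin d → F) (h : φ ⬝ᵥ u = 0)
    (hq : φ ⬝ᵥ (((g * A * g⁻¹ : Matrix.SpecialLinearGroup (Fin d) F) :
        Matrix (Fin d) (Fin d) F) *ᵥ u) *
      (φ ⬝ᵥ ((B : Matrix (Fin d) (Fin d) F) *ᵥ u)) = 0) :
    φ ⬝ᵥ ((((g * A * g⁻¹ : Matrix.SpecialLinearGroup (Fin d) F) : Matrix (Fin d) (Fin d) F) *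
        (B : Matrix (Fin d) (Fin d) F) -
      (B : Matrix (Fin d) (Fin d) F) *
        ((g * A * g⁻¹ : Matrix.SpecialLinearGroup (Fin d) F) : Matrix (Fin d) (Fin d) F)) *ᵥ u) = 0 := by
  set A' : Matrix (Fin d) (Fin d) F :=
    ((g * A * g⁻¹ : Matrix.SpecialLinearGroup (Fin d) F) : Matrix (Fin d) (Fin d) F) with hA'
  set E := vecMulVec u φ with hE
  set M : Matrix (Fin d) (Fin d) F := (B : Matrix (Fin d) (Fin d) F) with hM
  set L := φ ⬝ᵥ ((A' * M - M * A') *ᵥ u) with hL
  have key : ∀ s : F, (A' * M).trace + s * L = 0 ↔ T = 0 := by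
    intro s
    have hs : (s • φ) ⬝ᵥ u = 0 := by rw [smul_dotProduct, h, smul_zero]
    rw [← hT (elem u (s • φ) hs * g)]
    have e : elem u (s • φ) hs * g * A * (elem u (s • φ) hs * g)⁻¹ =
        elem u (s • φ) hs * (g * A * g⁻¹) * (elem u (s • φ) hs)⁻¹ := by group
    rw [e, Matrix.SpecialLinearGroup.coe_mul, Matrix.SpecialLinearGroup.coe_mul,
      Matrix.SpecialLinearGroup.coe_mul, elem_inv, ← hA']
    show _ ↔ ((1 + vecMulVec u (s • φ)) * A' * (1 - vecMulVec u (s • φ)) * M).trace = 0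
    rw [Matrix.vecMulVec_smul, ← hE]
    have e2 : (1 + s • E) * A' * (1 - s • E) * M =
        A' * M + s • (E * (A' * M) - A' * E * M) - (s * s) • (E * A' * E * M) := by
      simp only [add_mul, mul_sub, sub_mul, one_mul, mul_one, smul_mul_assoc, mul_smul_comm,
        mul_assoc]
      module
    have e3 : (E * A' * E * M).trace = 0 := by
      rw [show E * A' * E * M = E * (A' * E * M) by simp only [mul_assoc], hE, trace_vecMulVec_mul,
        ← Matrix.mulVec_mulVec, ← Matrix.mulVec_mulVec, ← hE]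
      have e4 : E *ᵥ (M *ᵥ u) = (φ ⬝ᵥ (M *ᵥ u)) • u := by
        rw [hE, Matrix.vecMulVec_mulVec, op_smul_eq_smul]
      rw [e4, Matrix.mulVec_smul, dotProduct_smul, smul_eq_mul, mul_comm]
      exact hq
    have e5 : (A' * E * M).trace = φ ⬝ᵥ ((M * A') *ᵥ u) := by
      rw [mul_assoc, Matrix.trace_mul_comm, mul_assoc, hE, trace_vecMulVec_mul]
    rw [e2, Matrix.trace_sub, Matrix.trace_add, Matrix.trace_smul, Matrix.trace_smul, e3,
      Matrix.trace_sub, e5, hE, trace_vecMulVec_mul, smul_zero, sub_zero, smul_eq_mul,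
      ← dotProduct_sub, ← Matrix.sub_mulVec, ← hL]
  by_contra hL0
  have h0 := key 0
  rw [zero_mul, add_zero] at h0
  by_cases hT0 : T = 0
  · have h1 := (key 1).mpr hT0
    rw [h0.mpr hT0, one_mul, zero_add] at h1
    exact hL0 h1
  · refine hT0 ((key (-(A' * M).trace / L)).mp ?_)
    rw [div_mul_cancel₀ _ hL0, add_neg_cancel]

theorem exists_functional {p : Submodule F (Fin d → F)} {y : Fin d → F} (hy : y ∉ p) :
    ∃ φ : Fin d → F, φ ⬝ᵥ y ≠ 0 ∧ ∀ z ∈ p, φ ⬝ᵥ z = 0 := by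
  classical
  obtain ⟨f, hf, hp⟩ := Submodule.exists_le_ker_of_notMem hy
  have hfe : ∀ z, (fun i => f (Pi.single i 1)) ⬝ᵥ z = f z := by
    intro z
    conv_rhs => rw [pi_eq_sum_univ' z]
    simp [dotProduct, mul_comm]
  exact ⟨fun i => f (Pi.single i 1), by rwa [hfe], fun z hz => by
    rw [hfe]; exact LinearMap.mem_ker.mp (hp hz)⟩

theorem pair_indep {a b : Fin d → F} (ha : a ≠ 0) (h : b ∉ Submodule.span F {a}) :
    LinearIndependent F ![a, b] := by
  rw [LinearIndependent.pair_iff' ha]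
  exact fun c hc => h (Submodule.mem_span_singleton.mpr ⟨c, hc⟩)

/-- The product of two classes is not one class. -/
theorem main (hd : 3 ≤ d) (A B : Matrix.SpecialLinearGroup (Fin d) F)
    (hA : A ∉ Subgroup.center _) (hB : B ∉ Subgroup.center _)
    (hall : ∀ g : Matrix.SpecialLinearGroup (Fin d) F, ∃ (k : Matrix.SpecialLinearGroup (Fin d) F),
      ∃ z ∈ Subgroup.center (Matrix.SpecialLinearGroup (Fin d) F),
        g * A * g⁻¹ * B = k * (A * B) * k⁻¹ * z) : False := by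
  classical
  have hd0 : 0 < d := by omega
  have hT : ∀ g : Matrix.SpecialLinearGroup (Fin d) F,
      ((g * A * g⁻¹ * B : Matrix.SpecialLinearGroup (Fin d) F) :
        Matrix (Fin d) (Fin d) F).trace = 0 ↔
        ((A * B : Matrix.SpecialLinearGroup (Fin d) F) : Matrix (Fin d) (Fin d) F).trace = 0 := by
    intro g
    obtain ⟨k, z, hz, he⟩ := hall g
    obtain ⟨r, hr, hrz⟩ := Matrix.SpecialLinearGroup.mem_center_iff.mp hz
    have hr0 : r ≠ 0 := by
      rintro rfl
      rw [zero_pow (by rw [Fintype.card_fin]; omega)] at hr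
      exact zero_ne_one hr
    rw [he, Matrix.SpecialLinearGroup.coe_mul, ← hrz, Matrix.scalar_apply,
      ← Matrix.smul_one_eq_diagonal, mul_smul_comm, mul_one, Matrix.trace_smul,
      Matrix.SpecialLinearGroup.coe_mul, Matrix.trace_mul_comm, ← Matrix.SpecialLinearGroup.coe_mul,
      inv_mul_cancel_left, smul_eq_mul, mul_eq_zero]
    simp [hr0]
  have hsc : ∀ {M : Matrix.SpecialLinearGroup (Fin d) F}, M ∉ Subgroup.center _ →
      ∀ c : F, Matrix.scalar (Fin d) c ≠ (M : Matrix (Fin d) (Fin d) F) := by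
    intro M hM c hc
    refine hM (Matrix.SpecialLinearGroup.mem_center_iff.mpr ⟨c, ?_, hc⟩)
    have := M.2
    rw [← hc, Matrix.scalar_apply, Matrix.det_diagonal, Finset.prod_const] at this
    simpa using this
  obtain ⟨u₀, hu₀⟩ := exists_moved _ (hsc hA)
  obtain ⟨u, hu⟩ := exists_moved _ (hsc hB)
  push Not at hu₀ hu
  set M : Matrix (Fin d) (Fin d) F := (B : Matrix (Fin d) (Fin d) F) with hM
  set v := M *ᵥ u with hv
  have hu0 : u ≠ 0 := fun h => hu 0 (by rw [hv, h]; simp)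
  have hu00 : u₀ ≠ 0 := fun h => hu₀ 0 (by rw [h]; simp)
  obtain ⟨x, hx⟩ : ∃ x, x ∉ Submodule.span F ({u, v} : Set (Fin d → F)) := by
    by_contra hne
    push Not at hne
    have htop : Submodule.span F ({u, v} : Set (Fin d → F)) = ⊤ :=
      eq_top_iff.mpr fun y _ => hne y
    have h1 := finrank_span_finset_le_card (R := F) ({u, v} : Finset (Fin d → F))
    rw [Set.finrank, Finset.coe_pair, htop, finrank_top, Module.finrank_fintype_fun_eq_card,
      Fintype.card_fin] at h1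
    have := Finset.card_le_two (a := u) (b := v)
    omega
  have hxu : x ∉ Submodule.span F {u} := fun h => hx (Submodule.span_mono (by simp) h)
  have hvux : v ∉ Submodule.span F ({u, x} : Set (Fin d → F)) := by
    intro h
    obtain ⟨a, b, hab⟩ := Submodule.mem_span_pair.mp h
    rcases eq_or_ne b 0 with rfl | hb
    · exact hu a (by rw [← hab, zero_smul, add_zero])
    · refine hx (Submodule.mem_span_pair.mpr ⟨-a / b, b⁻¹, ?_⟩)
      rw [← hab, smul_add, smul_smul, smul_smul, inv_mul_cancel₀ hb, one_smul, ← add_assoc,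
        ← add_smul, div_eq_inv_mul, mul_neg, neg_add_cancel, zero_smul, zero_add]
  obtain ⟨g, hg1, hg2⟩ := H66.VecChar.exists_map_pair hd
    (pair_indep hu00 (fun h => by
      obtain ⟨c, hc⟩ := Submodule.mem_span_singleton.mp h
      exact hu₀ c hc.symm : (A : Matrix (Fin d) (Fin d) F) *ᵥ u₀ ∉ Submodule.span F {u₀}))
    (pair_indep hu0 hxu)
  have hgx : ((g * A * g⁻¹ : Matrix.SpecialLinearGroup (Fin d) F) :
      Matrix (Fin d) (Fin d) F) *ᵥ u = x := by
    show H66.VecChar.act _ u = x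
    rw [H66.VecChar.act_mul, H66.VecChar.act_mul, ← hg1, ← H66.VecChar.act_mul g⁻¹ g,
      inv_mul_cancel, H66.VecChar.act_one, ← hg2]
    rfl
  have hmem : ∀ g' : Matrix.SpecialLinearGroup (Fin d) F,
      ((g' * A * g'⁻¹ : Matrix.SpecialLinearGroup (Fin d) F) :
        Matrix (Fin d) (Fin d) F) *ᵥ u = x →
      ((g' * A * g'⁻¹ : Matrix.SpecialLinearGroup (Fin d) F) : Matrix (Fin d) (Fin d) F) *ᵥ v -
        M *ᵥ x ∈ Submodule.span F {u} := by
    intro g' hg'
    set A' := ((g' * A * g'⁻¹ : Matrix.SpecialLinearGroup (Fin d) F) : Matrix (Fin d) (Fin d) F)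
    set y := A' *ᵥ v - M *ᵥ x
    have hy : y = (A' * M - M * A') *ᵥ u := by
      rw [Matrix.sub_mulVec, ← Matrix.mulVec_mulVec, ← Matrix.mulVec_mulVec, hg', ← hv]
    have inSpan : ∀ t, (t = x ∨ t = v) → y ∈ Submodule.span F ({u, t} : Set (Fin d → F)) := by
      intro t ht
      by_contra hn
      obtain ⟨φ, hφy, hφ⟩ := exists_functional hn
      refine hφy ?_
      rw [hy]
      refine comm_dot_eq_zero A B _ hT g' u φ (hφ u (Submodule.subset_span (by simp))) ?_
      have ht0 : φ ⬝ᵥ t = 0 := hφ t (Submodule.subset_span (by simp))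
      rcases ht with rfl | rfl
      · rw [hg', ht0, zero_mul]
      · rw [← hM, ← hv, ht0, mul_zero]
    obtain ⟨a, b, hab⟩ := Submodule.mem_span_pair.mp (inSpan x (Or.inl rfl))
    obtain ⟨a', b', hab'⟩ := Submodule.mem_span_pair.mp (inSpan v (Or.inr rfl))
    have hb : b = 0 := by
      by_contra hb
      refine hx (Submodule.mem_span_pair.mpr ⟨(a' - a) / b, b' / b, ?_⟩)
      have e : b • x = (a' - a) • u + b' • v := by
        rw [sub_smul, sub_add_eq_add_sub, hab', ← hab]; abel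
      rw [div_eq_inv_mul, div_eq_inv_mul, ← smul_smul, ← smul_smul, ← smul_add, ← e, smul_smul,
        inv_mul_cancel₀ hb, one_smul]
    rw [← hab, hb, zero_smul, add_zero]
    exact Submodule.smul_mem _ _ (Submodule.mem_span_singleton_self u)
  obtain ⟨θ, hθv, hθ⟩ := exists_functional hvux
  set w : Fin d → F := -(θ ⬝ᵥ v)⁻¹ • θ with hw
  have hwu : w ⬝ᵥ u = 0 := by rw [hw, smul_dotProduct, hθ u (Submodule.subset_span (by simp)), smul_zero]
  have hwx : w ⬝ᵥ x = 0 := by rw [hw, smul_dotProduct, hθ x (Submodule.subset_span (by simp)), smul_zero]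
  have hwv : w ⬝ᵥ v = -1 := by
    rw [hw, smul_dotProduct, smul_eq_mul, neg_mul, inv_mul_cancel₀ hθv]
  have e1 : ∀ z, ((elem u w hwu : Matrix.SpecialLinearGroup (Fin d) F) : Matrix (Fin d) (Fin d) F) *ᵥ z
      = z + (w ⬝ᵥ z) • u := fun z => by
    show (1 + vecMulVec u w) *ᵥ z = _
    rw [Matrix.add_mulVec, Matrix.one_mulVec, Matrix.vecMulVec_mulVec, op_smul_eq_smul]
  have e2 : ∀ z, (((elem u w hwu)⁻¹ : Matrix.SpecialLinearGroup (Fin d) F) : Matrix (Fin d) (Fin d) F) *ᵥ z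
      = z - (w ⬝ᵥ z) • u := fun z => by
    rw [elem_inv, Matrix.sub_mulVec, Matrix.one_mulVec, Matrix.vecMulVec_mulVec, op_smul_eq_smul]
  set A₁ := ((g * A * g⁻¹ : Matrix.SpecialLinearGroup (Fin d) F) : Matrix (Fin d) (Fin d) F) with hA₁
  have hconj : ∀ z, ((elem u w hwu * g * A * (elem u w hwu * g)⁻¹ :
      Matrix.SpecialLinearGroup (Fin d) F) : Matrix (Fin d) (Fin d) F) *ᵥ z =
      A₁ *ᵥ (z - (w ⬝ᵥ z) • u) + (w ⬝ᵥ (A₁ *ᵥ (z - (w ⬝ᵥ z) • u))) • u := by
    intro z
    rw [show elem u w hwu * g * A * (elem u w hwu * g)⁻¹ =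
        elem u w hwu * (g * A * g⁻¹) * (elem u w hwu)⁻¹ by group,
      Matrix.SpecialLinearGroup.coe_mul, Matrix.SpecialLinearGroup.coe_mul,
      ← Matrix.mulVec_mulVec, ← Matrix.mulVec_mulVec, e2, ← hA₁, e1]
  have h1 := hmem g hgx
  have h2 := hmem (elem u w hwu * g) (by
    rw [hconj, hwu, zero_smul, sub_zero, hgx, hwx, zero_smul, add_zero])
  rw [hconj, hwv] at h2
  rw [neg_one_smul, sub_neg_eq_add, Matrix.mulVec_add, hgx] at h2
  have h3 := Submodule.sub_mem _ h2 h1
  have h4 := Submodule.sub_mem _ h3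
    (Submodule.smul_mem _ (w ⬝ᵥ (A₁ *ᵥ v + x)) (Submodule.mem_span_singleton_self u))
  exact hxu (by convert h4 using 1; abel)

end Cfsg.Agent.H71.ClassProduct
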