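import Cfsg.Agent.H46.TwistOrder
import Cfsg.Agent.H46.TwistE6
import Cfsg.Agent.H65.Chev.G2

/-!
Collection of words in the positive root elements of type E₆ in characteristic two, with parameters polynomial
in variables and their images under a ring endomorphism `ψ` with `ψ ∘ ψ` the identity.
-/

set_option autoImplicit false
set_option maxRecDepth 100000
set_option linter.unusedSectionVars false

open Cfsg.Lie Cfsg.Agent.H46

namespace Cfsg.Agent.H71.E6Inv

/-- A monomial: for each variable `v` the exponents of `v` and of `ψ v`. -/
abbrev Mono := List (ℕ × ℕ)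

/-- A polynomial over the field with two elements. -/
abbrev PPoly := List Mono

/-- A word in root elements. -/
abbrev PWord := List (ℕ × PPoly)

/-- Product of monomials. -/
def mulM (a : Mono) : Mono → Mono :=
  List.rec (motive := fun _ => Mono → Mono) (fun b => b)
    (fun x a ih b => match b with
      | [] => x :: a
      | y :: b => (x.1 + y.1, x.2 + y.2) :: ih b) a

theorem mulM_nil (b : Mono) : mulM [] b = b := rfl

theorem mulM_cons_nil (x : ℕ × ℕ) (a : Mono) : mulM (x :: a) [] = x :: a := rfl

theorem mulM_cons (x : ℕ × ℕ) (a : Mono) (y : ℕ × ℕ) (b : Mono) :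
    mulM (x :: a) (y :: b) = (x.1 + y.1, x.2 + y.2) :: mulM a b := rfl

/-- Image of a monomial. -/
def sigM (a : Mono) : Mono := a.map fun e => (e.2, e.1)

/-- A comparison of monomials: zero for equality, one for less, two for greater. -/
def cmpM (a : Mono) : Mono → ℕ :=
  List.rec (motive := fun _ => Mono → ℕ)
    (fun b => match b with
      | [] => 0
      | _ :: _ => 1)
    (fun x _ ih b => match b with
      | [] => 2
      | y :: b => bif Nat.beq x.1 y.1 then bif Nat.beq x.2 y.2 then ih b else bif Nat.ble x.2 y.2 then 1 else 2
          else bif Nat.ble x.1 y.1 then 1 else 2) a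

theorem cmpM_eq_zero : ∀ a b : Mono, cmpM a b = 0 → a = b
  | [], [], _ => rfl
  | [], _ :: _, h => absurd h (show (1 : ℕ) ≠ 0 by omega)
  | _ :: _, [], h => absurd h (show (2 : ℕ) ≠ 0 by omega)
  | x :: a, y :: b, h => by
    change (bif Nat.beq x.1 y.1 then bif Nat.beq x.2 y.2 then cmpM a b else bif Nat.ble x.2 y.2 then 1 else 2
      else bif Nat.ble x.1 y.1 then 1 else 2) = 0 at h
    by_cases h1 : Nat.beq x.1 y.1 = true
    · by_cases h2 : Nat.beq x.2 y.2 = true
      · rw [h1, h2, cond_true, cond_true] at h
        rw [cmpM_eq_zero a b h, show x = y from Prod.ext (Nat.eq_of_beq_eq_true h1) (Nat.eq_of_beq_eq_true h2)]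
      · rw [Bool.not_eq_true] at h2
        rw [h1, h2] at h
        cases hh : Nat.ble x.2 y.2 <;> simp [hh] at h
    · rw [Bool.not_eq_true] at h1
      rw [h1] at h
      cases hh : Nat.ble x.1 y.1 <;> simp [hh] at h

/-- Adding a monomial. -/
def addM (m : Mono) (p : PPoly) : PPoly :=
  List.rec (motive := fun _ => PPoly) [m]
    (fun a p ih => bif Nat.beq (cmpM m a) 0 then p else bif Nat.beq (cmpM m a) 1 then m :: a :: p else a :: ih) p

theorem addM_nil (m : Mono) : addM m [] = [m] := rfl

theorem addM_cons (m a : Mono) (p : PPoly) : addM m (a :: p) =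
    bif Nat.beq (cmpM m a) 0 then p else bif Nat.beq (cmpM m a) 1 then m :: a :: p else a :: addM m p := rfl

/-- Sum of polynomials. -/
def addP (p q : PPoly) : PPoly := List.rec (motive := fun _ => PPoly) q (fun a _ ih => addM a ih) p

/-- Product of polynomials. -/
def mulP (p q : PPoly) : PPoly := List.rec (motive := fun _ => PPoly) [] (fun a _ ih => addP (q.map (mulM a)) ih) p

/-- Powers of polynomials. -/
def powP (p : PPoly) : ℕ → PPoly
  | 0 => [[]]
  | n + 1 => mulP p (powP p n)

/-- Image of a polynomial. -/
def sigP (p : PPoly) : PPoly := addP (p.map sigM) []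

/-- A variable. -/
def pv (k : ℕ) : PPoly := [List.replicate k (0, 0) ++ [(1, 0)]]

/-- The positive roots, orbit by orbit under the graph symmetry, by increasing height. -/
def order : List ℕ :=
  [36, 56, 37, 42, 39, 46, 38, 57, 40, 43, 47, 41, 58, 44, 48, 50, 45, 59,
   49, 61, 51, 52, 62, 53, 60, 54, 64, 63, 55, 67, 65, 66, 68, 69, 70, 71]

/-- The sums of pairs of positive roots, eight bits each, zero where the sum is not a root. -/
def sumData : ℕ := 0x470000000000000000000000000000000000000000000000000000000000000000000047000000000000004600000000000000000000000000000000000000000000000000004700000000000000460000450000000000000000000000000000000000000000000000470000000000000046000045004400000000000000000000000000000000000000000047000000000000464500000000000000000000000000000000000000000000000000004700000000000046004400000000420000000000000000000000000000000000000000470000000000004600004300000042004100000000000000000000000000000000000047000000000000000045440000424100000000000000000000000000000000000000004700000000000000004500430042004000003f00000000000000000000000000000000470000000000000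00000444300004140003f3e00000000000000000000000000000000000000460045440042413f00000000000000000000000000000000000000000000000000000046004500434200403e0000000000000000003c000000000000000000000000000000004600004443004140003d000000000000003c3b00000000000000000000000000000000004544430000003f3e3d00000000003c3b3a000000000000000000000000000000000000004241403f3e3d000000003c3b3a390000000000000000000000000000000047000046454200000000000000000000000000000000000000000000000000000000004700004600444100000000000000000000000000000000000037000000000000000000470000460000434000000000000000000000000000000000003700360000000000000047000000004544003f00000000000000000000000000000037360000000000000000004700000000450043003e00000000000000000000000000003700350000340000000000470000000000444300003d000000000000000000000000000036350034330000000000470000000000000042413f00000000000000000000000037363400000000000000000047000000000000004200403e00000000000000000000003700353300000000003100004700000000000000004140003d00000000000000000000003635003200000031300000470000000000000000003f3e3d0000000000000000000000003433320031302f00000000000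00000000046004544000000003c00000000000000373634000000000000000000000000000000004600450043000000003b000000000000370035330000000000000000002d0000000000460000444300000000003a00000000000036350032000000000000002d2c000000000000454443000000000000003900000000000034333200000000002d2c2b00000000000000460000000042410000003c00000000003736000000310000002d00000000000000000046000000004200400000003b00000000370035000000300000002c00000000002900004600000000004140000000003a000000003635000000002f0000002b000000292800000000004500004200003f00003c00000000370000340000310000002d00000029000000000000450000420000003e00003b00000037000000330000300000002c000000280000260000000044000041003f00003c00000000003600340000310000002d0000002900002600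

/-- The positions of the positive roots, eight bits each. -/
def posData : ℕ := 0x232221201d1f1e1a1b161318110c07011c191715140f120e0a05100d09030b0804060200

/-- The sum of two positive roots, zero where it is not a root. -/
def sumR (r s : ℕ) : ℕ := (sumData >>> (8 * ((r - 36) * 36 + (s - 36)))) % 256

/-- The position of a root. -/
def posR (r : ℕ) : ℕ := (posData >>> (8 * (r - 36))) % 256

/-- The terms of the exchange of two root elements. -/
def exTerms (r s : ℕ) (t u : PPoly) : PWord :=
  if sumR r s = 0 then [] else [(sumR r s, mulP t u)]

/-- Removing trivial factors. -/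
def prune (w : PWord) : PWord := w.filter fun e => decide (e.2 ≠ [])

/-- Insertion of the root elements of a word, from the right, without the trivial ones. -/
def insL (f : ℕ × PPoly → PWord → PWord) (L : PWord) (w : PWord) : PWord :=
  List.rec (motive := fun _ => PWord) w
    (fun e _ ih => match e.2 with
      | [] => ih
      | _ :: _ => f e ih) L

/-- Insertion of a root element into a collected word from the left. -/
def insN (n : ℕ) : ℕ × PPoly → PWord → PWord :=
  Nat.rec (motive := fun _ => ℕ × PPoly → PWord → PWord) (fun e w => e :: w)
    (fun _ ih e w => match w with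
      | [] => [e]
      | (r, t) :: rest =>
        bif Nat.beq r e.1 then match addP e.2 t with
          | [] => rest
          | p :: ps => (e.1, p :: ps) :: rest
        else bif Nat.ble (posR r + 1) (posR e.1) && Nat.ble 36 r && Nat.ble r 71 && Nat.ble 36 e.1 && Nat.ble e.1 71 then
          (r, t) :: insL ih (e :: exTerms r e.1 t e.2) rest
        else e :: (r, t) :: rest) n

/-- The collected word. -/
def collect (w : PWord) : PWord := insL (insN 150) w []

/-- The coefficient of a root. -/
def coef (w : PWord) (r : ℕ) : PPoly := ((w.find? fun e => e.1 == r).map (·.2)).getD []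

/-- The word with the given coefficients. -/
def fullW (cs : List PPoly) : PWord := order.zip cs

/-- Is the word in collected form? -/
def isCollected (w : PWord) : Bool := decide (prune (fullW (order.map (coef w))) = w)

section Eval

variable {K : Type*} [Field K] [CharP K 2] (ψ : K →+* K) (hψ : ∀ x, ψ (ψ x) = x)

/-- Value of a monomial. -/
def evM : List K → Mono → K
  | v :: vs, e :: m => v ^ e.1 * ψ v ^ e.2 * evM vs m
  | _, _ => 1

/-- Value of a polynomial. -/
def evP (vs : List K) (p : PPoly) : K := (p.map (evM ψ vs)).sum

variable {ψ}

omit [CharP K 2] in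
theorem evM_nil (vs : List K) : evM ψ vs [] = 1 := by cases vs <;> rfl

omit [CharP K 2] in
theorem evM_mul : ∀ (a b : Mono) (vs : List K), evM ψ vs (mulM a b) = evM ψ vs a * evM ψ vs b
  | [], b, vs => by rw [mulM_nil, evM_nil, one_mul]
  | _ :: _, [], vs => by rw [mulM_cons_nil, evM_nil, mul_one]
  | x :: a, y :: b, [] => by simp [evM]
  | x :: a, y :: b, v :: vs => by
    simp only [mulM_cons, evM, evM_mul a b vs, pow_add]
    ring

omit [CharP K 2] in
include hψ in
theorem evM_sig : ∀ (a : Mono) (vs : List K), evM ψ vs (sigM a) = ψ (evM ψ vs a)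
  | [], vs => by rw [sigM, List.map_nil, evM_nil, map_one]
  | x :: a, [] => by simp [evM]
  | x :: a, v :: vs => by
    have ih := evM_sig a vs
    simp only [sigM] at ih
    simp only [sigM, List.map_cons, evM, ih, map_mul, map_pow, hψ]
    ring

theorem evP_addM (vs : List K) (m : Mono) : ∀ p : PPoly, evP ψ vs (addM m p) = evM ψ vs m + evP ψ vs p
  | [] => by simp [addM_nil, evP]
  | a :: p => by
    rw [addM_cons]
    by_cases h : Nat.beq (cmpM m a) 0 = true
    · have := cmpM_eq_zero m a (Nat.eq_of_beq_eq_true h)
      subst this
      rw [h, cond_true]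
      simp only [evP, List.map_cons, List.sum_cons]
      rw [← add_assoc, CharTwo.add_self_eq_zero, zero_add]
    · rw [Bool.not_eq_true] at h
      rw [h, cond_false]
      by_cases h' : Nat.beq (cmpM m a) 1 = true
      · rw [h', cond_true]
        simp [evP]
      · rw [Bool.not_eq_true] at h'
        have ih := evP_addM vs m p
        simp only [evP] at ih
        rw [h', cond_false]
        simp only [evP, List.map_cons, List.sum_cons, ih]
        ring

theorem evP_add (vs : List K) (p q : PPoly) : evP ψ vs (addP p q) = evP ψ vs p + evP ψ vs q := by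
  induction p with
  | nil => simp [addP, evP]
  | cons a p ih =>
    rw [show addP (a :: p) q = addM a (addP p q) from rfl, evP_addM, ih]
    simp only [evP, List.map_cons, List.sum_cons]
    ring

theorem evP_mul (vs : List K) (p q : PPoly) : evP ψ vs (mulP p q) = evP ψ vs p * evP ψ vs q := by
  induction p with
  | nil => simp [mulP, evP]
  | cons a p ih =>
    rw [show mulP (a :: p) q = addP (q.map (mulM a)) (mulP p q) from rfl, evP_add, ih]
    simp only [evP, List.map_cons, List.sum_cons, List.map_map, Function.comp_def, evM_mul, List.sum_map_mul_left,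
      add_mul]

theorem evP_pow (vs : List K) (p : PPoly) : ∀ n, evP ψ vs (powP p n) = evP ψ vs p ^ n
  | 0 => by simp [powP, evP, evM_nil]
  | n + 1 => by rw [powP, evP_mul, evP_pow vs p n, pow_succ']

include hψ in
theorem evP_sig (vs : List K) (p : PPoly) : evP ψ vs (sigP p) = ψ (evP ψ vs p) := by
  rw [sigP, evP_add]
  simp [evP, map_list_sum, Function.comp_def, evM_sig hψ]

variable (ψ)

/-- Value of a word. -/
noncomputable def evW (vs : List K) (w : PWord) : GL chevE6.Idx K :=
  (w.map fun e => goodE6.xg e.1 (evP ψ vs e.2)).prod

variable {ψ}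

theorem evW_nil (vs : List K) : evW ψ vs [] = 1 := rfl

theorem evW_cons (vs : List K) (e : ℕ × PPoly) (w : PWord) :
    evW ψ vs (e :: w) = goodE6.xg e.1 (evP ψ vs e.2) * evW ψ vs w := rfl

theorem evW_append (vs : List K) (w w' : PWord) : evW ψ vs (w ++ w') = evW ψ vs w * evW ψ vs w' := by
  simp [evW]

theorem evW_prune (vs : List K) : ∀ w : PWord, evW ψ vs (prune w) = evW ψ vs w
  | [] => rfl
  | e :: w => by
    have ih := evW_prune vs w
    simp only [prune] at ih
    simp only [prune]
    by_cases h : e.2 = []
    · rw [List.filter_cons_of_neg (by simp [h]), ih, evW_cons, show evP ψ vs e.2 = 0 by rw [h]; rfl, goodE6.xg_zero,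
        one_mul]
    · rw [List.filter_cons_of_pos (by simp [h]), evW_cons, evW_cons, ih]

theorem sum_ok : ∀ r ∈ List.range' 36 36, ∀ s ∈ List.range' 36 36,
    ((chevE6.commTerms r s).filter fun c => decide (c.2.1 % 2 ≠ 0)).map (fun c => (c.1, c.2.2.1, c.2.2.2)) =
      if sumR r s = 0 then [] else [(sumR r s, 1, 1)] := by decide +kernel

theorem evW_exchange (vs : List K) {r s : ℕ} (hr : 36 ≤ r ∧ r < 72) (hs : 36 ≤ s ∧ s < 72)
    (hne : s ≠ chevE6.neg r) (hrs : s ≠ r) (t u : PPoly) :
    goodE6.xg r (evP ψ vs t) * (goodE6.xg s (evP ψ vs u) * evW ψ vs (exTerms r s t u)) =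
      goodE6.xg s (evP ψ vs u) * goodE6.xg r (evP ψ vs t) := by
  rw [Cfsg.Agent.H65.xg_mul_xg goodE6 (r := r) (s := s) hr.2 hs.2 hrs hne rfl, ← mul_assoc]
  congr 1
  have h := sum_ok r (List.mem_range'_1.2 ⟨hr.1, by omega⟩) s (List.mem_range'_1.2 ⟨hs.1, by omega⟩)
  have he : evW ψ vs (exTerms r s t u) = evW ψ vs (((chevE6.commTerms r s).filter fun c => decide (c.2.1 % 2 ≠ 0)).map
      fun c => (c.1, mulP (powP t c.2.2.1) (powP u c.2.2.2))) := by
    have h' := congrArg (List.map fun d : ℕ × ℕ × ℕ => (d.1, mulP (powP t d.2.1) (powP u d.2.2))) h
    rw [List.map_map] at h'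
    rw [exTerms]
    refine Eq.trans ?_ (congrArg (evW ψ vs) h').symm
    split <;> simp [evW, evP_mul, evP_pow]
  rw [he]
  induction chevE6.commTerms r s with
  | nil => rfl
  | cons c L ih =>
    simp only [List.filter_cons, List.map_cons, List.prod_cons]
    by_cases hc : c.2.1 % 2 = 0
    · have h0 : (c.2.1 : K) = 0 := (CharP.intCast_eq_zero_iff K 2 _).2 (Int.dvd_of_emod_eq_zero hc)
      rw [if_neg (by simp [hc]), ih, h0, zero_mul, zero_mul, goodE6.xg_zero, one_mul]
    · have h1 : (c.2.1 : K) = 1 := by
        obtain ⟨k, hk⟩ : ∃ k, c.2.1 = 2 * k + 1 := ⟨c.2.1 / 2, by omega⟩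
        rw [hk]; push_cast; rw [CharTwo.two_eq_zero]; ring
      simp only [ne_eq, hc, not_false_eq_true, decide_true, if_true, List.map_cons, evW_cons, ih, evP_mul, evP_pow,
        h1, one_mul, CharTwo.neg_eq]

theorem evW_foldr (vs : List K) {f : ℕ × PPoly → PWord → PWord}
    (hf : ∀ e w, evW ψ vs (f e w) = goodE6.xg e.1 (evP ψ vs e.2) * evW ψ vs w) :
    ∀ L w : PWord, evW ψ vs (insL f L w) = evW ψ vs L * evW ψ vs w
  | [], w => by rw [evW_nil, one_mul]; rfl
  | e :: L, w => by
    rw [evW_cons, mul_assoc, ← evW_foldr vs hf L w]
    obtain ⟨r, p⟩ := e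
    cases p with
    | nil =>
      change evW ψ vs (insL f L w) = _
      rw [show evP ψ vs ([] : PPoly) = 0 from rfl, goodE6.xg_zero, one_mul]
    | cons a p =>
      change evW ψ vs (f (r, a :: p) (insL f L w)) = _
      rw [hf]

theorem neg_lt_of_pos : ∀ r ∈ List.range' 36 36, chevE6.neg r < 36 := by decide +kernel

theorem evW_insN (vs : List K) : ∀ (n : ℕ) (e : ℕ × PPoly) (w : PWord),
    evW ψ vs (insN n e w) = goodE6.xg e.1 (evP ψ vs e.2) * evW ψ vs w
  | 0, _, _ => rfl
  | _ + 1, _, [] => rfl
  | n + 1, (s, u), (r, t) :: rest => by
    change evW ψ vs (bif Nat.beq r s then (match addP u t with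
          | [] => rest
          | p :: ps => (s, p :: ps) :: rest)
        else bif Nat.ble (posR r + 1) (posR s) && Nat.ble 36 r && Nat.ble r 71 && Nat.ble 36 s && Nat.ble s 71 then
          (r, t) :: insL (insN n) ((s, u) :: exTerms r s t u) rest
        else (s, u) :: (r, t) :: rest) = _
    by_cases hrs : Nat.beq r s = true
    · have := Nat.eq_of_beq_eq_true hrs
      subst this
      rw [hrs, cond_true]
      have e : goodE6.xg r (evP ψ vs u) * evW ψ vs ((r, t) :: rest) =
          goodE6.xg r (evP ψ vs (addP u t)) * evW ψ vs rest := by
        rw [evW_cons, ← mul_assoc, goodE6.xg_add, evP_add]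
      rw [e]
      cases hq : addP u t with
      | nil => rw [show evP ψ vs ([] : PPoly) = 0 from rfl, goodE6.xg_zero, one_mul]
      | cons a p => rfl
    · rw [Bool.not_eq_true] at hrs
      rw [hrs, cond_false]
      have hne' : r ≠ s := fun h => by rw [h, Nat.beq_refl] at hrs; exact Bool.false_ne_true hrs.symm
      by_cases hc : (Nat.ble (posR r + 1) (posR s) && Nat.ble 36 r && Nat.ble r 71 && Nat.ble 36 s &&
          Nat.ble s 71) = true
      · rw [hc, cond_true]
        simp only [Bool.and_eq_true, Nat.ble_eq] at hc
        obtain ⟨⟨⟨⟨-, hr1⟩, hr2⟩, hs1⟩, hs2⟩ := hc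
        have hne : s ≠ chevE6.neg r := fun h => by
          have := neg_lt_of_pos r (List.mem_range'_1.2 ⟨hr1, by omega⟩)
          omega
        rw [evW_cons, evW_foldr vs (fun e w => evW_insN vs n e w), evW_cons, evW_cons, ← mul_assoc (goodE6.xg r _),
          evW_exchange vs ⟨hr1, by omega⟩ ⟨hs1, by omega⟩ hne (fun h => hne' h.symm), mul_assoc]
      · rw [Bool.not_eq_true] at hc
        rw [hc, cond_false]
        rfl

theorem evW_collect (vs : List K) (w : PWord) : evW ψ vs (collect w) = evW ψ vs w := by
  rw [collect, evW_foldr vs (fun e w => evW_insN vs 150 e w), evW_nil, mul_one]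

/-- Words with equal collections have equal values. -/
theorem evW_eq (vs : List K) {w w' : PWord} (h : collect w = collect w') : evW ψ vs w = evW ψ vs w' := by
  rw [← evW_collect, h, evW_collect]

theorem suffix_closed : ∀ k < 36, ∀ r ∈ order.drop k, ∀ s ∈ order.drop k, ∀ c ∈ chevE6.commTerms r s,
    c.1 ∈ order.drop k := by decide +kernel

theorem order_facts : order.length = 36 ∧ order.Nodup ∧ ∀ r ∈ order, chevE6.IsPosRoot r := by decide +kernel

theorem coords_zero_aux (f : ℕ → K) : ∀ k, k ≤ 36 → ((order.drop k).map fun r => goodE6.xg r (f r)).prod = 1 →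
    ∀ r ∈ order.drop k, f r = 0 := by
  obtain ⟨hlen, hnd, hpos⟩ := order_facts
  intro k
  induction hd : 36 - k generalizing k with
  | zero =>
    intro hk _ r hr
    rw [List.drop_eq_nil_of_le (by omega)] at hr
    simp at hr
  | succ n ih =>
    intro hk he r hr
    have hk' : k < order.length := by omega
    rw [List.drop_eq_getElem_cons hk'] at he hr
    rw [List.map_cons, List.prod_cons] at he
    have hlast : k + 1 < 36 → ∀ a ∈ order.drop (k + 1), ∀ b ∈ order.drop (k + 1), ∀ c ∈ chevE6.commTerms a b,
        c.1 ∈ order.drop (k + 1) := fun h => suffix_closed (k + 1) h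
    have hcl : goodE6.PosClosed {x | x ∈ order.drop (k + 1)} := by
      refine Cfsg.Agent.H65.posClosed_list goodE6 _ fun a ha => ?_
      by_cases h : k + 1 < 36
      · exact hlast h a ha
      · rw [List.drop_eq_nil_of_le (by omega)] at ha
        simp at ha
    have hrest : ((order.drop (k + 1)).map fun r => goodE6.xg r (f r)).prod ∈
        goodE6.posSub (F := K) {x | x ∈ order.drop (k + 1)} := by
      refine Subgroup.list_prod_mem _ fun g hg => ?_
      obtain ⟨a, ha, rfl⟩ := List.mem_map.1 hg
      exact goodE6.xg_mem_posSub (hpos a (List.mem_of_mem_drop ha)) ha _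
    have h0 : f order[k] = 0 := by
      refine Cfsg.Agent.H65.eq_zero_of_xg_mem_posSub goodE6 hcl (hpos _ (List.getElem_mem hk')) ?_
        (eq_inv_of_mul_eq_one_left he ▸ inv_mem hrest)
      intro hm
      have hnd' : (order.drop k).Nodup := hnd.sublist (List.drop_sublist _ _)
      rw [List.drop_eq_getElem_cons hk', List.nodup_cons] at hnd'
      exact hnd'.1 hm
    rw [h0, goodE6.xg_zero, one_mul] at he
    rcases List.mem_cons.1 hr with rfl | hr
    · exact h0
    · exact ih (k + 1) (by omega) (by omega) he r hr

/-- The coordinates of a word of value one vanish. -/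
theorem coords_zero (vs : List K) {w : PWord} (hw : isCollected (collect w) = true) (h : evW ψ vs w = 1)
    {r : ℕ} (hr : r ∈ order) : evP ψ vs (coef (collect w) r) = 0 := by
  refine coords_zero_aux (fun r => evP ψ vs (coef (collect w) r)) 0 (by omega) ?_ r (by simpa using hr)
  simp only [isCollected, decide_eq_true_eq] at hw
  rw [List.drop_zero, ← h, ← evW_collect vs w]
  conv_rhs => rw [← hw, evW_prune]
  simp [evW, fullW, Function.comp_def, List.map_map, List.zip_eq_zipWith, List.zipWith_map_right, List.zipWith_self]

end Eval

end Cfsg.Agent.H71.E6Inv
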