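import Cfsg.Agent.H71.E6InvData

/-!
Certificate data for the classes of involutions of the twisted group of type E₆ in characteristic two (generated).
-/

set_option autoImplicit false
set_option maxRecDepth 100000

namespace Cfsg.Agent.H71.E6Inv

/-- The reduction of part 0. -/
def part0 : Tree :=
  (.sq 4 1 (.conj 1 none 4 false (.sq 7 5 (.sq 10 8 (.conj 5 none 7 false (.sq 11 9 (.conj 9 none 11 false (.sq 20 18 (.conj 16 none 19 false (.conj 18 none 20 false 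
  (.split 2 (.conj 13 none 17 false 
  (.split 3 (.sq 13 12 (.conj 10 none 15 false (.conj 16 none 19 false 
  (.split 6 (.sq 16 14 
  (.split 10 
  (.split 13 
  (.split 16 
  (.split 21 
  (.split 22 
  (.split 23 
  (.weyl [0,1,2,1,3,2,1] (.ref 2)) 
  (.weyl [1,2,1,3,2,1] (.ref 3))) (.conj 3 none 23 false 
  (.weyl [1,2,1,3,2,1,3] (.ref 3)))) (.conj 2 none 22 false (.conj 6 none 23 false 
  (.weyl [1,2,1,3,2,1,3,2] (.ref 3))))) (.conj 14 none 16 true (.conj 16 none 19 false 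
  (.split 21 
  (.split 22 
  (.split 23 
  (.weyl [0,1,2,1,3,2,1] (.ref 2)) 
  (.weyl [1,2,1,3,2,1] (.ref 3))) (.conj 3 none 23 false 
  (.weyl [1,2,1,3,2,1,3] (.ref 3)))) (.conj 2 none 22 false (.conj 6 none 23 false 
  (.weyl [1,2,1,3,2,1,3,2] (.ref 3)))))))) (.conj 12 none 13 true (.conj 13 none 17 false 
  (.split 16 
  (.split 21 
  (.split 22 
  (.split 23 
  (.weyl [0,1,2,1,3,2,1] (.ref 2)) 
  (.weyl [1,2,1,3,2,1] (.ref 3))) (.conj 3 none 23 false 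
  (.weyl [1,2,1,3,2,1,3] (.ref 3)))) (.conj 2 none 22 false (.conj 6 none 23 false 
  (.weyl [1,2,1,3,2,1,3,2] (.ref 3))))) (.conj 14 none 16 true (.conj 16 none 19 false 
  (.split 21 
  (.split 22 
  (.split 23 
  (.weyl [0,1,2,1,3,2,1] (.ref 2)) 
  (.weyl [1,2,1,3,2,1] (.ref 3))) (.conj 3 none 23 false 
  (.weyl [1,2,1,3,2,1,3] (.ref 3)))) (.conj 2 none 22 false (.conj 6 none 23 false 
  (.weyl [1,2,1,3,2,1,3,2] (.ref 3))))))))))) (.conj 8 none 10 true (.conj 10 none 15 false 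
  (.split 13 
  (.split 16 
  (.split 21 
  (.split 22 
  (.split 23 
  (.weyl [0,1,2,1,3,2,1] (.ref 2)) 
  (.weyl [1,2,1,3,2,1] (.ref 3))) (.conj 3 none 23 false 
  (.weyl [1,2,1,3,2,1,3] (.ref 3)))) (.conj 2 none 22 false (.conj 6 none 23 false 
  (.weyl [1,2,1,3,2,1,3,2] (.ref 3))))) (.conj 14 none 16 true (.conj 16 none 19 false 
  (.split 21 
  (.split 22 
  (.split 23 
  (.weyl [0,1,2,1,3,2,1] (.ref 2)) 
  (.weyl [1,2,1,3,2,1] (.ref 3))) (.conj 3 none 23 false 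
  (.weyl [1,2,1,3,2,1,3] (.ref 3)))) (.conj 2 none 22 false (.conj 6 none 23 false 
  (.weyl [1,2,1,3,2,1,3,2] (.ref 3)))))))) (.conj 12 none 13 true (.conj 13 none 17 false 
  (.split 16 
  (.split 21 
  (.split 22 
  (.split 23 
  (.weyl [0,1,2,1,3,2,1] (.ref 2)) 
  (.weyl [1,2,1,3,2,1] (.ref 3))) (.conj 3 none 23 false 
  (.weyl [1,2,1,3,2,1,3] (.ref 3)))) (.conj 2 none 22 false (.conj 6 none 23 false 
  (.weyl [1,2,1,3,2,1,3,2] (.ref 3))))) (.conj 14 none 16 true (.conj 16 none 19 false 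
  (.split 21 
  (.split 22 
  (.split 23 
  (.weyl [0,1,2,1,3,2,1] (.ref 2)) 
  (.weyl [1,2,1,3,2,1] (.ref 3))) (.conj 3 none 23 false 
  (.weyl [1,2,1,3,2,1,3] (.ref 3)))) (.conj 2 none 22 false (.conj 6 none 23 false 
  (.weyl [1,2,1,3,2,1,3,2] (.ref 3))))))))))))))) (.conj 21 none 23 false 
  (.split 10 (.sq 16 14 
  (.split 13 (.sq 23 21 
  (.split 16 
  (.split 22 
  (.weyl [2,1,0,2,1,3,2,1] (.ref 3)) 
  (.weyl [3] (.ref 6))) (.conj 14 none 16 true (.conj 15 none 19 false 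
  (.split 22 
  (.weyl [2,1,0,2,1,3,2,1] (.ref 3)) 
  (.weyl [3] (.ref 6))))))) (.conj 12 none 13 true (.sq 23 21 (.conj 13 none 17 false (.conj 21 none 23 false 
  (.split 16 
  (.split 22 
  (.weyl [2,1,0,2,1,3,2,1] (.ref 3)) 
  (.weyl [3] (.ref 6))) (.conj 14 none 16 true (.conj 15 none 19 false 
  (.split 22 
  (.weyl [2,1,0,2,1,3,2,1] (.ref 3)) 
  (.weyl [3] (.ref 6)))))))))))) (.conj 8 none 10 true (.sq 16 14 (.conj 10 none 15 false (.conj 15 none 19 false (.conj 21 none 23 false 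
  (.split 13 (.sq 23 21 
  (.split 16 
  (.split 22 
  (.weyl [2,1,0,2,1,3,2,1] (.ref 3)) 
  (.weyl [3] (.ref 6))) (.conj 14 none 16 true (.conj 15 none 19 false 
  (.split 22 
  (.weyl [2,1,0,2,1,3,2,1] (.ref 3)) 
  (.weyl [3] (.ref 6))))))) (.conj 12 none 13 true (.sq 23 21 (.conj 13 none 17 false (.conj 21 none 23 false 
  (.split 16 
  (.split 22 
  (.weyl [2,1,0,2,1,3,2,1] (.ref 3)) 
  (.weyl [3] (.ref 6))) (.conj 14 none 16 true (.conj 15 none 19 false 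
  (.split 22 
  (.weyl [2,1,0,2,1,3,2,1] (.ref 3)) 
  (.weyl [3] (.ref 6)))))))))))))))))))))) (.conj 2 none 6 false (.sq 16 14 (.conj 10 none 13 false (.conj 13 none 17 false (.conj 22 none 23 false 
  (.split 10 (.sq 13 12 (.sq 17 15 (.sq 23 22 
  (.split 16 
  (.split 21 
  (.weyl [2,1,0,2,1,3,2,1,2] (.ref 3)) 
  (.weyl [3,2] (.ref 6))) (.conj 14 none 16 true (.conj 16 none 19 false 
  (.split 21 
  (.weyl [2,1,0,2,1,3,2,1,2] (.ref 3)) 
  (.weyl [3,2] (.ref 6))))))))) (.conj 8 none 10 true (.sq 13 12 (.conj 10 none 13 false (.sq 17 15 (.sq 23 22 (.conj 15 none 17 false 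
  (.split 16 
  (.split 21 
  (.weyl [2,1,0,2,1,3,2,1,2] (.ref 3)) 
  (.weyl [3,2] (.ref 6))) (.conj 14 none 16 true (.conj 16 none 19 false 
  (.split 21 
  (.weyl [2,1,0,2,1,3,2,1,2] (.ref 3)) 
  (.weyl [3,2] (.ref 6)))))))))))))))))))) (.sq 6 3 (.sq 13 12 (.conj 3 none 6 false (.conj 10 none 15 false (.conj 13 none 16 false (.conj 16 none 19 false (.conj 21 none 22 false 
  (.split 10 (.sq 22 21 
  (.split 13 (.sq 16 14 (.sq 19 17 
  (.split 23 
  (.weyl [2,1,0,2,1,3,2,1,3] (.ref 3)) (.ref 6)))) (.conj 12 none 13 true (.sq 16 14 (.conj 13 none 16 false (.sq 19 17 (.conj 16 none 19 false 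
  (.split 23 
  (.weyl [2,1,0,2,1,3,2,1,3] (.ref 3)) (.ref 6))))))))) (.conj 8 none 10 true (.conj 10 none 15 false (.sq 22 21 (.conj 21 none 22 false 
  (.split 13 (.sq 16 14 (.sq 19 17 
  (.split 23 
  (.weyl [2,1,0,2,1,3,2,1,3] (.ref 3)) (.ref 6)))) (.conj 12 none 13 true (.sq 16 14 (.conj 13 none 16 false (.sq 19 17 (.conj 16 none 19 false 
  (.split 23 
  (.weyl [2,1,0,2,1,3,2,1,3] (.ref 3)) (.ref 6)))))))))))))))))))))))))))))))

theorem part0_ok : check states part0 [] [0] = true := by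
  decide +kernel

end Cfsg.Agent.H71.E6Inv
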