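import Cfsg.Agent.H71.E6InvData

/-!
Certificate data for the classes of involutions of the twisted group of type E₆ in characteristic two (generated).
-/

set_option autoImplicit false
set_option maxRecDepth 100000

namespace Cfsg.Agent.H71.E6Inv

/-- The reduction of part 1. -/
def part1 : Tree :=
  (.sq 5 2 (.conj 0 none 4 false (.sq 10 7 (.conj 5 none 8 false (.conj 7 none 10 false (.sq 13 11 (.conj 9 none 12 false (.conj 11 none 13 false (.sq 18 16 (.conj 16 none 18 false (.conj 20 none 21 false 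
  (.split 3 (.sq 9 6 
  (.split 5 
  (.split 9 (.sq 20 19 
  (.split 14 
  (.split 15 
  (.split 17 
  (.split 20 
  (.split 22 
  (.split 23 
  (.weyl [0,1,2,1,0,3,2] (.ref 2)) 
  (.weyl [1,2,1,0,3,2] (.ref 3))) (.conj 3 none 23 false 
  (.weyl [1,2,1,0,3,2,3] (.ref 3)))) (.conj 19 none 20 true (.conj 20 none 21 false 
  (.split 22 
  (.split 23 
  (.weyl [0,1,2,1,0,3,2] (.ref 2)) 
  (.weyl [1,2,1,0,3,2] (.ref 3))) (.conj 3 none 23 false 
  (.weyl [1,2,1,0,3,2,3] (.ref 3))))))) (.conj 14 none 23 false 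
  (.split 20 
  (.split 22 
  (.weyl [1,2,1,0,2,1,3,2] (.ref 3)) 
  (.weyl [1,0,3] (.ref 6))) (.conj 19 none 20 true (.conj 8 none 21 false 
  (.split 22 
  (.weyl [1,2,1,0,2,1,3,2] (.ref 3)) 
  (.weyl [1,0,3] (.ref 6)))))))) (.conj 3 none 17 false (.conj 14 none 22 false 
  (.split 20 
  (.split 23 
  (.weyl [1,2,1,0,2,1,3,2,3] (.ref 3)) 
  (.weyl [1,0] (.ref 6))) (.conj 19 none 20 true (.conj 12 none 21 false 
  (.split 23 
  (.weyl [1,2,1,0,2,1,3,2,3] (.ref 3)) 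
  (.weyl [1,0] (.ref 6))))))))) (.sq 22 15 (.sq 23 17 (.conj 15 none 22 false (.conj 17 none 23 false 
  (.split 20 
  (.weyl [2,1,3,2,1,0,3,2] (.ref 3)) (.conj 19 none 20 true (.conj 20 none 21 false 
  (.weyl [2,1,3,2,1,0,3,2] (.ref 3))))))))))) (.conj 6 none 9 true (.sq 20 19 (.conj 9 none 12 false 
  (.split 14 
  (.split 15 
  (.split 17 
  (.split 20 
  (.split 22 
  (.split 23 
  (.weyl [0,1,2,1,0,3,2] (.ref 2)) 
  (.weyl [1,2,1,0,3,2] (.ref 3))) (.conj 3 none 23 false 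
  (.weyl [1,2,1,0,3,2,3] (.ref 3)))) (.conj 19 none 20 true (.conj 20 none 21 false 
  (.split 22 
  (.split 23 
  (.weyl [0,1,2,1,0,3,2] (.ref 2)) 
  (.weyl [1,2,1,0,3,2] (.ref 3))) (.conj 3 none 23 false 
  (.weyl [1,2,1,0,3,2,3] (.ref 3))))))) (.conj 14 none 23 false 
  (.split 20 
  (.split 22 
  (.weyl [1,2,1,0,2,1,3,2] (.ref 3)) 
  (.weyl [1,0,3] (.ref 6))) (.conj 19 none 20 true (.conj 8 none 21 false 
  (.split 22 
  (.weyl [1,2,1,0,2,1,3,2] (.ref 3)) 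
  (.weyl [1,0,3] (.ref 6)))))))) (.conj 3 none 17 false (.conj 14 none 22 false 
  (.split 20 
  (.split 23 
  (.weyl [1,2,1,0,2,1,3,2,3] (.ref 3)) 
  (.weyl [1,0] (.ref 6))) (.conj 19 none 20 true (.conj 12 none 21 false 
  (.split 23 
  (.weyl [1,2,1,0,2,1,3,2,3] (.ref 3)) 
  (.weyl [1,0] (.ref 6))))))))) (.sq 22 15 (.sq 23 17 (.conj 15 none 22 false (.conj 17 none 23 false 
  (.split 20 
  (.weyl [2,1,3,2,1,0,3,2] (.ref 3)) (.conj 19 none 20 true (.conj 20 none 21 false 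
  (.weyl [2,1,3,2,1,0,3,2] (.ref 3)))))))))))))) (.conj 2 none 5 true (.conj 5 none 8 false 
  (.split 9 (.sq 20 19 
  (.split 14 
  (.split 15 
  (.split 17 
  (.split 20 
  (.split 22 
  (.split 23 
  (.weyl [0,1,2,1,0,3,2] (.ref 2)) 
  (.weyl [1,2,1,0,3,2] (.ref 3))) (.conj 3 none 23 false 
  (.weyl [1,2,1,0,3,2,3] (.ref 3)))) (.conj 19 none 20 true (.conj 20 none 21 false 
  (.split 22 
  (.split 23 
  (.weyl [0,1,2,1,0,3,2] (.ref 2)) 
  (.weyl [1,2,1,0,3,2] (.ref 3))) (.conj 3 none 23 false 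
  (.weyl [1,2,1,0,3,2,3] (.ref 3))))))) (.conj 14 none 23 false 
  (.split 20 
  (.split 22 
  (.weyl [1,2,1,0,2,1,3,2] (.ref 3)) 
  (.weyl [1,0,3] (.ref 6))) (.conj 19 none 20 true (.conj 8 none 21 false 
  (.split 22 
  (.weyl [1,2,1,0,2,1,3,2] (.ref 3)) 
  (.weyl [1,0,3] (.ref 6)))))))) (.conj 3 none 17 false (.conj 14 none 22 false 
  (.split 20 
  (.split 23 
  (.weyl [1,2,1,0,2,1,3,2,3] (.ref 3)) 
  (.weyl [1,0] (.ref 6))) (.conj 19 none 20 true (.conj 12 none 21 false 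
  (.split 23 
  (.weyl [1,2,1,0,2,1,3,2,3] (.ref 3)) 
  (.weyl [1,0] (.ref 6))))))))) (.sq 22 15 (.sq 23 17 (.conj 15 none 22 false (.conj 17 none 23 false 
  (.split 20 
  (.weyl [2,1,3,2,1,0,3,2] (.ref 3)) (.conj 19 none 20 true (.conj 20 none 21 false 
  (.weyl [2,1,3,2,1,0,3,2] (.ref 3))))))))))) (.conj 6 none 9 true (.sq 20 19 (.conj 9 none 12 false 
  (.split 14 
  (.split 15 
  (.split 17 
  (.split 20 
  (.split 22 
  (.split 23 
  (.weyl [0,1,2,1,0,3,2] (.ref 2)) 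
  (.weyl [1,2,1,0,3,2] (.ref 3))) (.conj 3 none 23 false 
  (.weyl [1,2,1,0,3,2,3] (.ref 3)))) (.conj 19 none 20 true (.conj 20 none 21 false 
  (.split 22 
  (.split 23 
  (.weyl [0,1,2,1,0,3,2] (.ref 2)) 
  (.weyl [1,2,1,0,3,2] (.ref 3))) (.conj 3 none 23 false 
  (.weyl [1,2,1,0,3,2,3] (.ref 3))))))) (.conj 14 none 23 false 
  (.split 20 
  (.split 22 
  (.weyl [1,2,1,0,2,1,3,2] (.ref 3)) 
  (.weyl [1,0,3] (.ref 6))) (.conj 19 none 20 true (.conj 8 none 21 false 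
  (.split 22 
  (.weyl [1,2,1,0,2,1,3,2] (.ref 3)) 
  (.weyl [1,0,3] (.ref 6)))))))) (.conj 3 none 17 false (.conj 14 none 22 false 
  (.split 20 
  (.split 23 
  (.weyl [1,2,1,0,2,1,3,2,3] (.ref 3)) 
  (.weyl [1,0] (.ref 6))) (.conj 19 none 20 true (.conj 12 none 21 false 
  (.split 23 
  (.weyl [1,2,1,0,2,1,3,2,3] (.ref 3)) 
  (.weyl [1,0] (.ref 6))))))))) (.sq 22 15 (.sq 23 17 (.conj 15 none 22 false (.conj 17 none 23 false 
  (.split 20 
  (.weyl [2,1,3,2,1,0,3,2] (.ref 3)) (.conj 19 none 20 true (.conj 20 none 21 false 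
  (.weyl [2,1,3,2,1,0,3,2] (.ref 3)))))))))))))))))) (.sq 17 15 (.conj 15 none 17 false (.sq 20 19 (.conj 22 none 23 false 
  (.split 5 (.sq 9 6 
  (.split 9 (.sq 23 22 
  (.split 14 
  (.split 20 
  (.weyl [2,1,3,2,1,0,1,3,2] (.ref 3)) (.conj 19 none 20 true (.conj 20 none 21 false 
  (.weyl [2,1,3,2,1,0,1,3,2] (.ref 3))))) 
  (.split 20 
  (.weyl [3,2,1,0] (.ref 6)) (.conj 19 none 20 true (.conj 20 none 21 false 
  (.weyl [3,2,1,0] (.ref 6))))))) (.conj 6 none 9 true (.sq 23 22 (.conj 8 none 12 false 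
  (.split 14 
  (.split 20 
  (.weyl [2,1,3,2,1,0,1,3,2] (.ref 3)) (.conj 19 none 20 true (.conj 20 none 21 false 
  (.weyl [2,1,3,2,1,0,1,3,2] (.ref 3))))) 
  (.split 20 
  (.weyl [3,2,1,0] (.ref 6)) (.conj 19 none 20 true (.conj 20 none 21 false 
  (.weyl [3,2,1,0] (.ref 6))))))))))) (.conj 2 none 5 true (.sq 9 6 (.conj 5 none 8 false (.conj 8 none 12 false 
  (.split 9 (.sq 23 22 
  (.split 14 
  (.split 20 
  (.weyl [2,1,3,2,1,0,1,3,2] (.ref 3)) (.conj 19 none 20 true (.conj 20 none 21 false 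
  (.weyl [2,1,3,2,1,0,1,3,2] (.ref 3))))) 
  (.split 20 
  (.weyl [3,2,1,0] (.ref 6)) (.conj 19 none 20 true (.conj 20 none 21 false 
  (.weyl [3,2,1,0] (.ref 6))))))) (.conj 6 none 9 true (.sq 23 22 (.conj 8 none 12 false 
  (.split 14 
  (.split 20 
  (.weyl [2,1,3,2,1,0,1,3,2] (.ref 3)) (.conj 19 none 20 true (.conj 20 none 21 false 
  (.weyl [2,1,3,2,1,0,1,3,2] (.ref 3))))) 
  (.split 20 
  (.weyl [3,2,1,0] (.ref 6)) (.conj 19 none 20 true (.conj 20 none 21 false 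
  (.weyl [3,2,1,0] (.ref 6)))))))))))))))))))))))))))))))

theorem part1_ok : check states part1 [0] [1] = true := by
  decide +kernel

end Cfsg.Agent.H71.E6Inv
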