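import Cfsg.Agent.H71.E6InvData

/-!
Certificate data for the classes of involutions of the twisted group of type E₆ in characteristic two (generated).
-/

set_option autoImplicit false
set_option maxRecDepth 100000

namespace Cfsg.Agent.H71.E6Inv

/-- The reduction of part 4. -/
def part4 : Tree :=
  (.sq 10 5 (.sq 11 6 (.sq 13 9 (.conj 5 none 10 false (.conj 9 none 13 false (.sq 20 16 (.conj 7 none 15 false (.conj 11 none 17 false (.conj 16 none 20 false (.conj 18 none 21 false 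
  (.split 7 
  (.split 8 (.sq 18 14 
  (.split 11 
  (.split 12 
  (.split 18 
  (.split 19 
  (.split 22 
  (.split 23 
  (.weyl [0,1,2,1,3,2] (.ref 2)) 
  (.weyl [1,2,1,3,2] (.ref 3))) (.conj 3 none 23 false 
  (.weyl [1,2,1,3,2,3] (.ref 3)))) (.conj 8 none 22 false (.conj 12 none 23 false 
  (.weyl [2,1,3,2,1,3,2] (.ref 3))))) (.conj 14 none 18 true (.conj 18 none 21 false 
  (.split 19 
  (.split 22 
  (.split 23 
  (.weyl [0,1,2,1,3,2] (.ref 2)) 
  (.weyl [1,2,1,3,2] (.ref 3))) (.conj 3 none 23 false 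
  (.weyl [1,2,1,3,2,3] (.ref 3)))) (.conj 8 none 22 false (.conj 12 none 23 false 
  (.weyl [2,1,3,2,1,3,2] (.ref 3)))))))) (.sq 23 19 (.conj 19 none 23 false 
  (.split 18 
  (.split 22 
  (.weyl [2,1,0,2,1,3,2] (.ref 3)) 
  (.weyl [1,3] (.ref 6))) (.conj 14 none 18 true (.conj 15 none 21 false 
  (.split 22 
  (.weyl [2,1,0,2,1,3,2] (.ref 3)) 
  (.weyl [1,3] (.ref 6))))))))) (.conj 6 none 11 true (.conj 11 none 17 false 
  (.split 12 
  (.split 18 
  (.split 19 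
  (.split 22 
  (.split 23 
  (.weyl [0,1,2,1,3,2] (.ref 2)) 
  (.weyl [1,2,1,3,2] (.ref 3))) (.conj 3 none 23 false 
  (.weyl [1,2,1,3,2,3] (.ref 3)))) (.conj 8 none 22 false (.conj 12 none 23 false 
  (.weyl [2,1,3,2,1,3,2] (.ref 3))))) (.conj 14 none 18 true (.conj 18 none 21 false 
  (.split 19 
  (.split 22 
  (.split 23 
  (.weyl [0,1,2,1,3,2] (.ref 2)) 
  (.weyl [1,2,1,3,2] (.ref 3))) (.conj 3 none 23 false 
  (.weyl [1,2,1,3,2,3] (.ref 3)))) (.conj 8 none 22 false (.conj 12 none 23 false 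
  (.weyl [2,1,3,2,1,3,2] (.ref 3)))))))) (.sq 23 19 (.conj 19 none 23 false 
  (.split 18 
  (.split 22 
  (.weyl [2,1,0,2,1,3,2] (.ref 3)) 
  (.weyl [1,3] (.ref 6))) (.conj 14 none 18 true (.conj 15 none 21 false 
  (.split 22 
  (.weyl [2,1,0,2,1,3,2] (.ref 3)) 
  (.weyl [1,3] (.ref 6))))))))))))) (.sq 22 19 (.conj 3 none 12 false (.conj 19 none 22 false 
  (.split 11 (.sq 18 14 
  (.split 18 
  (.split 23 
  (.weyl [2,1,0,2,1,3,2,3] (.ref 3)) 
  (.weyl [1] (.ref 6))) (.conj 14 none 18 true (.conj 17 none 21 false 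
  (.split 23 
  (.weyl [2,1,0,2,1,3,2,3] (.ref 3)) 
  (.weyl [1] (.ref 6))))))) (.conj 6 none 11 true (.sq 18 14 (.conj 11 none 17 false (.conj 17 none 21 false 
  (.split 18 
  (.split 23 
  (.weyl [2,1,0,2,1,3,2,3] (.ref 3)) 
  (.weyl [1] (.ref 6))) (.conj 14 none 18 true (.conj 17 none 21 false 
  (.split 23 
  (.weyl [2,1,0,2,1,3,2,3] (.ref 3)) 
  (.weyl [1] (.ref 6))))))))))))))) (.conj 2 none 7 true (.conj 7 none 15 false (.conj 18 none 21 false 
  (.split 8 (.sq 18 14 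
  (.split 11 
  (.split 12 
  (.split 18 
  (.split 19 
  (.split 22 
  (.split 23 
  (.weyl [0,1,2,1,3,2] (.ref 2)) 
  (.weyl [1,2,1,3,2] (.ref 3))) (.conj 3 none 23 false 
  (.weyl [1,2,1,3,2,3] (.ref 3)))) (.conj 8 none 22 false (.conj 12 none 23 false 
  (.weyl [2,1,3,2,1,3,2] (.ref 3))))) (.conj 14 none 18 true (.conj 18 none 21 false 
  (.split 19 
  (.split 22 
  (.split 23 
  (.weyl [0,1,2,1,3,2] (.ref 2)) 
  (.weyl [1,2,1,3,2] (.ref 3))) (.conj 3 none 23 false 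
  (.weyl [1,2,1,3,2,3] (.ref 3)))) (.conj 8 none 22 false (.conj 12 none 23 false 
  (.weyl [2,1,3,2,1,3,2] (.ref 3)))))))) (.sq 23 19 (.conj 19 none 23 false 
  (.split 18 
  (.split 22 
  (.weyl [2,1,0,2,1,3,2] (.ref 3)) 
  (.weyl [1,3] (.ref 6))) (.conj 14 none 18 true (.conj 15 none 21 false 
  (.split 22 
  (.weyl [2,1,0,2,1,3,2] (.ref 3)) 
  (.weyl [1,3] (.ref 6))))))))) (.conj 6 none 11 true (.conj 11 none 17 false 
  (.split 12 
  (.split 18 
  (.split 19 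
  (.split 22 
  (.split 23 
  (.weyl [0,1,2,1,3,2] (.ref 2)) 
  (.weyl [1,2,1,3,2] (.ref 3))) (.conj 3 none 23 false 
  (.weyl [1,2,1,3,2,3] (.ref 3)))) (.conj 8 none 22 false (.conj 12 none 23 false 
  (.weyl [2,1,3,2,1,3,2] (.ref 3))))) (.conj 14 none 18 true (.conj 18 none 21 false 
  (.split 19 
  (.split 22 
  (.split 23 
  (.weyl [0,1,2,1,3,2] (.ref 2)) 
  (.weyl [1,2,1,3,2] (.ref 3))) (.conj 3 none 23 false 
  (.weyl [1,2,1,3,2,3] (.ref 3)))) (.conj 8 none 22 false (.conj 12 none 23 false 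
  (.weyl [2,1,3,2,1,3,2] (.ref 3)))))))) (.sq 23 19 (.conj 19 none 23 false 
  (.split 18 
  (.split 22 
  (.weyl [2,1,0,2,1,3,2] (.ref 3)) 
  (.weyl [1,3] (.ref 6))) (.conj 14 none 18 true (.conj 15 none 21 false 
  (.split 22 
  (.weyl [2,1,0,2,1,3,2] (.ref 3)) 
  (.weyl [1,3] (.ref 6))))))))))))) (.sq 22 19 (.conj 3 none 12 false (.conj 19 none 22 false 
  (.split 11 (.sq 18 14 
  (.split 18 
  (.split 23 
  (.weyl [2,1,0,2,1,3,2,3] (.ref 3)) 
  (.weyl [1] (.ref 6))) (.conj 14 none 18 true (.conj 17 none 21 false 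
  (.split 23 
  (.weyl [2,1,0,2,1,3,2,3] (.ref 3)) 
  (.weyl [1] (.ref 6))))))) (.conj 6 none 11 true (.sq 18 14 (.conj 11 none 17 false (.conj 17 none 21 false 
  (.split 18 
  (.split 23 
  (.weyl [2,1,0,2,1,3,2,3] (.ref 3)) 
  (.weyl [1] (.ref 6))) (.conj 14 none 18 true (.conj 17 none 21 false 
  (.split 23 
  (.weyl [2,1,0,2,1,3,2,3] (.ref 3)) 
  (.weyl [1] (.ref 6)))))))))))))))))))))))))))))

theorem part4_ok : check states part4 [3, 2, 1, 0] [4] = true := by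
  decide +kernel

end Cfsg.Agent.H71.E6Inv
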