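import Cfsg.Agent.H71.E6InvData

/-!
Certificate data for the classes of involutions of the twisted group of type E₆ in characteristic two (generated).
-/

set_option autoImplicit false
set_option maxRecDepth 100000

namespace Cfsg.Agent.H71.E6Inv

/-- The reduction of part 5. -/
def part5 : Tree :=
  (.conj 0 none 7 false (.conj 1 none 8 false (.conj 4 none 10 false (.sq 16 11 (.sq 18 13 (.conj 9 none 14 false (.conj 11 none 16 false (.conj 13 none 18 false (.conj 20 none 22 false 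
  (.split 6 
  (.split 9 (.sq 20 17 
  (.split 12 
  (.split 15 
  (.split 19 
  (.split 20 
  (.split 21 
  (.split 23 
  (.weyl [0,1,2,1,0,3] (.ref 2)) 
  (.weyl [1,2,1,0,3] (.ref 3))) (.conj 6 none 23 false 
  (.weyl [1,2,1,0,2,3] (.ref 3)))) (.conj 17 none 20 true (.conj 20 none 22 false 
  (.split 21 
  (.split 23 
  (.weyl [0,1,2,1,0,3] (.ref 2)) 
  (.weyl [1,2,1,0,3] (.ref 3))) (.conj 6 none 23 false 
  (.weyl [1,2,1,0,2,3] (.ref 3))))))) (.conj 12 none 23 false 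
  (.split 20 
  (.split 21 
  (.weyl [1,2,1,0,2,1,3] (.ref 3)) 
  (.weyl [1,0,3,2] (.ref 6))) (.conj 17 none 20 true (.conj 8 none 22 false 
  (.split 21 
  (.weyl [1,2,1,0,2,1,3] (.ref 3)) 
  (.weyl [1,0,3,2] (.ref 6)))))))) (.conj 6 none 19 false (.conj 12 none 21 false 
  (.split 20 
  (.split 23 
  (.weyl [1,2,1,0,2,1,2,3] (.ref 3)) 
  (.weyl [1,0,2] (.ref 6))) (.conj 17 none 20 true (.conj 14 none 22 false 
  (.split 23 
  (.weyl [1,2,1,0,2,1,2,3] (.ref 3)) 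
  (.weyl [1,0,2] (.ref 6))))))))) (.sq 21 15 (.sq 23 19 (.conj 15 none 21 false (.conj 19 none 23 false 
  (.split 20 
  (.weyl [2,1,3,2,1,0,3] (.ref 3)) (.conj 17 none 20 true (.conj 20 none 22 false 
  (.weyl [2,1,3,2,1,0,3] (.ref 3))))))))))) (.conj 3 none 9 true (.sq 20 17 (.conj 9 none 14 false 
  (.split 12 
  (.split 15 
  (.split 19 
  (.split 20 
  (.split 21 
  (.split 23 
  (.weyl [0,1,2,1,0,3] (.ref 2)) 
  (.weyl [1,2,1,0,3] (.ref 3))) (.conj 6 none 23 false 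
  (.weyl [1,2,1,0,2,3] (.ref 3)))) (.conj 17 none 20 true (.conj 20 none 22 false 
  (.split 21 
  (.split 23 
  (.weyl [0,1,2,1,0,3] (.ref 2)) 
  (.weyl [1,2,1,0,3] (.ref 3))) (.conj 6 none 23 false 
  (.weyl [1,2,1,0,2,3] (.ref 3))))))) (.conj 12 none 23 false 
  (.split 20 
  (.split 21 
  (.weyl [1,2,1,0,2,1,3] (.ref 3)) 
  (.weyl [1,0,3,2] (.ref 6))) (.conj 17 none 20 true (.conj 8 none 22 false 
  (.split 21 
  (.weyl [1,2,1,0,2,1,3] (.ref 3)) 
  (.weyl [1,0,3,2] (.ref 6)))))))) (.conj 6 none 19 false (.conj 12 none 21 false 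
  (.split 20 
  (.split 23 
  (.weyl [1,2,1,0,2,1,2,3] (.ref 3)) 
  (.weyl [1,0,2] (.ref 6))) (.conj 17 none 20 true (.conj 14 none 22 false 
  (.split 23 
  (.weyl [1,2,1,0,2,1,2,3] (.ref 3)) 
  (.weyl [1,0,2] (.ref 6))))))))) (.sq 21 15 (.sq 23 19 (.conj 15 none 21 false (.conj 19 none 23 false 
  (.split 20 
  (.weyl [2,1,3,2,1,0,3] (.ref 3)) (.conj 17 none 20 true (.conj 20 none 22 false 
  (.weyl [2,1,3,2,1,0,3] (.ref 3)))))))))))))) (.sq 19 15 (.sq 20 17 (.conj 15 none 19 false (.conj 21 none 23 false 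
  (.split 9 (.sq 23 21 
  (.split 12 
  (.split 20 
  (.weyl [2,1,3,2,1,0,1,3] (.ref 3)) (.conj 17 none 20 true (.conj 20 none 22 false 
  (.weyl [2,1,3,2,1,0,1,3] (.ref 3))))) 
  (.split 20 
  (.weyl [3,2,1,0,2] (.ref 6)) (.conj 17 none 20 true (.conj 20 none 22 false 
  (.weyl [3,2,1,0,2] (.ref 6))))))) (.conj 3 none 9 true (.sq 23 21 (.conj 8 none 14 false 
  (.split 12 
  (.split 20 
  (.weyl [2,1,3,2,1,0,1,3] (.ref 3)) (.conj 17 none 20 true (.conj 20 none 22 false 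
  (.weyl [2,1,3,2,1,0,1,3] (.ref 3))))) 
  (.split 20 
  (.weyl [3,2,1,0,2] (.ref 6)) (.conj 17 none 20 true (.conj 20 none 22 false 
  (.weyl [3,2,1,0,2] (.ref 6))))))))))))))))))))))))

theorem part5_ok : check states part5 [4, 3, 2, 1, 0] [5] = true := by
  decide +kernel

end Cfsg.Agent.H71.E6Inv
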