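import Cfsg.Agent.H71.E6InvPart0
import Cfsg.Agent.H71.E6InvPart1
import Cfsg.Agent.H71.E6InvPart2
import Cfsg.Agent.H71.E6InvPart3
import Cfsg.Agent.H71.E6InvPart4
import Cfsg.Agent.H71.E6InvPart5
import Cfsg.Agent.H71.E6InvPart6
import Cfsg.Agent.H71.E6InvPart7
import Cfsg.Agent.H71.E6InvPart8
import Cfsg.Agent.H71.E6InvPart9
import Cfsg.Agent.H71.E6InvPart10
import Cfsg.Agent.H71.E6InvPart11
import Cfsg.Agent.H71.E6InvPart12
import Cfsg.Agent.H71.E6InvPart13
import Cfsg.Agent.H71.E6InvPart14

/-!
Certificate data for the classes of involutions of the twisted group of type E₆ in characteristic two (generated).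
-/

set_option autoImplicit false
set_option maxRecDepth 100000

namespace Cfsg.Agent.H71.E6Inv

/-- The tree from split 13 on. -/
def spine13 : Tree := .split 13 part14 part13

theorem spine13_ok : check states spine13 [12, 11, 10, 9, 8, 7, 6, 5, 4, 3, 2, 1, 0] [] = true := by
  simp only [spine13, check, part14_ok, part13_ok, Bool.and_true]
  rfl

/-- The tree from split 12 on. -/
def spine12 : Tree := .split 12 spine13 part12

theorem spine12_ok : check states spine12 [11, 10, 9, 8, 7, 6, 5, 4, 3, 2, 1, 0] [] = true := by
  simp only [spine12, check, spine13_ok, part12_ok, Bool.and_true]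
  rfl

/-- The tree from split 11 on. -/
def spine11 : Tree := .split 11 spine12 part11

theorem spine11_ok : check states spine11 [10, 9, 8, 7, 6, 5, 4, 3, 2, 1, 0] [] = true := by
  simp only [spine11, check, spine12_ok, part11_ok, Bool.and_true]
  rfl

/-- The tree from split 10 on. -/
def spine10 : Tree := .split 10 spine11 part10

theorem spine10_ok : check states spine10 [9, 8, 7, 6, 5, 4, 3, 2, 1, 0] [] = true := by
  simp only [spine10, check, spine11_ok, part10_ok, Bool.and_true]
  rfl

/-- The tree from split 9 on. -/
def spine9 : Tree := .split 9 spine10 part9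

theorem spine9_ok : check states spine9 [8, 7, 6, 5, 4, 3, 2, 1, 0] [] = true := by
  simp only [spine9, check, spine10_ok, part9_ok, Bool.and_true]
  rfl

/-- The tree from split 8 on. -/
def spine8 : Tree := .split 8 spine9 part8

theorem spine8_ok : check states spine8 [7, 6, 5, 4, 3, 2, 1, 0] [] = true := by
  simp only [spine8, check, spine9_ok, part8_ok, Bool.and_true]
  rfl

/-- The tree from split 7 on. -/
def spine7 : Tree := .split 7 spine8 part7

theorem spine7_ok : check states spine7 [6, 5, 4, 3, 2, 1, 0] [] = true := by
  simp only [spine7, check, spine8_ok, part7_ok, Bool.and_true]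
  rfl

/-- The tree from split 6 on. -/
def spine6 : Tree := .split 6 spine7 part6

theorem spine6_ok : check states spine6 [5, 4, 3, 2, 1, 0] [] = true := by
  simp only [spine6, check, spine7_ok, part6_ok, Bool.and_true]
  rfl

/-- The tree from split 5 on. -/
def spine5 : Tree := .split 5 spine6 part5

theorem spine5_ok : check states spine5 [4, 3, 2, 1, 0] [] = true := by
  simp only [spine5, check, spine6_ok, part5_ok, Bool.and_true]
  rfl

/-- The tree from split 4 on. -/
def spine4 : Tree := .split 4 spine5 part4

theorem spine4_ok : check states spine4 [3, 2, 1, 0] [] = true := by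
  simp only [spine4, check, spine5_ok, part4_ok, Bool.and_true]
  rfl

/-- The tree from split 3 on. -/
def spine3 : Tree := .split 3 spine4 part3

theorem spine3_ok : check states spine3 [2, 1, 0] [] = true := by
  simp only [spine3, check, spine4_ok, part3_ok, Bool.and_true]
  rfl

/-- The tree from split 2 on. -/
def spine2 : Tree := .split 2 spine3 part2

theorem spine2_ok : check states spine2 [1, 0] [] = true := by
  simp only [spine2, check, spine3_ok, part2_ok, Bool.and_true]
  rfl

/-- The tree from split 1 on. -/
def spine1 : Tree := .split 1 spine2 part1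

theorem spine1_ok : check states spine1 [0] [] = true := by
  simp only [spine1, check, spine2_ok, part1_ok, Bool.and_true]
  rfl

/-- The tree from split 0 on. -/
def spine0 : Tree := .split 0 spine1 part0

theorem spine0_ok : check states spine0 [] [] = true := by
  simp only [spine0, check, spine1_ok, part0_ok, Bool.and_true]
  rfl

/-- The reduction of a general element. -/
def topTree : Tree := spine0

theorem topTree_ok : check states topTree [] [] = true := spine0_ok

end Cfsg.Agent.H71.E6Inv
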