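import Cfsg.Agent.H71.F4InvCert

/-!
Certificate data for the classes of involutions of type F₄ in characteristic two (generated).
-/

set_option autoImplicit false
set_option maxRecDepth 100000

open Cfsg.Agent.H71.ReeF4

namespace Cfsg.Agent.H71.F4Inv

/-- The states resolved one after another. -/
def states : List (List ℕ) := [[], [11], [10], [10, 11], [12, 13], [1, 13, 20], [1, 3, 12, 15], [1, 3, 6], [1, 8, 20], [1, 19, 20], [1, 8, 13, 20], [1, 13, 19, 20], [1, 19], [1, 7, 19], [1, 7, 13, 19]]

/-- The reduction of state 5. -/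
def tree5 : Tree :=
  (.conj 18 13 (.conj 4 6 
  (.weyl [2,1,2,3,1,2,0,1,2,0] (.ref 4))))

theorem tree5_ok : check (states.take 5) tree5 ((List.range 24).filter fun k => !([1, 13, 20] : List ℕ).contains k) [1, 13, 20] = true := by
  decide +kernel

/-- The reduction of state 6. -/
def tree6 : Tree :=
  
  (.weyl [2,1] (.conj 21 3 
  (.weyl [2,0,1,2,3,2,1,2,0,1,0] (.ref 5))))

theorem tree6_ok : check (states.take 6) tree6 ((List.range 24).filter fun k => !([1, 3, 12, 15] : List ℕ).contains k) [1, 3, 12, 15] = true := by
  decide +kernel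

/-- The reduction of state 7. -/
def tree7 : Tree :=
  
  (.weyl [2] (.conj 21 3 
  (.weyl [1,2,0,1,2,0,1] (.ref 4))))

theorem tree7_ok : check (states.take 7) tree7 ((List.range 24).filter fun k => !([1, 3, 6] : List ℕ).contains k) [1, 3, 6] = true := by
  decide +kernel

/-- The reduction of state 8. -/
def tree8 : Tree :=
  (.conj 3 8 (.conj 23 15 
  (.weyl [2,1,2,3,1,2,0,1,2,0] (.ref 4))))

theorem tree8_ok : check (states.take 8) tree8 ((List.range 24).filter fun k => !([1, 8, 20] : List ℕ).contains k) [1, 8, 20] = true := by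
  decide +kernel

/-- The reduction of state 9. -/
def tree9 : Tree :=
  (.conj 22 19 (.split 8 
  (.weyl [2,1,2,3,1,2,0,1,2,0] (.ref 4)) (.ref 8)))

theorem tree9_ok : check (states.take 9) tree9 ((List.range 24).filter fun k => !([1, 19, 20] : List ℕ).contains k) [1, 19, 20] = true := by
  decide +kernel

/-- The reduction of state 10. -/
def tree10 : Tree :=
  (.conj 3 8 (.conj 23 15 (.conj 17 11 (.ref 5))))

theorem tree10_ok : check (states.take 10) tree10 ((List.range 24).filter fun k => !([1, 8, 13, 20] : List ℕ).contains k) [1, 8, 13, 20] = true := by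
  decide +kernel

/-- The reduction of state 11. -/
def tree11 : Tree :=
  (.conj 22 19 (.split 8 (.ref 5) (.ref 10)))

theorem tree11_ok : check (states.take 11) tree11 ((List.range 24).filter fun k => !([1, 13, 19, 20] : List ℕ).contains k) [1, 13, 19, 20] = true := by
  decide +kernel

/-- The reduction of state 12. -/
def tree12 : Tree :=
  (.conj 22 19 (.split 8 
  (.weyl [3,2,1,2,0,1,2] (.ref 1)) 
  (.weyl [3,2,1,2,0,1,2,1,0] (.ref 3))))

theorem tree12_ok : check (states.take 12) tree12 ((List.range 24).filter fun k => !([1, 19] : List ℕ).contains k) [1, 19] = true := by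
  decide +kernel

/-- The reduction of state 13. -/
def tree13 : Tree :=
  (.conj 0 7 (.split 12 (.ref 12) 
  (.weyl [2,0,1,2,3,2,1,2,1,0] (.ref 5))))

theorem tree13_ok : check (states.take 13) tree13 ((List.range 24).filter fun k => !([1, 7, 19] : List ℕ).contains k) [1, 7, 19] = true := by
  decide +kernel

/-- The reduction of state 14. -/
def tree14 : Tree :=
  (.conj 0 7 (.split 12 
  (.weyl [1] (.ref 13)) 
  (.weyl [2,0,1,2,3,2,1,2,1,0] (.ref 11))))

theorem tree14_ok : check (states.take 14) tree14 ((List.range 24).filter fun k => !([1, 7, 13, 19] : List ℕ).contains k) [1, 7, 13, 19] = true := by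
  decide +kernel

/-- The reductions of all states. -/
def trees : List Tree := [tree5, tree6, tree7, tree8, tree9, tree10, tree11, tree12, tree13, tree14]

end Cfsg.Agent.H71.F4Inv
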