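import Cfsg.Agent.H71.F4InvData

/-!
Certificate data for the classes of involutions of type F₄ in characteristic two (generated).
-/

set_option autoImplicit false
set_option maxRecDepth 100000

open Cfsg.Agent.H71.ReeF4

namespace Cfsg.Agent.H71.F4Inv

/-- The reduction of a general element. -/
def topTree : Tree :=
  
  (.split 0 
  (.split 1 
  (.split 20 
  (.split 21 
  (.split 2 
  (.split 3 
  (.split 22 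
  (.split 8 
  (.split 14 
  (.split 23 
  (.split 4 
  (.split 15 
  (.split 18 
  (.split 6 
  (.split 9 
  (.split 19 
  (.split 5 
  (.split 12 
  (.split 7 
  (.split 16 
  (.split 10 
  (.split 13 
  (.split 17 
  (.split 11 (.ref 0) (.ref 1)) (.conj 1 11 (.weyl [3] (.ref 1)))) (.conj 21 17 (.conj 3 11 (.weyl [3,2] (.ref 1))))) 
  (.split 13 
  (.split 17 
  (.split 11 (.ref 2) (.ref 3)) (.conj 1 11 (.weyl [3] (.ref 3)))) (.conj 21 17 (.conj 3 11 (.weyl [3,2] (.ref 3)))))) (.conj 0 10 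
  (.split 13 
  (.split 17 
  (.split 11 (.weyl [0] (.ref 2)) (.weyl [0] (.ref 3))) (.conj 1 11 (.weyl [3,0] (.ref 3)))) (.conj 21 17 (.conj 3 11 (.weyl [3,2,0] (.ref 3))))))) (.conj 20 10 (.conj 23 17 (.conj 15 11 
  (.split 16 
  (.split 13 (.weyl [3,2,1] (.ref 1)) (.weyl [2,0,1,2,1,0] (.ref 12))) 
  (.split 13 (.weyl [1] (.ref 4)) (.weyl [2,0,1,2,3,2,0,1,2] (.ref 5)))))))) (.conj 20 16 (.conj 2 10 
  (.split 7 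
  (.split 13 
  (.split 17 
  (.split 11 (.weyl [0,1] (.ref 2)) (.weyl [0,1] (.ref 3))) (.conj 1 11 (.weyl [3,0,1] (.ref 3)))) (.conj 21 17 (.conj 3 11 (.ref 4)))) (.conj 23 17 (.conj 15 11 
  (.split 13 (.weyl [3,2,0,1] (.ref 3)) (.weyl [2,0,1,2,3,2,0,1,2,1] (.ref 5))))))))) (.conj 21 7 (.conj 22 10 (.conj 23 13 (.conj 19 11 
  (.split 12 
  (.split 16 
  (.split 17 (.weyl [3,2,1,2] (.ref 1)) (.weyl [0,1,2,1,0] (.ref 12))) 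
  (.split 17 (.weyl [1,2] (.ref 4)) (.weyl [2,0,1,2,3,2,0,1] (.ref 5)))) (.conj 20 16 
  (.split 17 (.weyl [1,2,1] (.ref 4)) (.weyl [2,0,1,2,3,2,0] (.ref 5)))))))))) (.sq 11 5 (.conj 0 12 (.conj 2 16 (.conj 9 17 (.conj 5 11 
  (.split 7 
  (.split 10 
  (.split 13 (.weyl [3,2,1,0] (.ref 1)) (.weyl [2,0,1,2,1] (.ref 12))) 
  (.split 13 (.weyl [1,0] (.ref 4)) (.weyl [2,0,1,2,3,2,0,1,2,0] (.ref 5)))) (.conj 20 10 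
  (.split 13 (.weyl [2,0,1,2] (.ref 12)) (.weyl [1,2,0,1,2] (.ref 13))))))))))) (.sq 17 19 (.conj 1 5 (.conj 3 7 (.conj 8 10 (.conj 15 13 (.conj 19 17 
  (.split 12 
  (.split 16 
  (.split 11 (.weyl [3,2,1,2,3] (.ref 1)) (.weyl [0,1,2,3,1,0] (.ref 12))) 
  (.split 11 (.weyl [1,2,3] (.ref 4)) (.weyl [2,3,0,1,2,0,1] (.ref 5)))) (.conj 20 16 
  (.split 11 (.weyl [1,2,3,1] (.ref 4)) (.weyl [2,3,0,1,2,0] (.ref 5)))))))))))) (.conj 21 12 (.conj 22 16 (.conj 14 10 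
  (.split 9 
  (.split 19 
  (.split 5 
  (.split 7 
  (.split 13 
  (.split 17 
  (.split 11 (.weyl [0,1,2] (.ref 2)) (.weyl [0,1,2] (.ref 3))) (.conj 1 11 (.weyl [2] (.ref 4)))) (.conj 3 11 
  (.split 17 (.weyl [3,0,1,2] (.ref 3)) (.weyl [1,2,0,1,2,0,1] (.ref 7))))) (.conj 23 17 (.conj 15 11 
  (.split 13 (.weyl [2,1,2,1] (.ref 4)) (.weyl [2,0,1,2,3,0] (.ref 5)))))) (.conj 23 13 (.conj 19 11 
  (.split 7 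
  (.split 17 (.weyl [3,2,0,1,2] (.ref 3)) (.weyl [2,0,1,2,3,0,1,2,1] (.ref 5))) 
  (.split 17 (.weyl [1,2,1,0] (.ref 7)) (.weyl [2,0,1,2,1,0] (.ref 6))))))) (.sq 11 5 (.conj 9 17 (.conj 5 11 
  (.split 7 
  (.split 13 (.weyl [2,1,2,1,0] (.ref 4)) (.weyl [2,0,1,2,3] (.ref 5))) 
  (.split 13 (.weyl [2,0,1,2,3] (.ref 9)) (.weyl [2,0,1,2,3] (.ref 11)))))))) (.sq 17 19 (.conj 1 5 (.conj 3 7 (.conj 15 13 (.conj 19 17 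
  (.split 11 (.weyl [1,2,3,1,2] (.ref 4)) (.weyl [2,3,0,1,0] (.ref 5))))))))))))) (.conj 1 6 (.conj 3 12 (.conj 8 16 (.conj 4 10 
  (.split 9 
  (.split 19 
  (.split 5 
  (.split 7 
  (.split 13 
  (.split 17 
  (.split 11 (.weyl [0,1,2,3] (.ref 2)) (.weyl [2,3] (.ref 4))) 
  (.split 11 (.weyl [0,1,2,3] (.ref 3)) (.weyl [1,2,0,1,2,3,0,1,2] (.ref 7)))) (.conj 21 17 
  (.split 11 (.weyl [0,1,2,3,2] (.ref 3)) (.weyl [1,2,0,1,2,3,0,1] (.ref 7))))) (.conj 23 17 (.conj 15 11 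
  (.split 13 (.weyl [2,1,2,3,1] (.ref 4)) (.weyl [2,0,1,2,0] (.ref 5)))))) (.conj 21 7 (.conj 23 13 (.conj 19 11 
  (.split 17 (.weyl [2,1,2,3,1,2] (.ref 4)) (.weyl [2,0,1,0] (.ref 5))))))) (.sq 11 5 (.conj 9 17 (.conj 5 11 
  (.split 7 
  (.split 13 (.weyl [2,1,2,3,1,0] (.ref 4)) (.weyl [2,0,1,2] (.ref 5))) 
  (.split 13 (.weyl [2,0,1,2] (.ref 9)) (.weyl [2,0,1,2] (.ref 11)))))))) (.sq 17 19 (.conj 15 13 (.conj 19 17 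
  (.split 5 
  (.split 7 
  (.split 11 (.weyl [3,2,0,1,2,3] (.ref 3)) (.weyl [2,1,2,0,1,2,3,1,2,1] (.ref 5))) 
  (.split 11 (.weyl [1,2,3,1,0] (.ref 7)) (.weyl [2,0,1,2,3,1,0] (.ref 6)))) (.conj 21 7 
  (.split 11 (.weyl [1,2,3,1,2,0] (.ref 7)) (.weyl [2,0,1,2,3,1,2,0] (.ref 6)))))))))))))) (.sq 13 9 (.conj 0 6 (.conj 21 19 (.sq 11 7 (.conj 14 16 (.conj 9 13 (.conj 7 11 
  (.split 18 
  (.split 5 
  (.split 12 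
  (.split 10 
  (.split 17 (.weyl [3,2,1,2,0] (.ref 1)) (.weyl [0,1,2,1] (.ref 12))) 
  (.split 17 (.weyl [1,2,0] (.ref 4)) (.weyl [2,0,1,2,3,2,0,1,0] (.ref 5)))) (.conj 2 10 
  (.split 17 (.weyl [1,2,1,0] (.ref 4)) (.weyl [2,0,1,2,3,2] (.ref 5))))) (.conj 22 10 
  (.split 12 
  (.split 17 (.weyl [2,0,1] (.ref 12)) (.weyl [1,2,0,1] (.ref 13))) 
  (.split 17 (.weyl [2,0,1,2,3,2] (.ref 9)) (.weyl [2,0,1,2,3,2] (.ref 11)))))) (.conj 3 12 (.conj 4 10 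
  (.split 5 
  (.split 17 (.weyl [2,1,2,3,1,2,0] (.ref 4)) (.weyl [2,0,1] (.ref 5))) 
  (.split 17 (.weyl [2,0,1] (.ref 9)) (.weyl [2,0,1] (.ref 11))))))))))))))) (.sq 10 18 (.conj 20 6 (.conj 22 12 (.conj 23 16 (.conj 18 10 
  (.split 15 
  (.split 9 
  (.split 19 
  (.split 5 
  (.split 7 
  (.split 13 
  (.split 17 
  (.split 11 (.weyl [0,1,2,1] (.ref 2)) (.weyl [0,1,2,1] (.ref 3))) (.conj 1 11 (.weyl [2,1] (.ref 4)))) (.conj 21 17 (.conj 3 11 (.weyl [2,1,2] (.ref 4))))) (.conj 15 11 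
  (.split 13 
  (.split 17 (.weyl [3,0,1,2,1] (.ref 3)) (.weyl [1,2,0,1,2,0] (.ref 7))) (.conj 21 17 (.weyl [2,0,1,2,3,0,1] (.ref 5)))))) (.conj 21 7 (.conj 19 11 
  (.split 13 
  (.split 17 (.weyl [3,2,0,1,2,1] (.ref 3)) (.weyl [2,0,1,2,3,0,1,2] (.ref 5))) 
  (.split 17 (.weyl [1,2,0,1,0] (.ref 7)) (.weyl [2,0,1,2,0,1,0] (.ref 6))))))) (.sq 11 5 (.conj 9 17 (.conj 5 11 
  (.split 7 
  (.split 13 (.weyl [2,1,2,0,1,0] (.ref 4)) (.weyl [2,0,1,2,3,1] (.ref 9))) 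
  (.split 13 (.weyl [2,0,1,2,3,1] (.ref 5)) (.weyl [2,0,1,2,3,1] (.ref 11)))))))) (.sq 17 19 (.conj 1 5 (.conj 3 7 (.conj 15 13 (.conj 19 17 
  (.split 11 (.weyl [1,2,3,1,2,1] (.ref 4)) (.weyl [2,3,1,0] (.ref 5))))))))) (.sq 13 9 (.conj 21 19 (.sq 11 7 (.conj 9 13 (.conj 7 11 
  (.split 5 
  (.split 17 (.weyl [2,1,2,0,1,2,0] (.ref 4)) (.weyl [2,0,1,2,3,1,2] (.ref 9))) 
  (.split 17 (.weyl [2,0,1,2,3,1,2] (.ref 5)) (.weyl [2,0,1,2,3,1,2] (.ref 11)))))))))))))))) (.sq 16 4 (.conj 1 15 (.sq 13 5 (.conj 0 18 (.conj 3 19 (.sq 17 7 (.conj 4 16 (.conj 5 13 (.conj 7 17 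
  (.split 6 
  (.split 9 
  (.split 12 
  (.split 10 
  (.split 11 (.weyl [3,2,1,2,3,0] (.ref 1)) (.weyl [0,1,2,3,1] (.ref 12))) 
  (.split 11 (.weyl [1,2,3,0] (.ref 4)) (.weyl [2,3,0,1,2,0,1,0] (.ref 5)))) (.conj 2 10 
  (.split 11 (.weyl [1,2,3,1,0] (.ref 4)) (.weyl [2,3,0,1,2] (.ref 5))))) (.conj 8 10 
  (.split 12 
  (.split 11 (.weyl [2,3,0,1] (.ref 12)) (.weyl [1,2,3,0,1] (.ref 13))) 
  (.split 11 (.weyl [2,3,0,1,2] (.ref 9)) (.weyl [2,3,0,1,2] (.ref 11)))))) (.conj 21 12 (.conj 14 10 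
  (.split 9 
  (.split 11 (.weyl [1,2,3,1,2,0] (.ref 4)) (.weyl [2,3,0,1] (.ref 5))) 
  (.split 11 (.weyl [2,3,0,1] (.ref 9)) (.weyl [2,3,0,1] (.ref 11))))))))))))))))) (.conj 1 4 (.sq 10 6 (.sq 16 15 (.conj 20 18 (.conj 8 12 (.conj 15 16 (.conj 6 10 
  (.split 23 
  (.split 9 
  (.split 19 
  (.split 5 
  (.split 7 
  (.split 13 
  (.split 17 
  (.split 11 (.weyl [0,1,2,3,1] (.ref 2)) (.weyl [2,3,1] (.ref 4))) 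
  (.split 11 (.weyl [0,1,2,3,1] (.ref 3)) (.weyl [1,2,0,1,2,3,0,1,2,1] (.ref 7)))) (.conj 21 17 (.conj 3 11 (.weyl [2,1,2,3] (.ref 4))))) (.conj 23 17 
  (.split 13 
  (.split 11 (.weyl [0,1,2,3,2,1] (.ref 3)) (.weyl [1,2,0,1,2,3,0] (.ref 7))) (.conj 3 11 (.weyl [2,0,1,2,0,1] (.ref 5)))))) (.conj 21 7 (.conj 23 13 (.conj 19 11 
  (.split 17 (.weyl [2,1,2,3,1,2,1] (.ref 4)) (.weyl [2,1,0] (.ref 5))))))) (.sq 11 5 (.conj 9 17 (.conj 5 11 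
  (.split 7 
  (.split 13 (.weyl [2,1,2,3,0,1,0] (.ref 4)) (.weyl [2,0,1,2,1] (.ref 9))) 
  (.split 13 (.weyl [2,0,1,2,1] (.ref 5)) (.weyl [2,0,1,2,1] (.ref 11)))))))) (.sq 17 19 (.conj 3 7 (.conj 19 17 
  (.split 5 
  (.split 13 
  (.split 11 (.weyl [3,2,0,1,2,3,1] (.ref 3)) (.weyl [2,1,2,0,1,2,3,1,2] (.ref 5))) 
  (.split 11 (.weyl [1,2,3,0,1,0] (.ref 7)) (.weyl [2,0,1,2,3,0,1,0] (.ref 6)))) (.conj 23 13 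
  (.split 11 (.weyl [1,2,3,1,2,0,1] (.ref 7)) (.weyl [2,0,1,2,3,1,2,0,1] (.ref 6))))))))) (.sq 13 5 (.conj 3 19 (.sq 17 7 (.conj 5 13 (.conj 7 17 
  (.split 9 
  (.split 11 (.weyl [2,1,2,0,1,2,3,0] (.ref 4)) (.weyl [0,1,2,3,1,2] (.ref 9))) 
  (.split 11 (.weyl [0,1,2,3,1,2] (.ref 5)) (.weyl [0,1,2,3,1,2] (.ref 11)))))))))))))))))) (.sq 12 14 (.conj 0 4 (.sq 10 9 (.sq 16 18 (.conj 2 6 (.conj 14 12 (.conj 18 16 (.conj 9 10 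
  (.split 23 
  (.split 15 
  (.split 19 
  (.split 5 
  (.split 7 
  (.split 13 
  (.split 17 
  (.split 11 (.weyl [0,1,2,1,0] (.ref 2)) (.weyl [0,1,2,1,0] (.ref 3))) (.conj 1 11 (.weyl [2,1,0] (.ref 4)))) (.conj 21 17 (.conj 3 11 (.weyl [2,1,2,0] (.ref 4))))) (.conj 23 17 (.conj 15 11 
  (.split 13 (.weyl [2,1,2,0,1] (.ref 4)) (.weyl [2,0,1,2,3,1,0] (.ref 9)))))) (.conj 21 7 (.conj 23 13 (.conj 19 11 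
  (.split 17 (.weyl [2,1,2,0,1,2] (.ref 4)) (.weyl [2,0,1,2,3,1,2,0] (.ref 9))))))) (.sq 11 5 (.conj 5 11 
  (.split 7 
  (.split 13 
  (.split 17 (.weyl [3,0,1,2,1,0] (.ref 3)) (.weyl [1,2,0,1,2] (.ref 7))) (.conj 21 17 (.weyl [2,0,1,2,3,0,1,0] (.ref 5)))) (.conj 23 17 
  (.split 13 (.weyl [2,0,1,2,3,1,0] (.ref 5)) (.weyl [2,0,1,2,3,1,0] (.ref 11)))))))) (.conj 21 19 (.sq 11 7 (.conj 7 11 
  (.split 5 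
  (.split 13 
  (.split 17 (.weyl [3,2,0,1,2,1,0] (.ref 3)) (.weyl [2,0,1,2,3,0,1,2,0] (.ref 5))) 
  (.split 17 (.weyl [1,2,0,1] (.ref 7)) (.weyl [2,0,1,2,0,1] (.ref 6)))) (.conj 23 13 
  (.split 17 (.weyl [2,0,1,2,3,1,2,0] (.ref 5)) (.weyl [2,0,1,2,3,1,2,0] (.ref 11))))))))) (.sq 13 5 (.sq 17 7 (.conj 1 15 (.conj 3 19 (.conj 5 13 (.conj 7 17 
  (.split 11 (.weyl [1,2,3,1,2,1,0] (.ref 4)) (.weyl [2,3,1] (.ref 5))))))))))))))))))) (.conj 1 8 (.sq 12 4 (.conj 0 14 (.sq 10 5 (.sq 16 6 (.conj 2 18 (.conj 4 12 (.conj 6 16 (.conj 5 10 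
  (.split 23 
  (.split 15 
  (.split 9 
  (.split 19 
  (.split 7 
  (.split 13 
  (.split 17 
  (.split 11 (.weyl [0,1,2,3,1,0] (.ref 2)) (.weyl [2,3,1,0] (.ref 4))) 
  (.split 11 (.weyl [0,1,2,3,1,0] (.ref 3)) (.weyl [1,2,0,1,2,3,0,1,2,1,0] (.ref 7)))) (.conj 21 17 (.conj 3 11 (.weyl [2,1,2,3,0] (.ref 4))))) (.conj 23 17 (.conj 15 11 
  (.split 13 (.weyl [2,1,2,3,0,1] (.ref 4)) (.weyl [2,0,1,2,1,0] (.ref 9)))))) (.conj 9 17 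
  (.split 7 
  (.split 13 
  (.split 11 (.weyl [0,1,2,3,2,1,0] (.ref 3)) (.weyl [1,2,0,1,2,3] (.ref 7))) (.conj 3 11 (.weyl [2,0,1,2,0,1,0] (.ref 5)))) (.conj 15 11 
  (.split 13 (.weyl [2,0,1,2,1,0] (.ref 5)) (.weyl [2,0,1,2,1,0] (.ref 11))))))) (.sq 17 19 (.conj 3 7 (.conj 15 13 (.conj 19 17 
  (.split 11 (.weyl [2,1,2,0,1,2,3] (.ref 4)) (.weyl [0,1,2,3,1,2,0] (.ref 9)))))))) (.sq 11 7 (.sq 13 9 (.conj 21 19 (.conj 9 13 (.conj 7 11 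
  (.split 17 (.weyl [2,1,2,3,1,2,1,0] (.ref 4)) (.weyl [2,1] (.ref 5))))))))) (.conj 3 19 (.sq 17 7 (.conj 7 17 
  (.split 15 
  (.split 9 
  (.split 13 
  (.split 11 (.weyl [3,2,0,1,2,3,1,0] (.ref 3)) (.weyl [2,1,2,0,1,2,3,1,2,0] (.ref 5))) 
  (.split 11 (.weyl [1,2,3,0,1] (.ref 7)) (.weyl [2,0,1,2,3,0,1] (.ref 6)))) (.conj 15 13 
  (.split 11 (.weyl [0,1,2,3,1,2,0] (.ref 5)) (.weyl [0,1,2,3,1,2,0] (.ref 11))))) (.sq 13 9 (.conj 9 13 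
  (.split 11 (.weyl [1,2,3,1,2,0,1,0] (.ref 7)) (.weyl [2,0,1,2,3,1,2,0,1,0] (.ref 6)))))))))))))))))))) (.sq 7 9 (.sq 19 23 (.conj 20 8 (.conj 2 4 (.sq 12 18 (.conj 23 19 (.conj 18 12 (.conj 9 7 (.sq 11 13 (.conj 13 11 
  (.split 22 
  (.split 14 
  (.split 15 
  (.split 6 
  (.split 5 
  (.split 16 
  (.split 10 
  (.split 17 (.weyl [3,2,1,2,0,1] (.ref 1)) (.weyl [0,1,2] (.ref 12))) 
  (.split 17 (.weyl [1,2,0,1] (.ref 4)) (.weyl [2,0,1,2,3,2,1,0] (.ref 5)))) (.conj 0 10 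
  (.split 17 (.weyl [1,2,0,1,0] (.ref 4)) (.weyl [2,0,1,2,3,2,1] (.ref 5))))) (.conj 22 10 
  (.split 16 
  (.split 17 (.weyl [2,0] (.ref 12)) (.weyl [1,2,0] (.ref 13))) 
  (.split 17 (.weyl [2,0,1,2,3,2,1] (.ref 9)) (.weyl [2,0,1,2,3,2,1] (.ref 11)))))) (.conj 22 16 (.conj 14 10 
  (.split 5 
  (.split 17 (.weyl [2,1,2,0,1,2,0,1] (.ref 4)) (.weyl [2,0,1,2,3,1,2,1] (.ref 9))) 
  (.split 17 (.weyl [2,0,1,2,3,1,2,1] (.ref 5)) (.weyl [2,0,1,2,3,1,2,1] (.ref 11))))))) (.conj 0 6 (.conj 14 16 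
  (.split 5 
  (.split 10 
  (.split 17 (.weyl [2] (.ref 12)) (.weyl [1,2] (.ref 13))) 
  (.split 17 (.weyl [2,0,1,2,3,2,1,0] (.ref 9)) (.weyl [2,0,1,2,3,2,1,0] (.ref 11)))) (.conj 22 10 
  (.split 17 (.weyl [2] (.ref 13)) (.weyl [2] (.ref 14)))))))) (.sq 10 6 (.sq 16 15 (.conj 15 16 (.conj 6 10 
  (.split 5 
  (.split 17 (.weyl [2,1,2,3,1,2,0,1] (.ref 4)) (.weyl [2,0] (.ref 5))) 
  (.split 17 (.weyl [2,0] (.ref 9)) (.weyl [2,0] (.ref 11))))))))) (.conj 0 14 (.sq 10 5 (.sq 16 6 (.conj 6 16 (.conj 5 10 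
  (.split 15 
  (.split 17 (.weyl [2,1,2,3,1,2,0,1,0] (.ref 4)) (.weyl [2] (.ref 5))) 
  (.split 17 (.weyl [2] (.ref 9)) (.weyl [2] (.ref 11))))))))))))))))))))) (.sq 4 3 (.sq 6 8 (.sq 18 22 (.conj 21 14 (.conj 3 4 (.sq 10 12 (.sq 16 19 (.conj 22 18 (.conj 8 6 (.conj 19 16 (.conj 12 10 
  (.split 23 
  (.split 15 
  (.split 9 
  (.split 5 
  (.split 7 
  (.split 13 
  (.split 17 
  (.split 11 (.weyl [0,1,2,3,1,2] (.ref 2)) (.weyl [2,3,1,2] (.ref 4))) (.conj 1 11 (.weyl [2,1,2,3,2] (.ref 4)))) 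
  (.split 17 
  (.split 11 (.weyl [0,1,2,3,1,2] (.ref 3)) (.weyl [1,2,0,1,2,3,2,0,1,2,1] (.ref 7))) (.conj 1 11 (.weyl [1,2,3,1,2,0,1,2,3,1,2,1] (.ref 7))))) (.conj 23 17 (.conj 15 11 
  (.split 13 (.weyl [2,1,2,3,2,1,2,1] (.ref 4)) (.weyl [2,1,2,0] (.ref 5)))))) (.conj 23 13 
  (.split 7 
  (.split 17 
  (.split 11 (.weyl [0,1,2,3,2,1,2] (.ref 3)) (.weyl [1,2,0,1,2,3,2,0] (.ref 7))) (.conj 1 11 (.weyl [2,1,2,0,1,2,1] (.ref 5)))) (.conj 15 11 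
  (.split 17 (.weyl [1,2,3,1,2,0,1,2,3] (.ref 7)) (.weyl [0,1,2,3,1,2,0,1,2,3,2] (.ref 6))))))) (.conj 1 5 (.conj 15 13 
  (.split 7 
  (.split 17 
  (.split 11 (.weyl [3,2,0,1,2,3,1,2] (.ref 3)) (.weyl [2,1,2,0,1,2,3,1] (.ref 5))) 
  (.split 11 (.weyl [1,2,3,0,1,2,0] (.ref 7)) (.weyl [2,0,1,2,3,0,1,2,0] (.ref 6)))) (.conj 23 17 
  (.split 11 (.weyl [1,2,3,1,2,0,1,2] (.ref 7)) (.weyl [2,0,1,2,3,1,2,0,1,2] (.ref 6)))))))) (.sq 11 7 (.sq 13 9 (.conj 9 13 (.conj 7 11 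
  (.split 5 
  (.split 17 (.weyl [2,1,2,3,0,1,2,0] (.ref 4)) (.weyl [0,1,2,1] (.ref 9))) 
  (.split 17 (.weyl [0,1,2,1] (.ref 5)) (.weyl [0,1,2,1] (.ref 11))))))))) (.sq 17 7 (.conj 1 15 (.sq 13 5 (.conj 5 13 (.conj 7 17 
  (.split 9 
  (.split 11 (.weyl [2,1,2,0,1,2,3,2,0] (.ref 4)) (.weyl [0,1,2,3,1] (.ref 9))) 
  (.split 11 (.weyl [0,1,2,3,1] (.ref 5)) (.weyl [0,1,2,3,1] (.ref 11)))))))))))))))))))))) (.sq 9 2 (.conj 1 3 (.sq 7 5 (.sq 19 15 (.conj 20 22 (.conj 2 14 (.sq 12 6 (.conj 15 19 (.conj 6 12 (.conj 5 7 (.sq 17 13 (.conj 13 17 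
  (.split 8 
  (.split 23 
  (.split 4 
  (.split 18 
  (.split 9 
  (.split 16 
  (.split 10 
  (.split 11 (.weyl [3,2,1,2,3,0,1] (.ref 1)) (.weyl [0,1,2,3] (.ref 12))) 
  (.split 11 (.weyl [1,2,3,0,1] (.ref 4)) (.weyl [2,3,0,1,2,1,0] (.ref 5)))) (.conj 0 10 
  (.split 11 (.weyl [1,2,3,0,1,0] (.ref 4)) (.weyl [2,3,0,1,2,1] (.ref 5))))) (.conj 8 10 
  (.split 16 
  (.split 11 (.weyl [2,3,0] (.ref 12)) (.weyl [1,2,3,0] (.ref 13))) 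
  (.split 11 (.weyl [2,3,0,1,2,1] (.ref 9)) (.weyl [2,3,0,1,2,1] (.ref 11)))))) (.conj 8 16 (.conj 4 10 
  (.split 9 
  (.split 11 (.weyl [2,1,2,0,1,2,3,0,1] (.ref 4)) (.weyl [0,1,2,3,1,2,1] (.ref 9))) 
  (.split 11 (.weyl [0,1,2,3,1,2,1] (.ref 5)) (.weyl [0,1,2,3,1,2,1] (.ref 11))))))) (.sq 10 18 (.conj 23 16 (.conj 18 10 
  (.split 9 
  (.split 11 (.weyl [1,2,3,1,2,0,1] (.ref 4)) (.weyl [2,3,0] (.ref 5))) 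
  (.split 11 (.weyl [2,3,0] (.ref 9)) (.weyl [2,3,0] (.ref 11)))))))) (.sq 11 4 (.conj 0 18 (.conj 4 16 
  (.split 9 
  (.split 10 
  (.split 11 (.weyl [2,3] (.ref 12)) (.weyl [1,2,3] (.ref 13))) 
  (.split 11 (.weyl [2,3,0,1,2,1,0] (.ref 9)) (.weyl [2,3,0,1,2,1,0] (.ref 11)))) (.conj 8 10 
  (.split 11 (.weyl [2,3] (.ref 13)) (.weyl [2,3] (.ref 14))))))))) (.conj 0 4 (.sq 10 9 (.sq 16 18 (.conj 18 16 (.conj 9 10 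
  (.split 23 
  (.split 11 (.weyl [1,2,3,1,2,0,1,0] (.ref 4)) (.weyl [2,3] (.ref 5))) 
  (.split 11 (.weyl [2,3] (.ref 9)) (.weyl [2,3] (.ref 11))))))))))))))))))))))) (.sq 8 3 (.sq 22 21 (.conj 0 2 (.sq 6 4 (.sq 18 14 (.conj 21 22 (.conj 3 8 (.sq 10 7 (.sq 16 12 (.conj 14 18 (.conj 4 6 (.conj 12 16 (.conj 7 10 
  (.split 23 
  (.split 15 
  (.split 9 
  (.split 19 
  (.split 5 
  (.split 13 
  (.split 17 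
  (.split 11 (.weyl [0,1,2,3,1,2,0] (.ref 2)) (.weyl [2,3,1,2,0] (.ref 4))) (.conj 1 11 (.weyl [2,1,2,3,2,0] (.ref 4)))) 
  (.split 17 
  (.split 11 (.weyl [0,1,2,3,1,2,0] (.ref 3)) (.weyl [1,2,0,1,2,3,2,0,1,2,1,0] (.ref 7))) (.conj 1 11 (.weyl [1,2,3,1,2,0,1,2,3,1,2,1,0] (.ref 7))))) (.conj 23 13 (.conj 19 11 
  (.split 17 (.weyl [2,1,2,3,0,1,2] (.ref 4)) (.weyl [0,1,2,1,0] (.ref 9)))))) (.sq 11 5 (.conj 9 17 (.conj 5 11 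
  (.split 13 (.weyl [2,1,2,3,2,1,2,1,0] (.ref 4)) (.weyl [2,1,2] (.ref 5))))))) (.sq 17 19 (.conj 1 5 (.conj 15 13 (.conj 19 17 
  (.split 11 (.weyl [2,1,2,0,1,2,3,2] (.ref 4)) (.weyl [0,1,2,3,1,0] (.ref 9)))))))) (.sq 13 9 (.conj 9 13 
  (.split 19 
  (.split 5 
  (.split 17 
  (.split 11 (.weyl [0,1,2,3,2,1,2,0] (.ref 3)) (.weyl [1,2,0,1,2,3,2] (.ref 7))) (.conj 1 11 (.weyl [2,1,2,0,1,2,1,0] (.ref 5)))) (.conj 19 11 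
  (.split 17 (.weyl [0,1,2,1,0] (.ref 5)) (.weyl [0,1,2,1,0] (.ref 11))))) (.sq 11 5 (.conj 5 11 
  (.split 17 (.weyl [1,2,3,1,2,0,1,2,3,0] (.ref 7)) (.weyl [0,1,2,3,1,2,0,1,2,3,2,0] (.ref 6))))))))) (.conj 1 15 (.sq 13 5 (.conj 5 13 
  (.split 9 
  (.split 19 
  (.split 17 
  (.split 11 (.weyl [3,2,0,1,2,3,1,2,0] (.ref 3)) (.weyl [2,1,2,0,1,2,3,1,0] (.ref 5))) 
  (.split 11 (.weyl [1,2,3,0,1,2] (.ref 7)) (.weyl [2,0,1,2,3,0,1,2] (.ref 6)))) (.conj 9 17 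
  (.split 11 (.weyl [1,2,3,1,2,0,1,2,0] (.ref 7)) (.weyl [2,0,1,2,3,1,2,0,1,2,0] (.ref 6))))) (.sq 17 19 (.conj 19 17 
  (.split 11 (.weyl [0,1,2,3,1,0] (.ref 5)) (.weyl [0,1,2,3,1,0] (.ref 11)))))))))))))))))))))))) (.sq 3 21 (.conj 21 3 (.sq 4 14 (.sq 5 9 (.sq 8 22 (.sq 15 23 (.conj 22 8 (.conj 14 4 (.sq 6 18 (.conj 23 15 (.conj 18 6 (.conj 9 5 (.sq 11 17 (.conj 17 11 
  (.split 20 
  (.split 2 
  (.split 19 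
  (.split 12 
  (.split 7 
  (.split 16 
  (.split 10 
  (.split 13 (.weyl [3,2,1,2,0,1,2] (.ref 1)) (.weyl [0,1] (.ref 12))) 
  (.split 13 (.weyl [1,2,0,1,2] (.ref 4)) (.weyl [2,0,1,2,3,2,1,2,0] (.ref 5)))) (.conj 0 10 
  (.split 13 (.weyl [1,2,0,1,2,0] (.ref 4)) (.weyl [2,0,1,2,3,2,1,2] (.ref 5))))) (.conj 20 10 
  (.split 16 
  (.split 13 (.weyl [0] (.ref 12)) (.weyl [1,0] (.ref 13))) 
  (.split 13 (.weyl [2,0,1,2,3,2,1,2] (.ref 9)) (.weyl [2,0,1,2,3,2,1,2] (.ref 11)))))) (.conj 20 16 (.conj 2 10 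
  (.split 7 
  (.split 13 (.weyl [1,2,0,1,2,0,1] (.ref 4)) (.weyl [2,0,1,2,3,2,1,2,1] (.ref 9))) 
  (.split 13 (.weyl [2,0,1,2,3,2,1,2,1] (.ref 5)) (.weyl [2,0,1,2,3,2,1,2,1] (.ref 11))))))) (.conj 0 12 (.conj 2 16 
  (.split 7 
  (.split 10 
  (.split 13 (.ref 12) (.weyl [1] (.ref 13))) 
  (.split 13 (.weyl [2,0,1,2,3,2,1,2,0] (.ref 9)) (.weyl [2,0,1,2,3,2,1,2,0] (.ref 11)))) (.conj 20 10 
  (.split 13 (.ref 13) (.ref 14))))))) (.sq 10 12 (.sq 13 19 (.conj 19 16 (.conj 12 10 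
  (.split 7 
  (.split 13 (.weyl [2,1,2,3,1,2,0,1,2] (.ref 4)) (.weyl [0] (.ref 5))) 
  (.split 13 (.weyl [0] (.ref 9)) (.weyl [0] (.ref 11))))))))) (.conj 0 2 (.sq 10 7 (.sq 16 12 (.conj 12 16 (.conj 7 10 
  (.split 19 
  (.split 13 (.weyl [2,1,2,3,1,2,0,1,2,0] (.ref 4)) (.ref 5)) 
  (.split 13 (.ref 9) (.ref 11)))))))))))))))))))))))) (.sq 2 20 (.conj 20 2 (.sq 9 23 (.sq 14 22 (.conj 22 14 (.sq 4 8 (.conj 8 4 (.sq 10 16 (.conj 23 18 (.sq 6 15 (.conj 15 6 (.sq 12 19 (.conj 19 12 (.conj 16 10 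
  (.split 1 
  (.split 21 
  (.split 3 
  (.split 9 
  (.split 5 
  (.split 7 
  (.split 13 
  (.split 17 
  (.split 11 (.weyl [0,1,2,3,1,2,1] (.ref 2)) (.weyl [2,3,1,2,1] (.ref 4))) (.conj 1 11 (.weyl [2,1,2,3,2,1] (.ref 4)))) (.conj 21 17 (.conj 3 11 (.weyl [2,1,2,3,2,1,2] (.ref 4))))) 
  (.split 13 
  (.split 17 
  (.split 11 (.weyl [0,1,2,3,1,2,1] (.ref 3)) (.weyl [1,2,0,1,2,3,2,0,1,2] (.ref 7))) (.conj 1 11 (.weyl [1,2,3,1,2,0,1,2,3,1,2] (.ref 7)))) (.conj 21 17 (.conj 3 11 (.weyl [2,1,2,0,1] (.ref 5)))))) (.conj 21 7 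
  (.split 13 
  (.split 17 
  (.split 11 (.weyl [0,1,2,3,2,1,2,1] (.ref 3)) (.weyl [1,2,0,1,2,3,2,0,1] (.ref 7))) (.conj 1 11 (.weyl [2,1,2,0,1,2] (.ref 5)))) (.conj 3 11 
  (.split 17 (.weyl [1,2,3,1,2,0,1,2,3,1] (.ref 7)) (.weyl [0,1,2,3,1,2,0,1,2,3,2,1] (.ref 6))))))) (.conj 1 5 (.conj 3 7 
  (.split 13 
  (.split 17 
  (.split 11 (.weyl [3,2,0,1,2,3,1,2,1] (.ref 3)) (.weyl [2,1,2,0,1,2,3] (.ref 5))) 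
  (.split 11 (.weyl [1,2,3,0,1,2,0,1] (.ref 7)) (.weyl [2,0,1,2,3,0,1,2,0,1] (.ref 6)))) (.conj 21 17 
  (.split 11 (.weyl [1,2,3,1,2,0,1,2,1] (.ref 7)) (.weyl [2,0,1,2,3,1,2,0,1,2,1] (.ref 6)))))))) (.sq 7 9 (.sq 11 13 (.conj 9 7 (.conj 13 11 
  (.split 5 
  (.split 17 (.weyl [2,1,2,3,0,1,2,0,1] (.ref 4)) (.weyl [0,1,2] (.ref 9))) 
  (.split 17 (.weyl [0,1,2] (.ref 5)) (.weyl [0,1,2] (.ref 11))))))))) (.sq 17 13 (.conj 1 3 (.sq 7 5 (.conj 5 7 (.conj 13 17 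
  (.split 9 
  (.split 11 (.weyl [2,1,2,0,1,2,3,2,0,1] (.ref 4)) (.weyl [0,1,2,3] (.ref 9))) 
  (.split 11 (.weyl [0,1,2,3] (.ref 5)) (.weyl [0,1,2,3] (.ref 11)))))))))) (.sq 3 21 (.sq 5 9 (.conj 21 3 (.sq 11 17 (.conj 9 5 (.conj 17 11 
  (.split 7 
  (.split 13 (.weyl [2,1,2,3,1,2,0,1,2,1] (.ref 4)) (.weyl [0,1] (.ref 9))) 
  (.split 13 (.weyl [0,1] (.ref 5)) (.weyl [0,1] (.ref 11))))))))))))))))))))))))))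

theorem topTree_ok : check states topTree [] [] = true := by
  decide +kernel

end Cfsg.Agent.H71.F4Inv
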