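import Mathlib.Analysis.Fourier.FiniteAbelian.PontryaginDuality
import Mathlib.LinearAlgebra.Trace
import Mathlib.LinearAlgebra.Determinant
import Mathlib.Data.Complex.Basic

/-!
Lower bounds for degrees of complex representations of a finite group containing a group of
Heisenberg type over a finite field, normalised by a transitive torus.
-/

set_option autoImplicit false

open Module LinearMap

namespace Cfsg.Agent.H71.HeisenbergDegree

variable {V : Type*} [AddCommGroup V] [Module ℂ V] [FiniteDimensional ℂ V]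

/-- The trace of an idempotent is a natural number, its rank. -/
theorem exists_trace_eq_nat {e : End ℂ V} (he : e * e = e) :
    ∃ n : ℕ, trace ℂ V e = n ∧ (n = 0 → e = 0) ∧ (n = finrank ℂ V → e = 1) := by
  have hi : IsIdempotentElem e := he
  refine ⟨finrank ℂ (range e), hi.isProj_range.trace, fun h => ?_, fun h => ?_⟩
  · exact range_eq_bot.1 (Submodule.finrank_eq_zero.1 h)
  · have ht := Submodule.eq_top_of_finrank_eq h
    ext v
    have := hi.isProj_range.map_id v (ht ▸ Submodule.mem_top)
    simpa using this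

/-- The sum of a character times the trace over a finite abelian group of operators. -/
theorem exists_sum_trace {A : Type*} [AddCommGroup A] [Fintype A] (π : A → End ℂ V)
    (hadd : ∀ a b, π (a + b) = π a * π b) (χ : AddChar A ℂ) :
    ∃ n : ℕ, (∑ a, χ a * trace ℂ V (π a)) = (Fintype.card A : ℂ) * n ∧
      (n = 0 → ∑ a, χ a • π a = 0) ∧
      (n = finrank ℂ V → ∑ a, χ a • π a = (Fintype.card A : ℂ) • 1) := by
  have hc : (Fintype.card A : ℂ) ≠ 0 := Nat.cast_ne_zero.2 Fintype.card_ne_zero
  set S := ∑ a, χ a • π a with hS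
  have hsq : S * S = (Fintype.card A : ℂ) • S := by
    have h : ∀ b, (χ b • π b) * S = S := by
      intro b
      rw [hS, Finset.mul_sum]
      refine Fintype.sum_bijective (fun a => b + a) (AddGroup.addLeft_bijective b) _ _ fun a => ?_
      rw [hadd, AddChar.map_add_eq_mul, smul_mul_smul_comm]
    conv_lhs => arg 1; rw [hS]
    rw [Finset.sum_mul, Finset.sum_congr rfl fun b _ => h b, Finset.sum_const, Finset.card_univ,
      Nat.cast_smul_eq_nsmul]
  obtain ⟨n, hn, h0, h1⟩ := exists_trace_eq_nat (e := (Fintype.card A : ℂ)⁻¹ • S) (by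
    rw [smul_mul_smul_comm, hsq, smul_smul, mul_assoc, inv_mul_cancel₀ hc, mul_one])
  refine ⟨n, ?_, fun h => ?_, fun h => ?_⟩
  · rw [← hn, map_smul, smul_eq_mul, ← mul_assoc, mul_inv_cancel₀ hc, one_mul, hS, map_sum]
    exact Finset.sum_congr rfl fun a _ => by rw [map_smul, smul_eq_mul]
  · have := h0 h
    rwa [inv_smul_eq_iff₀ hc, smul_zero] at this
  · have := h1 h
    rwa [inv_smul_eq_iff₀ hc] at this

omit [FiniteDimensional ℂ V] in
/-- The trace is invariant under conjugation in a group. -/
theorem trace_conj {G : Type*} [Group G] (ρ : G →* End ℂ V) (g x : G) :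
    trace ℂ V (ρ (g * x * g⁻¹)) = trace ℂ V (ρ x) := by
  rw [map_mul, trace_mul_comm, ← map_mul]
  group

/-- The determinant of an involution of trace zero. -/
theorem det_of_trace_zero {T : End ℂ V} (hT : T * T = 1) (h0 : trace ℂ V T = 0) :
    ∃ k, finrank ℂ V = 2 * k ∧ LinearMap.det T = (-1) ^ k := by
  set e : End ℂ V := (2 : ℂ)⁻¹ • (1 - T) with he
  have hsq : e * e = e := by
    rw [he, smul_mul_smul_comm, sub_mul, one_mul, mul_sub, mul_one, hT]
    module
  obtain ⟨n, hn, -, -⟩ := exists_trace_eq_nat hsq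
  have htr : (finrank ℂ V : ℂ) = 2 * n := by
    rw [← hn, he, map_smul, map_sub, h0, trace_one, smul_eq_mul, sub_zero, ← mul_assoc,
      mul_inv_cancel₀ two_ne_zero, one_mul]
  have hi : IsIdempotentElem e := hsq
  have hpr := hi.isProj_range
  have hn' : finrank ℂ (range e) = n := Nat.cast_injective (R := ℂ) (hpr.trace.symm.trans hn)
  refine ⟨n, by exact_mod_cast htr, ?_⟩
  have hW : range e ≤ (range e).comap T := by
    rintro v hv
    rw [Submodule.mem_comap]
    have h2 : e v = v := hpr.map_id v hv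
    have h1 : T v = v - (2 : ℂ) • e v := by simp [he]
    rw [h1, h2]
    exact sub_mem hv (Submodule.smul_mem _ _ hv)
  rw [LinearMap.det_eq_det_mul_det (range e) T hW,
    show T.restrict hW = (-1 : ℂ) • LinearMap.id from LinearMap.ext fun v => Subtype.ext (by
      have h2 : e v.1 = v.1 := hpr.map_id v.1 v.2
      have h1 : T v.1 = v.1 - (2 : ℂ) • e v.1 := by simp [he]
      rw [h2] at h1
      simp [h1, two_smul]),
    show (range e).mapQ (range e) T hW = LinearMap.id from LinearMap.ext fun x => by
      obtain ⟨v, rfl⟩ := (range e).mkQ_surjective x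
      change (range e).mkQ (T v) = (range e).mkQ v
      rw [Submodule.mkQ_apply, Submodule.mkQ_apply, Submodule.Quotient.eq]
      have h1 : T v - v = e (-(2 : ℂ) • v) := by simp [he]; abel
      rw [h1]
      exact mem_range_self _ _,
    LinearMap.det_smul, LinearMap.det_id, LinearMap.det_id, hn', mul_one, mul_one]

variable {G : Type*} [Group G] {F : Type*} [Field F] [Fintype F]

/-- A representation in which the centre of the Heisenberg type group acts non-trivially has degree
at least `q (q - 1)`; in case of equality every inverting involution has trace zero. -/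
theorem degree_bound (ρ : G →* End ℂ V) (b z : F → G)
    (hb : ∀ u w, b (u + w) = b u * b w) (hz : ∀ v w, z (v + w) = z v * z w)
    (hbz : ∀ u v, Commute (b u) (z v))
    (hconj : ∀ u v, u ≠ 0 → ∃ g, g * b u * g⁻¹ = b u * z v)
    (htor : ∀ c v, c ≠ 0 → ∃ h, h * z v * h⁻¹ = z (c * v))
    (hne : ∃ v, ρ (z v) ≠ 1) :
    Fintype.card F * (Fintype.card F - 1) ≤ finrank ℂ V ∧
      (finrank ℂ V = Fintype.card F * (Fintype.card F - 1) → (2 : F) ≠ 0 →
        ∀ i : G, (∀ v, i * z v * i⁻¹ = z (-v)) → trace ℂ V (ρ i) = 0) := by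
  classical
  set q := Fintype.card F with hq
  set d := finrank ℂ V with hd
  have hq0 : (q : ℂ) ≠ 0 := Nat.cast_ne_zero.2 Fintype.card_ne_zero
  have hz0 : z 0 = 1 := by
    have := hz 0 0
    rwa [add_zero, right_eq_mul] at this
  have hb0 : b 0 = 1 := by
    have := hb 0 0
    rwa [add_zero, right_eq_mul] at this
  set α := trace ℂ V (ρ (z 1)) with hα
  have ftr : ∀ v, v ≠ 0 → trace ℂ V (ρ (z v)) = α := by
    intro v hv
    obtain ⟨h, hh⟩ := htor v 1 hv
    rw [mul_one] at hh
    rw [← hh, trace_conj]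
  have ftr0 : trace ℂ V (ρ (z 0)) = d := by rw [hz0, map_one, trace_one]
  -- the sum over the centre
  obtain ⟨n0, hn0, hz00, hz0d⟩ := exists_sum_trace (fun v => ρ (z v)) (fun a c => by rw [hz, map_mul])
    (1 : AddChar F ℂ)
  simp only [AddChar.one_apply, one_mul, one_smul] at hn0 hz00 hz0d
  have hsum : ∀ χ : AddChar F ℂ, ∑ v, χ v * trace ℂ V (ρ (z v)) = ((d : ℂ) - α) + (∑ v, χ v) * α := by
    intro χ
    have e : ∀ v, χ v * trace ℂ V (ρ (z v)) = (if v = 0 then (d : ℂ) - α else 0) + χ v * α := by
      intro v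
      split_ifs with h
      · subst h
        rw [ftr0, AddChar.map_zero_eq_one]
        ring
      · rw [ftr v h, zero_add]
    rw [Finset.sum_congr rfl fun v _ => e v, Finset.sum_add_distrib, Finset.sum_mul, Finset.sum_ite_eq',
      if_pos (Finset.mem_univ _)]
  have h0 : ((d : ℂ) - α) + q * α = q * n0 := by
    rw [← hn0, ← Finset.sum_congr rfl (fun v _ => one_mul _)]
    have := hsum 1
    simp only [AddChar.one_apply, Finset.sum_const, Finset.card_univ, nsmul_eq_mul, mul_one] at this
    rw [this]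
  -- the sum over the abelian normal part with a character non-trivial on the centre
  obtain ⟨ψ, hψ⟩ := AddChar.exists_apply_ne_zero.2 (one_ne_zero : (1 : F) ≠ 0)
  have hψ1 : ψ ≠ 1 := fun h => hψ (by rw [h]; rfl)
  let χ : AddChar (F × F) ℂ := ψ.compAddMonoidHom (AddMonoidHom.snd F F)
  obtain ⟨n, hn, -, -⟩ := exists_sum_trace (fun p : F × F => ρ (b p.1 * z p.2)) (fun a c => by
    rw [← map_mul, Prod.fst_add, Prod.snd_add, hb, hz, mul_assoc (b a.1), ← mul_assoc (b c.1),
      (hbz c.1 a.2).eq]
    simp only [mul_assoc]) χ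
  have h1 : ((d : ℂ) - α) = q ^ 2 * n := by
    rw [sq, ← Nat.cast_mul, ← Fintype.card_prod, ← hn, Fintype.sum_prod_type,
      Finset.sum_eq_single (0 : F)]
    · have := hsum ψ
      rw [(AddChar.sum_eq_zero_iff_ne_zero (ψ := ψ)).2 hψ1, zero_mul, add_zero] at this
      rw [← this]
      exact Finset.sum_congr rfl fun v _ => by rw [hb0, one_mul]; rfl
    · intro u _ hu
      have e : ∀ v, χ (u, v) * trace ℂ V (ρ (b u * z v)) = ψ v * trace ℂ V (ρ (b u)) := by
        intro v
        obtain ⟨g, hg⟩ := hconj u v hu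
        rw [← hg, trace_conj]
        rfl
      rw [Finset.sum_congr rfl fun v _ => e v, ← Finset.sum_mul,
        (AddChar.sum_eq_zero_iff_ne_zero (ψ := ψ)).2 hψ1, zero_mul]
    · intro h
      exact absurd (Finset.mem_univ _) h
  have hqpos : 1 < q := Fintype.one_lt_card
  have hdn : d = n0 + (q - 1) * q * n := by
    have : (q : ℂ) * d = q * (n0 + (q - 1) * q * n) := by
      linear_combination h0 + ((q : ℂ) - 1) * h1
    have h2 := mul_left_cancel₀ hq0 this
    rw [← Nat.cast_one, ← Nat.cast_sub hqpos.le] at h2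
    exact_mod_cast h2
  have hn1 : n ≠ 0 := by
    intro h
    rw [h, mul_zero, add_zero] at hdn
    have hS := hz0d hdn.symm
    obtain ⟨v, hv⟩ := hne
    refine hv ?_
    have e : ρ (z v) * ∑ a, ρ (z a) = ∑ a, ρ (z a) := by
      rw [Finset.mul_sum]
      exact Fintype.sum_bijective (fun a => v + a) (AddGroup.addLeft_bijective v) _ _
        fun a => by rw [hz, map_mul]
    rw [hS, mul_smul_comm, mul_one] at e
    exact smul_right_injective (End ℂ V) hq0 e
  have hge : q * (q - 1) ≤ (q - 1) * q * n :=
    le_trans (le_of_eq (mul_comm _ _)) (Nat.le_mul_of_pos_right _ (Nat.pos_of_ne_zero hn1))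
  refine ⟨by omega, fun heq h2 i hi => ?_⟩
  have hn00 : n0 = 0 := by omega
  have hS := hz00 hn00
  have e : ∀ v, trace ℂ V (ρ (i * z v)) = trace ℂ V (ρ i) := by
    intro v
    have hv : z (v / 2) * z (v / 2) = z v := by
      rw [← hz, ← two_mul, mul_div_cancel₀ _ h2]
    have hi' : i * z v = z (-(v / 2)) * i * (z (-(v / 2)))⁻¹ := by
      have h3 : i * z (v / 2) = z (-(v / 2)) * i := by
        rw [← hi (v / 2)]
        group
      have h4 : (z (-(v / 2)))⁻¹ = z (v / 2) := by
        refine inv_eq_of_mul_eq_one_right ?_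
        rw [← hz, neg_add_cancel, hz0]
      rw [h4, ← h3, mul_assoc, hv]
    rw [hi', trace_conj]
  have : (q : ℂ) * trace ℂ V (ρ i) = 0 := by
    rw [hq, ← Finset.card_univ, ← nsmul_eq_mul, ← Finset.sum_const, ← Finset.sum_congr rfl fun v _ => e v]
    simp only [map_mul]
    rw [← map_sum, ← Finset.mul_sum, hS, mul_zero, map_zero]
  exact (mul_eq_zero.1 this).resolve_left hq0

end Cfsg.Agent.H71.HeisenbergDegree
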