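/-
Fixed-point-free isometries of odd order: passing between alternating and symmetric forms, and
splitting a space along a semisimple isometry.
-/
import Cfsg.Agent.H2.Basis
import Cfsg.Agent.H5.OrthBasic

set_option autoImplicit false

namespace Cfsg.Agent.H71.IsometryTwist

open LinearMap (BilinForm)

variable {F V : Type*} [Field F] [AddCommGroup V] [Module F V]

theorem pow_apply_of_fixed (g : V ≃ₗ[F] V) {v : V} (h : g v = v) : ∀ i : ℕ, (g ^ i) v = v
  | 0 => rfl
  | i + 1 => by rw [pow_succ, LinearEquiv.mul_apply, h, pow_apply_of_fixed g h i]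

/-- An equivalence with trivial `N`th power and no non-zero fixed vector. -/
structure Fpf (N : ℕ) (g : V ≃ₗ[F] V) : Prop where
  pow : g ^ N = 1
  fix : ∀ v, g v = v → v = 0

/-- `g - g⁻¹`. -/
def dlt (g : V ≃ₗ[F] V) : Module.End F V := g.toLinearMap - g.symm.toLinearMap

theorem dlt_apply (g : V ≃ₗ[F] V) (v : V) : dlt g v = g v - g.symm v := rfl

theorem dlt_comm {g z : V ≃ₗ[F] V} (h : Commute z g) (v : V) : dlt g (z v) = z (dlt g v) := by
  have h1 : g (z v) = z (g v) := (LinearEquiv.congr_fun h.eq v).symm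
  have h2 : g.symm (z v) = z (g.symm v) := (LinearEquiv.congr_fun h.inv_right.eq v).symm
  rw [dlt_apply, dlt_apply, map_sub, h1, h2]

theorem dlt_injective {N : ℕ} {g : V ≃ₗ[F] V} (hN : Odd N) (hg : Fpf N g) :
    Function.Injective (dlt g) := by
  rw [injective_iff_map_eq_zero]
  intro v hv
  rw [dlt_apply, sub_eq_zero] at hv
  have h2 : (g ^ 2) v = v := by
    rw [pow_two, LinearEquiv.mul_apply, hv, LinearEquiv.apply_symm_apply]
  obtain ⟨j, rfl⟩ := hN
  refine hg.fix v ?_
  have h := LinearEquiv.congr_fun hg.pow v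
  rwa [pow_succ', LinearEquiv.mul_apply, pow_mul, pow_apply_of_fixed _ h2 j] at h

theorem dlt_adjoint {B : BilinForm F V} {g : V ≃ₗ[F] V} (hg : g ∈ H2.isometries B) (x y : V) :
    B (dlt g x) y = -B x (dlt g y) := by
  have h1 : B (g x) y = B x (g.symm y) := by
    conv_lhs => rw [← g.apply_symm_apply y]
    exact hg _ _
  have h2 : B (g.symm x) y = B x (g y) := by
    rw [← hg (g.symm x) y, g.apply_symm_apply]
  simp only [dlt_apply, map_sub, LinearMap.sub_apply, h1, h2]
  ring

/-- The symmetric form `B (δ x) y`. -/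
def sig (B : BilinForm F V) (g : V ≃ₗ[F] V) : BilinForm F V := B ∘ₗ (dlt g)

theorem sig_apply (B : BilinForm F V) (g : V ≃ₗ[F] V) (x y : V) : sig B g x y = B (dlt g x) y := rfl

theorem sig_symm {B : BilinForm F V} (hA : B.IsAlt) {g : V ≃ₗ[F] V} (hg : g ∈ H2.isometries B)
    (x y : V) : sig B g x y = sig B g y x := by
  rw [sig_apply, sig_apply, dlt_adjoint hg y x, hA.neg_eq]

/-- Minus one as an isometry. -/
def neg (B : BilinForm F V) : H2.isometries B := ⟨LinearEquiv.neg F, fun x y => by simp⟩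

@[simp] theorem neg_apply (B : BilinForm F V) (x : V) : (neg B : V ≃ₗ[F] V) x = -x := rfl

theorem neg_mul_self (B : BilinForm F V) : neg B * neg B = 1 :=
  Subtype.ext (LinearEquiv.ext fun x => by simp)

theorem iso_ext {B : BilinForm F V} {g h : H2.isometries B}
    (hh : ∀ x, (g : V ≃ₗ[F] V) x = (h : V ≃ₗ[F] V) x) : g = h :=
  Subtype.ext (LinearEquiv.ext hh)

theorem neg_comm (B : BilinForm F V) (g : H2.isometries B) : Commute (neg B) g :=
  iso_ext fun x => by simp

theorem neg_ne_one (B : BilinForm F V) (h2 : (2 : F) ≠ 0) {v : V} (hv : v ≠ 0) : neg B ≠ 1 := by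
  intro h
  have : -v = v := by simpa using LinearEquiv.congr_fun (congrArg Subtype.val h) v
  have h' : (2 : F) • v = 0 := by rw [two_smul]; nth_rw 1 [← this]; exact neg_add_cancel v
  exact hv ((smul_eq_zero.mp h').resolve_left h2)

variable [FiniteDimensional F V]

theorem sig_nondegenerate {B : BilinForm F V} (hB : B.Nondegenerate) (hA : B.IsAlt) {N : ℕ}
    (hN : Odd N) {g : V ≃ₗ[F] V} (hg : g ∈ H2.isometries B) (hf : Fpf N g) :
    (sig B g).Nondegenerate := by
  have key : ∀ x, (∀ y, sig B g x y = 0) → x = 0 := fun x hx =>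
    dlt_injective hN hf (by rw [map_zero]; exact hB.1 _ hx)
  exact ⟨key, fun y hy => key y fun x => by rw [sig_symm hA hg]; exact hy x⟩

/-- An equivalence commuting with `g` preserves `B` iff it preserves `sig B g`. -/
theorem mem_isometries_sig_iff {B : BilinForm F V} {N : ℕ} (hN : Odd N) {g z : V ≃ₗ[F] V}
    (hf : Fpf N g) (hz : Commute z g) :
    z ∈ H2.isometries (sig B g) ↔ z ∈ H2.isometries B := by
  simp only [H2.mem_isometries, sig_apply, dlt_comm hz]
  refine ⟨fun h x y => ?_, fun h x y => h _ _⟩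
  obtain ⟨x', rfl⟩ := LinearMap.injective_iff_surjective.mp (dlt_injective hN hf) x
  exact h x' y

/-- A symmetric form with a fixed-point-free isometry of odd order is `sig` of an alternating one. -/
theorem exists_alt_twist (h2 : (2 : F) ≠ 0) {P : BilinForm F V} (hP : P.Nondegenerate)
    (hsym : ∀ x y, P x y = P y x) {N : ℕ} (hN : Odd N) {g : V ≃ₗ[F] V} (hg : g ∈ H2.isometries P)
    (hf : Fpf N g) :
    ∃ β : BilinForm F V, β.IsAlt ∧ β.Nondegenerate ∧ g ∈ H2.isometries β ∧ sig β g = P := by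
  let D := LinearEquiv.ofBijective (dlt g)
    ⟨dlt_injective hN hf, LinearMap.injective_iff_surjective.mp (dlt_injective hN hf)⟩
  have hD : ∀ x, dlt g (D.symm x) = x := D.apply_symm_apply
  let β : BilinForm F V := P ∘ₗ D.symm.toLinearMap
  have hβ : ∀ x y, β (dlt g x) y = P x y := fun x y => by
    show P (D.symm (D x)) y = _
    rw [D.symm_apply_apply]
  have hskew : ∀ x y, β y x = -β x y := fun x y => by
    rw [← hD x, ← hD y, hβ, hβ, hsym, dlt_adjoint hg (D.symm x) (D.symm y)]
  have hA : β.IsAlt := fun x => by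
    have h := hskew x x
    exact (mul_eq_zero.mp (by rw [two_mul]; nth_rw 1 [h]; exact neg_add_cancel _)).resolve_left h2
  have key : ∀ x, (∀ y, β x y = 0) → x = 0 := fun x hx =>
    D.symm.injective (by rw [map_zero]; exact hP.1 _ hx)
  refine ⟨β, hA, ⟨key, fun y hy => key y fun x => by rw [hskew, hy, neg_zero]⟩, ?_,
    LinearMap.ext fun x => LinearMap.ext fun y => hβ x y⟩
  rw [← mem_isometries_sig_iff hN hf (Commute.refl g)]
  intro x y
  simp only [sig_apply, hβ]
  exact hg x y

theorem even_finrank {B : BilinForm F V} (hB : B.Nondegenerate) (hA : B.IsAlt) :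
    Even (Module.finrank F V) := by
  obtain ⟨m, e, hd, -⟩ := H2.exists_equiv_std B hB hA
  exact ⟨m, by omega⟩

/-- `g - 1`. -/
def mv (g : V ≃ₗ[F] V) : Module.End F V := g.toLinearMap - LinearMap.id

omit [FiniteDimensional F V] in
theorem mv_apply (g : V ≃ₗ[F] V) (v : V) : mv g v = g v - v := rfl

omit [FiniteDimensional F V] in
theorem mem_ker_mv {g : V ≃ₗ[F] V} {v : V} : v ∈ LinearMap.ker (mv g) ↔ g v = v := by
  rw [LinearMap.mem_ker, mv_apply, sub_eq_zero]

theorem isCompl_mv {g : V ≃ₗ[F] V} {N : ℕ} (hg : g ^ N = 1) (hN : (N : F) ≠ 0) :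
    IsCompl (LinearMap.range (mv g)) (LinearMap.ker (mv g)) := by
  have hdisj : Disjoint (LinearMap.range (mv g)) (LinearMap.ker (mv g)) := by
    rw [Submodule.disjoint_def]
    rintro w ⟨v, rfl⟩ hk
    rw [mem_ker_mv] at hk
    have h : ∀ i : ℕ, (g ^ i) v = v + (i : F) • mv g v := by
      intro i
      induction i with
      | zero => simp
      | succ i ih =>
        rw [pow_succ', LinearEquiv.mul_apply, ih, map_add, map_smul, hk, Nat.cast_succ, add_smul,
          one_smul, mv_apply]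
        module
    have h' := h N
    rw [hg, LinearEquiv.coe_one, id, left_eq_add, smul_eq_zero] at h'
    exact h'.resolve_left hN
  refine ⟨hdisj, codisjoint_iff.mpr (Submodule.eq_top_of_finrank_eq ?_)⟩
  have := Submodule.finrank_sup_add_finrank_inf_eq (LinearMap.range (mv g)) (LinearMap.ker (mv g))
  rw [hdisj.eq_bot, finrank_bot, add_zero] at this
  rw [this, LinearMap.finrank_range_add_finrank_ker]

/-- The restriction of an equivalence to a stable subspace. -/
noncomputable def res (z : V ≃ₗ[F] V) (U : Submodule F V) (hz : ∀ v ∈ U, z v ∈ U) : U ≃ₗ[F] U :=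
  have hi : Function.Injective (z.toLinearMap.restrict hz) := fun _ _ h =>
    Subtype.ext (z.injective (congrArg Subtype.val h))
  LinearEquiv.ofBijective _ ⟨hi, LinearMap.injective_iff_surjective.mp hi⟩

theorem res_apply (z : V ≃ₗ[F] V) (U : Submodule F V) (hz : ∀ v ∈ U, z v ∈ U) (v : U) :
    (res z U hz v : V) = z v := rfl

/-- Splitting a space along a semisimple isometry. -/
theorem exists_split {B : BilinForm F V} (hB : B.Nondegenerate) (hr : B.IsRefl) {g : V ≃ₗ[F] V}
    (hg : g ∈ H2.isometries B) {N : ℕ} (hgN : g ^ N = 1) (hN : (N : F) ≠ 0) :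
    ∃ (W K : Submodule F V) (E : (W × K) ≃ₗ[F] V) (gW : H2.isometries (B.restrict W)),
      (∀ a c, E (a, c) = (a : V) + c) ∧
      (∀ (a a' : W) (c c' : K),
        B (E (a, c)) (E (a', c')) = B.restrict W a a' + B.restrict K c c') ∧
      (B.restrict W).Nondegenerate ∧ (B.restrict K).Nondegenerate ∧
      Fpf N (gW : W ≃ₗ[F] W) ∧ (∀ a c, g (E (a, c)) = E ((gW : W ≃ₗ[F] W) a, c)) ∧
      W = LinearMap.range (mv g) ∧
      ∀ z ∈ H2.isometries B, Commute z g →
        ∃ (zW : H2.isometries (B.restrict W)) (zK : H2.isometries (B.restrict K)),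
          (∀ a c, z (E (a, c)) = E ((zW : W ≃ₗ[F] W) a, (zK : K ≃ₗ[F] K) c)) ∧ Commute zW gW := by
  set W := LinearMap.range (mv g) with hW
  set K := LinearMap.ker (mv g) with hK
  have hc : IsCompl W K := isCompl_mv hgN hN
  have hperp : ∀ w ∈ W, ∀ x ∈ K, B w x = 0 := by
    rintro _ ⟨v, rfl⟩ x hx
    rw [hK, mem_ker_mv] at hx
    rw [mv_apply, map_sub, LinearMap.sub_apply, sub_eq_zero]
    conv_lhs => rw [← hx]
    exact hg v x
  let E := Submodule.prodEquivOfIsCompl W K hc
  have hE : ∀ (a : W) (c : K), E (a, c) = (a : V) + c := fun a c => rfl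
  have hform : ∀ (a a' : W) (c c' : K),
      B (E (a, c)) (E (a', c')) = B.restrict W a a' + B.restrict K c c' := by
    intro a a' c c'
    simp [hE, hperp a a.2 c' c'.2, hr _ _ (hperp a' a'.2 c c.2)]
  have hWn : (B.restrict W).Nondegenerate := by
    refine ⟨fun a ha => ?_, fun a ha => ?_⟩
    · refine Subtype.ext (hB.1 _ fun v => ?_)
      obtain ⟨⟨a', c'⟩, rfl⟩ := E.surjective v
      simpa [hE, hperp a a.2 c' c'.2] using ha a'
    · refine Subtype.ext (hB.2 _ fun v => ?_)
      obtain ⟨⟨a', c'⟩, rfl⟩ := E.surjective v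
      simpa [hE, hr _ _ (hperp a a.2 c' c'.2)] using ha a'
  have hKn : (B.restrict K).Nondegenerate := by
    refine ⟨fun c hc => ?_, fun c hc => ?_⟩
    · refine Subtype.ext (hB.1 _ fun v => ?_)
      obtain ⟨⟨a', c'⟩, rfl⟩ := E.surjective v
      simpa [hE, hr _ _ (hperp a' a'.2 c c.2)] using hc c'
    · refine Subtype.ext (hB.2 _ fun v => ?_)
      obtain ⟨⟨a', c'⟩, rfl⟩ := E.surjective v
      simpa [hE, hperp a' a'.2 c c.2] using hc c'
  have mapW : ∀ z : V ≃ₗ[F] V, Commute z g → ∀ v ∈ W, z v ∈ W := by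
    rintro z hz _ ⟨v, rfl⟩
    exact ⟨z v, by rw [mv_apply, mv_apply, map_sub,
      show g (z v) = z (g v) from (LinearEquiv.congr_fun hz.eq v).symm]⟩
  have mapK : ∀ z : V ≃ₗ[F] V, Commute z g → ∀ v ∈ K, z v ∈ K := by
    intro z hz v hv
    rw [hK, mem_ker_mv] at hv ⊢
    rw [show g (z v) = z (g v) from (LinearEquiv.congr_fun hz.eq v).symm, hv]
  let gW : H2.isometries (B.restrict W) :=
    ⟨res g W (mapW g (Commute.refl g)), fun x y => hg x y⟩
  have hgWp : ∀ (i : ℕ) (a : W), ((((gW : W ≃ₗ[F] W) ^ i) a : W) : V) = (g ^ i) a := by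
    intro i
    induction i with
    | zero => intro a; rfl
    | succ i ih => intro a; rw [pow_succ, LinearEquiv.mul_apply, ih, pow_succ, LinearEquiv.mul_apply]; rfl
  refine ⟨W, K, E, gW, hE, hform, hWn, hKn, ⟨?_, ?_⟩, ?_, rfl, fun z hz hzg =>
    ⟨⟨res z W (mapW z hzg), fun x y => hz x y⟩, ⟨res z K (mapK z hzg), fun x y => hz x y⟩, ?_, ?_⟩⟩
  · exact LinearEquiv.ext fun a => Subtype.ext (by rw [hgWp, hgN]; rfl)
  · intro a ha
    have : g (a : V) = a := congrArg Subtype.val ha
    exact Subtype.ext (Submodule.disjoint_def.mp hc.disjoint a a.2 (by rw [hK, mem_ker_mv]; exact this))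
  · intro a c
    rw [hE, hE, map_add, show g (c : V) = c from mem_ker_mv.mp (hK ▸ c.2)]
    rfl
  · intro a c
    rw [hE, hE, map_add]
    rfl
  · exact iso_ext fun a => Subtype.ext (LinearEquiv.congr_fun hzg.eq (a : V))

/-- An involutive isometry of a symplectic space moves an even-dimensional space. -/
theorem even_finrank_range_mv {B : BilinForm F V} (hB : B.Nondegenerate) (hA : B.IsAlt)
    (h2 : (2 : F) ≠ 0) {z : V ≃ₗ[F] V} (hz : z ∈ H2.isometries B) (hz2 : z ^ 2 = 1) :
    Even (Module.finrank F (LinearMap.range (mv z))) := by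
  obtain ⟨W, K, E, gW, -, -, hWn, -, -, -, rfl, -⟩ :=
    exists_split hB hA.isRefl hz hz2 (by exact_mod_cast h2)
  exact even_finrank hWn fun a => hA _

end Cfsg.Agent.H71.IsometryTwist
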