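import Cfsg.Agent.H71.HeisenbergDegree
import Cfsg.Agent.H48.Ree.Shape
import Cfsg.Agent.H65.Twist.ReeStatements
import Mathlib.RepresentationTheory.Irreducible

/-!
The smallest degree of a non-trivial complex representation of the small Ree groups.
-/

set_option autoImplicit false

open Cfsg.Lie Cfsg.Agent.H48.Ree Cfsg.Agent.H65.Twist Module

namespace Cfsg.Agent.H71.ReeMinDegree

variable {K : Type*} [Field K] [Fintype K] {m : ℕ}

theorem exponent_injective (hq : ∀ x : K, x ^ 3 ^ (2 * m + 1) = x) (hK : Fintype.card K = 3 ^ (2 * m + 1))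
    [CharP K 3] {x : Kˣ} (hx : x ^ (3 * 3 ^ m + 2) = 1) : x = 1 := by
  classical
  obtain ⟨k, hk, hk2⟩ := exists_half m
  have hord : (x ^ 2) ^ k = 1 := by
    rw [← pow_mul, ← hk2, ← hK, ← Fintype.card_units]
    exact pow_card_eq_one
  have h2 : x ^ 2 = 1 := (param_fixed_free hq (hk.of_dvd_nat (orderOf_dvd_of_pow_eq_one hord))).2 (by
    rw [← pow_mul, mul_comm, pow_mul, hx, one_pow])
  obtain ⟨j, hj⟩ : ∃ j, 3 * 3 ^ m + 2 = 2 * j + 1 := by
    obtain ⟨a, ha⟩ : Odd (3 * 3 ^ m) := Odd.mul (by decide) (Odd.pow (by decide))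
    exact ⟨a + 1, by omega⟩
  rwa [hj, pow_succ, pow_mul, h2, one_pow, one_mul] at hx

/-- The data of Heisenberg type and the inverting involution. -/
theorem exists_data (hK : Fintype.card K = 3 ^ (2 * m + 1)) :
    ∃ (b z : K → ↥(twistedG2 K (3 ^ m))) (i : ↥(twistedG2 K (3 ^ m))),
      (∀ u w, b (u + w) = b u * b w) ∧ (∀ v w, z (v + w) = z v * z w) ∧
      (∀ u v, Commute (b u) (z v)) ∧
      (∀ u v, u ≠ 0 → ∃ g, g * b u * g⁻¹ = b u * z v) ∧
      (∀ c v, c ≠ 0 → ∃ h, h * z v * h⁻¹ = z (c * v)) ∧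
      i * i = 1 ∧ (∀ v, i * z v * i⁻¹ = z (-v)) ∧ z 1 ≠ 1 := by
  classical
  have := (field_data hK).1
  have hq := (field_data hK).2
  have he : (3 : ℕ) * 3 ^ m ≠ 0 := by positivity
  obtain ⟨ψ, hψ, hact⟩ := exists_param (uShape hK)
  have hsurj : Function.Surjective ψ := by
    have : Finite ↥(chevG2.diagonalSubgroup K ⊓ twistedG2 K (3 ^ m)) := Finite.of_injective ψ hψ
    refine ((Nat.bijective_iff_injective_and_card ψ).2 ⟨hψ, ?_⟩).2
    rw [ree_card_diagonal hK, Nat.card_units, Nat.card_eq_fintype_card, hK]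
  have hpow : Function.Surjective fun x : Kˣ => x ^ (3 * 3 ^ m + 2) := by
    refine Finite.surjective_of_injective fun x y h => ?_
    refine mul_inv_eq_one.1 (exponent_injective hq hK ?_)
    rw [mul_pow, inv_pow, mul_inv_eq_one]
    exact h
  have hinG : ∀ h : ↥(chevG2.diagonalSubgroup K ⊓ twistedG2 K (3 ^ m)),
      (h : GL chevG2.Idx K) ∈ twistedG2 K (3 ^ m) := fun h => (Subgroup.mem_inf.1 h.2).2
  let b : K → ↥(twistedG2 K (3 ^ m)) := fun u => ⟨W (3 ^ m) 0 u 0, W_mem_twisted _ _ _ _⟩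
  let z : K → ↥(twistedG2 K (3 ^ m)) := fun v => ⟨W (3 ^ m) 0 0 v, W_mem_twisted _ _ _ _⟩
  have hzconj : ∀ h v, (⟨_, hinG h⟩ : ↥(twistedG2 K (3 ^ m))) * z v * (⟨_, hinG h⟩)⁻¹ =
      z (((ψ h ^ (3 * 3 ^ m + 2) : Kˣ) : K) * v) := fun h v => Subtype.ext (by
    simp only [z, Subgroup.coe_mul, Subgroup.coe_inv]
    rw [hact h 0 0 v, mul_zero, mul_zero, Units.val_pow_eq_pow_val])
  obtain ⟨i, hi⟩ := hsurj (-1)
  refine ⟨b, z, ⟨_, hinG i⟩, fun u w => Subtype.ext ?_, fun v w => Subtype.ext ?_, fun u v => Subtype.ext ?_,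
    fun u v hu => ?_, fun c v hc => ?_, ?_, fun v => ?_, fun h => ?_⟩
  · simp only [b, Subgroup.coe_mul]
    rw [W_mul hq]
    congr 1 <;> simp
  · simp only [z, Subgroup.coe_mul]
    rw [W_mul hq]
    congr 1 <;> simp
  · simp only [b, z, Subgroup.coe_mul]
    rw [W_mul hq, W_mul hq]
    congr 1 <;> simp
  · refine ⟨⟨W (3 ^ m) (v / u) 0 0, W_mem_twisted _ _ _ _⟩, Subtype.ext ?_⟩
    simp only [b, z, Subgroup.coe_mul, Subgroup.coe_inv]
    rw [mul_inv_eq_iff_eq_mul, W_mul hq, W_mul hq, W_mul hq]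
    congr 1 <;> simp [zero_pow he, hu]
  · obtain ⟨x, hx⟩ := hpow (Units.mk0 c hc)
    obtain ⟨h, rfl⟩ := hsurj x
    refine ⟨⟨_, hinG h⟩, (hzconj h v).trans ?_⟩
    simp only at hx
    rw [hx, Units.val_mk0]
  · have : i * i = 1 := hψ (by rw [map_mul, map_one, hi]; simp)
    exact Subtype.ext (show (i : GL chevG2.Idx K) * i = 1 by rw [← Subgroup.coe_mul, this, Subgroup.coe_one])
  · rw [hzconj, hi]
    have hodd : Odd (3 * 3 ^ m + 2) := (Odd.mul (by decide) (Odd.pow (by decide))).add_even (by decide)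
    rw [hodd.neg_one_pow, Units.val_neg, Units.val_one, neg_one_mul]
  · exact one_ne_zero (W_eq_one_iff.1 (congrArg Subtype.val h)).2.2

/-- Every irreducible complex representation of degree at least two has degree at least `q² - q + 1`. -/
theorem min_degree (hm : 1 ≤ m) (hK : Fintype.card K = 3 ^ (2 * m + 1)) (k : ℕ)
    (ρ : Representation ℂ ↥(twistedG2 K (3 ^ m)) (Fin k → ℂ)) (hρ : ρ.IsIrreducible) (hk : 2 ≤ k) :
    (3 ^ (2 * m + 1)) ^ 2 - 3 ^ (2 * m + 1) + 1 ≤ k := by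
  classical
  have := (field_data hK).1
  obtain ⟨hsimple, hnc⟩ := ree_simple hm hK
  have := hsimple
  obtain ⟨b, z, i, hb, hz, hbz, hconj, htor, hii, hinv, hz1⟩ := exists_data hK
  have hne : ∃ v, ρ (z v) ≠ 1 := by
    by_contra hc
    push Not at hc
    rcases (MonoidHom.normal_ker (ρ : _ →* _)).eq_bot_or_eq_top with h | h
    · exact hz1 ((Subgroup.eq_bot_iff_forall _).1 h _ (hc 1))
    · have htriv : ∀ g, ρ g = 1 := fun g => (h ▸ Subgroup.mem_top g : g ∈ MonoidHom.ker (ρ : _ →* _))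
      set e : Fin k → ℂ := Pi.single ⟨0, by omega⟩ 1
      let σ : Subrepresentation ρ := ⟨Submodule.span ℂ {e}, fun g v hv => by rw [htriv g]; exact hv⟩
      let σ0 : Subrepresentation ρ := ⟨⊥, fun g v hv => by rw [htriv g]; exact hv⟩
      let σ1 : Subrepresentation ρ := ⟨⊤, fun g v hv => by rw [htriv g]; exact hv⟩
      have he : finrank ℂ (Submodule.span ℂ ({e} : Set (Fin k → ℂ))) = 1 :=
        finrank_span_singleton (by simp [e])
      have : IsSimpleOrder (Subrepresentation ρ) := hρ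
      have hne1 : σ ≠ σ1 := fun h' => by
        have h2 : Submodule.span ℂ ({e} : Set (Fin k → ℂ)) = ⊤ := congrArg Subrepresentation.toSubmodule h'
        rw [h2, finrank_top, finrank_fin_fun] at he
        omega
      have hne0 : σ ≠ σ0 := fun h' => by
        have h2 : Submodule.span ℂ ({e} : Set (Fin k → ℂ)) = ⊥ := congrArg Subrepresentation.toSubmodule h'
        rw [h2, finrank_bot] at he
        omega
      have h01 : σ0 ≠ σ1 := fun h' => by
        have h2 : (⊥ : Submodule ℂ (Fin k → ℂ)) = ⊤ := congrArg Subrepresentation.toSubmodule h'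
        have h3 := congrArg (fun S : Submodule ℂ (Fin k → ℂ) => finrank ℂ S) h2
        simp only [finrank_bot, finrank_top, finrank_fin_fun] at h3
        omega
      rcases eq_bot_or_eq_top σ with a | a <;> rcases eq_bot_or_eq_top σ0 with c | c <;>
        rcases eq_bot_or_eq_top σ1 with d | d <;> simp_all
  obtain ⟨hbound, heq⟩ := HeisenbergDegree.degree_bound (ρ : _ →* _) b z hb hz hbz hconj htor hne
  rw [hK, finrank_fin_fun] at hbound heq
  have hle : (3 ^ (2 * m + 1)) ^ 2 - 3 ^ (2 * m + 1) = 3 ^ (2 * m + 1) * (3 ^ (2 * m + 1) - 1) := by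
    rw [sq, Nat.mul_sub, mul_one]
  rw [hle]
  refine Nat.succ_le_of_lt (lt_of_le_of_ne hbound fun hk' => ?_)
  have h2 : (2 : K) ≠ 0 := Ring.two_ne_zero (by rw [ringChar.eq K 3]; norm_num)
  have h0 := heq hk'.symm h2 i hinv
  obtain ⟨l, hl, hdet⟩ := HeisenbergDegree.det_of_trace_zero (T := ρ i) (by rw [← map_mul, hii, map_one]) h0
  rw [finrank_fin_fun] at hl
  have hperf : commutator ↥(twistedG2 K (3 ^ m)) = ⊤ := by
    rcases (Subgroup.commutator_normal ⊤ ⊤ : (commutator ↥(twistedG2 K (3 ^ m))).Normal).eq_bot_or_eq_top with h | h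
    · rw [Subgroup.commutator_eq_bot_iff_le_centralizer] at h
      refine absurd ⟨⟨fun x y => ?_⟩⟩ hnc
      exact Subgroup.mem_centralizer_iff.1 (h (Subgroup.mem_top y)) x (Subgroup.mem_top x)
    · exact h
  have hd1 : LinearMap.det (ρ i) = 1 := by
    let f : ↥(twistedG2 K (3 ^ m)) →* ℂ :=
      { toFun := fun g => LinearMap.det (ρ g)
        map_one' := by rw [map_one ρ, map_one]
        map_mul' := fun g h => by rw [map_mul ρ, map_mul] }
    have hi : i ∈ commutator ↥(twistedG2 K (3 ^ m)) := by rw [hperf]; exact Subgroup.mem_top i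
    exact congrArg Units.val (MonoidHom.mem_ker.1 (Abelianization.commutator_subset_ker f.toHomUnits hi))
  rw [hdet] at hd1
  have hev : Even l := (neg_one_pow_eq_one_iff_even (by norm_num)).1 hd1
  obtain ⟨r, rfl⟩ := hev
  obtain ⟨j, hj, hj2⟩ := exists_half m
  obtain ⟨a, ha⟩ : Odd (3 ^ (2 * m + 1) * j) := (Odd.pow (by decide)).mul hj
  rw [hj2, hl, mul_left_comm, ha] at hk'
  omega

end Cfsg.Agent.H71.ReeMinDegree
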