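/-
A class of semisimple elements of order 4 in `SL_3(3)` whose square covers every non-scalar element.
-/
import Mathlib

set_option autoImplicit false

open Matrix

namespace Cfsg.Agent.H71.ThreeThree

/-- Product of 3x3 matrices modulo 3, stored as digit lists. -/
def mulDig (f g : Fin 9 → ℕ) : Fin 9 → ℕ := fun k =>
  match k with
  | 0 => (f 0 * g 0 + f 1 * g 3 + f 2 * g 6) % 3
  | 1 => (f 0 * g 1 + f 1 * g 4 + f 2 * g 7) % 3
  | 2 => (f 0 * g 2 + f 1 * g 5 + f 2 * g 8) % 3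
  | 3 => (f 3 * g 0 + f 4 * g 3 + f 5 * g 6) % 3
  | 4 => (f 3 * g 1 + f 4 * g 4 + f 5 * g 7) % 3
  | 5 => (f 3 * g 2 + f 4 * g 5 + f 5 * g 8) % 3
  | 6 => (f 6 * g 0 + f 7 * g 3 + f 8 * g 6) % 3
  | 7 => (f 6 * g 1 + f 7 * g 4 + f 8 * g 7) % 3
  | 8 => (f 6 * g 2 + f 7 * g 5 + f 8 * g 8) % 3

/-- Base 3 digits of a number. -/
def dig (n : ℕ) : Fin 9 → ℕ := fun k => n / 3 ^ (k : ℕ) % 3

/-- Adjugate modulo 3. -/
def adjDig (f : Fin 9 → ℕ) : Fin 9 → ℕ := fun k =>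
  match k with
  | 0 => (f 4 * f 8 + 2 * f 5 * f 7) % 3
  | 1 => (f 2 * f 7 + 2 * f 1 * f 8) % 3
  | 2 => (f 1 * f 5 + 2 * f 2 * f 4) % 3
  | 3 => (f 5 * f 6 + 2 * f 3 * f 8) % 3
  | 4 => (f 0 * f 8 + 2 * f 2 * f 6) % 3
  | 5 => (f 2 * f 3 + 2 * f 0 * f 5) % 3
  | 6 => (f 3 * f 7 + 2 * f 4 * f 6) % 3
  | 7 => (f 1 * f 6 + 2 * f 0 * f 7) % 3
  | 8 => (f 0 * f 4 + 2 * f 1 * f 3) % 3

/-- Determinant modulo 3. -/
def detDig (f : Fin 9 → ℕ) : ℕ :=
  (f 0 * (f 4 * f 8 + 2 * f 5 * f 7) + f 1 * (f 5 * f 6 + 2 * f 3 * f 8)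
    + f 2 * (f 3 * f 7 + 2 * f 4 * f 6)) % 3

/-- The matrix over `ZMod 3` with the given digits. -/
def toMat (f : Fin 9 → ℕ) : Matrix (Fin 3) (Fin 3) (ZMod 3) :=
  !![(f 0 : ZMod 3), (f 1 : ZMod 3), (f 2 : ZMod 3); (f 3 : ZMod 3), (f 4 : ZMod 3), (f 5 : ZMod 3);
     (f 6 : ZMod 3), (f 7 : ZMod 3), (f 8 : ZMod 3)]

/-- Digits of the normal form. -/
def normDig (i : ℕ) : Fin 9 → ℕ :=
  ![0, i / 243 % 3, i / 81 % 3, 1, i / 27 % 3, i / 9 % 3, 0, i / 3 % 3, i % 3]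

/-- The element of order four. -/
def xDig : Fin 9 → ℕ := ![0, 0, 1, 0, 1, 0, 2, 0, 0]

/-- Conjugators for the two factors of each normal form. -/
def witness : List (ℕ × ℕ) := [
  (0, 0), (0, 0), (0, 0), (0, 0), (0, 0), (0, 0), (0, 0), (0, 0), (0, 0), (0, 0), (0, 0), (0, 0), (0, 0), (0, 0), (0, 0), (0, 0), (0, 0), (0, 0), (0, 0), (0, 0), (0, 0), (0, 0), (0, 0), (0, 0), (0, 0), (0, 0), (0, 0),
  (0, 0), (0, 0), (0, 0), (0, 0), (0, 0), (0, 0), (0, 0), (0, 0), (0, 0), (0, 0), (0, 0), (0, 0), (0, 0), (0, 0), (0, 0), (0, 0), (0, 0), (0, 0), (0, 0), (0, 0), (0, 0), (0, 0), (0, 0), (0, 0), (0, 0), (0, 0), (0, 0),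
  (0, 0), (0, 0), (0, 0), (0, 0), (0, 0), (0, 0), (0, 0), (0, 0), (0, 0), (0, 0), (0, 0), (0, 0), (0, 0), (0, 0), (0, 0), (0, 0), (0, 0), (0, 0), (0, 0), (0, 0), (0, 0), (0, 0), (0, 0), (0, 0), (0, 0), (0, 0), (0, 0),
  (0, 0), (0, 0), (0, 0), (1548, 2223), (1548, 2307), (1548, 2391), (0, 0), (0, 0), (0, 0), (0, 0), (0, 0), (0, 0), (1548, 2388), (1548, 2229), (1548, 2304), (0, 0), (0, 0), (0, 0), (0, 0), (0, 0), (0, 0), (1548, 2310), (1548, 2385), (1548, 2226), (0, 0), (0, 0), (0, 0),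
  (0, 0), (0, 0), (0, 0), (5922, 17802), (14670, 9864), (8109, 17235), (0, 0), (0, 0), (0, 0), (0, 0), (0, 0), (0, 0), (16857, 5457), (3735, 5376), (10296, 5538), (0, 0), (0, 0), (0, 0), (0, 0), (0, 0), (0, 0), (1791, 2388), (1791, 2307), (1791, 2226), (0, 0), (0, 0), (0, 0),
  (0, 0), (0, 0), (0, 0), (3735, 6381), (10296, 18774), (16857, 11484), (0, 0), (0, 0), (0, 0), (0, 0), (0, 0), (0, 0), (14670, 10134), (5922, 10275), (2034, 2304), (0, 0), (0, 0), (0, 0), (0, 0), (0, 0), (0, 0), (8109, 17343), (12483, 10680), (8352, 17235), (0, 0), (0, 0), (0, 0),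
  (0, 0), (0, 0), (0, 0), (0, 0), (0, 0), (0, 0), (6165, 18396), (12726, 7032), (5922, 11868), (0, 0), (0, 0), (0, 0), (0, 0), (0, 0), (0, 0), (8109, 16539), (19044, 6273), (12726, 8115), (0, 0), (0, 0), (0, 0), (0, 0), (0, 0), (0, 0), (14670, 10704), (8352, 16404), (16857, 17640),
  (0, 0), (0, 0), (0, 0), (0, 0), (0, 0), (0, 0), (6165, 16212), (3735, 4113), (14022, 9864), (0, 0), (0, 0), (0, 0), (0, 0), (0, 0), (0, 0), (8595, 16539), (8109, 16404), (8352, 16269), (0, 0), (0, 0), (0, 0), (0, 0), (0, 0), (0, 0), (10296, 10110), (3087, 9723), (14670, 10650),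
  (0, 0), (0, 0), (0, 0), (0, 0), (0, 0), (0, 0), (10296, 8004), (12483, 5739), (6165, 13728), (0, 0), (0, 0), (0, 0), (0, 0), (0, 0), (0, 0), (8352, 16539), (14670, 10353), (10296, 15267), (0, 0), (0, 0), (0, 0), (0, 0), (0, 0), (0, 0), (16857, 16284), (10296, 14259), (8109, 16269),
  (0, 0), (0, 0), (2034, 6495), (0, 0), (0, 0), (14022, 2307), (0, 0), (0, 0), (8109, 2391), (0, 0), (0, 0), (12483, 10677), (0, 0), (0, 0), (10296, 8007), (0, 0), (0, 0), (8109, 2304), (0, 0), (0, 0), (8109, 10704), (0, 0), (0, 0), (8109, 6360), (0, 0), (0, 0), (8109, 2226),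
  (0, 0), (0, 0), (12483, 8406), (0, 0), (0, 0), (1548, 9864), (0, 0), (0, 0), (16857, 11322), (0, 0), (0, 0), (14913, 17343), (0, 0), (0, 0), (8352, 6360), (0, 0), (0, 0), (1548, 16404), (0, 0), (0, 0), (1548, 6495), (0, 0), (0, 0), (3735, 9885), (0, 0), (0, 0), (10296, 9723),
  (0, 0), (0, 0), (5922, 13758), (0, 0), (0, 0), (10296, 10113), (0, 0), (0, 0), (14670, 6468), (0, 0), (0, 0), (3735, 10431), (0, 0), (0, 0), (2034, 9864), (0, 0), (0, 0), (8352, 2226), (0, 0), (0, 0), (14670, 17343), (0, 0), (0, 0), (12483, 3171), (0, 0), (0, 0), (12483, 16104),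
  (0, 0), (0, 0), (14670, 16803), (1548, 9513), (0, 0), (0, 0), (0, 0), (8109, 2223), (0, 0), (0, 0), (0, 0), (16803, 14619), (7461, 5628), (0, 0), (0, 0), (0, 0), (1548, 16539), (0, 0), (0, 0), (0, 0), (1548, 6360), (10296, 1056), (0, 0), (0, 0), (0, 0), (8109, 2310), (0, 0),
  (0, 0), (0, 0), (5922, 16425), (5922, 18531), (0, 0), (0, 0), (0, 0), (5922, 14319), (0, 0), (0, 0), (0, 0), (12483, 8352), (3978, 3924), (0, 0), (0, 0), (0, 0), (3735, 18507), (0, 0), (0, 0), (0, 0), (8109, 10650), (2034, 9513), (0, 0), (0, 0), (0, 0), (14670, 6495), (0, 0),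
  (0, 0), (0, 0), (16857, 18045), (8109, 6468), (0, 0), (0, 0), (0, 0), (10296, 5652), (0, 0), (0, 0), (0, 0), (5922, 14322), (5922, 16428), (0, 0), (0, 0), (0, 0), (5922, 18534), (0, 0), (0, 0), (0, 0), (12726, 8163), (6408, 15831), (0, 0), (0, 0), (0, 0), (19044, 5517), (0, 0),
  (0, 0), (0, 0), (16857, 11055), (0, 0), (10296, 14784), (0, 0), (8109, 2307), (0, 0), (0, 0), (0, 0), (0, 0), (1791, 6468), (0, 0), (2034, 10134), (0, 0), (8109, 2229), (0, 0), (0, 0), (0, 0), (0, 0), (9513, 7332), (0, 0), (900, 10704), (0, 0), (8109, 2385), (0, 0), (0, 0),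
  (0, 0), (0, 0), (14670, 17235), (0, 0), (5274, 8406), (0, 0), (14913, 6360), (0, 0), (0, 0), (0, 0), (0, 0), (12726, 10299), (0, 0), (12483, 11541), (0, 0), (5922, 14292), (0, 0), (0, 0), (0, 0), (0, 0), (12483, 8379), (0, 0), (8109, 6495), (0, 0), (19044, 16833), (0, 0), (0, 0),
  (0, 0), (0, 0), (1548, 6468), (0, 0), (8352, 6495), (0, 0), (8352, 2307), (0, 0), (0, 0), (0, 0), (0, 0), (8109, 10353), (0, 0), (1548, 10134), (0, 0), (1791, 16269), (0, 0), (0, 0), (0, 0), (0, 0), (5922, 1068), (0, 0), (5274, 12705), (0, 0), (1548, 16269), (0, 0), (0, 0),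
  (0, 0), (3735, 7410), (0, 0), (0, 0), (12483, 19074), (0, 0), (0, 0), (14670, 2307), (0, 0), (0, 0), (14670, 16539), (0, 0), (0, 0), (14670, 5628), (0, 0), (0, 0), (14670, 2229), (0, 0), (0, 0), (1791, 5682), (0, 0), (0, 0), (3978, 15183), (0, 0), (0, 0), (14670, 2385), (0, 0),
  (0, 0), (10296, 7758), (0, 0), (0, 0), (1548, 17235), (0, 0), (0, 0), (19044, 4842), (0, 0), (0, 0), (1548, 5682), (0, 0), (0, 0), (19044, 9546), (0, 0), (0, 0), (19044, 4683), (0, 0), (0, 0), (5922, 18186), (0, 0), (0, 0), (3735, 14724), (0, 0), (0, 0), (1548, 10650), (0, 0),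
  (0, 0), (2034, 5682), (0, 0), (0, 0), (14022, 6468), (0, 0), (0, 0), (8109, 5817), (0, 0), (0, 0), (8109, 10134), (0, 0), (0, 0), (10296, 15663), (0, 0), (0, 0), (3735, 13557), (0, 0), (0, 0), (8352, 10134), (0, 0), (0, 0), (14913, 5628), (0, 0), (0, 0), (16857, 5007), (0, 0),
  (0, 0), (8109, 9513), (0, 0), (1548, 16803), (0, 0), (0, 0), (0, 0), (0, 0), (14670, 2223), (0, 0), (1548, 5628), (0, 0), (1791, 16803), (0, 0), (0, 0), (0, 0), (0, 0), (14670, 2388), (0, 0), (3735, 15213), (0, 0), (3735, 17478), (0, 0), (0, 0), (0, 0), (0, 0), (1548, 10704),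
  (0, 0), (12483, 11970), (0, 0), (10296, 3303), (0, 0), (0, 0), (0, 0), (0, 0), (19044, 4680), (0, 0), (14670, 16404), (0, 0), (3735, 15210), (0, 0), (0, 0), (0, 0), (0, 0), (8109, 5682), (0, 0), (10296, 8001), (0, 0), (12483, 18564), (0, 0), (0, 0), (0, 0), (0, 0), (19044, 4848),
  (0, 0), (3735, 17481), (0, 0), (14670, 5817), (0, 0), (0, 0), (0, 0), (0, 0), (3735, 15216), (0, 0), (5922, 3903), (0, 0), (3978, 17046), (0, 0), (0, 0), (0, 0), (0, 0), (16857, 5004), (0, 0), (9513, 8085), (0, 0), (900, 16269), (0, 0), (0, 0), (0, 0), (0, 0), (10296, 16182),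
  (0, 0), (10539, 7974), (0, 0), (0, 0), (0, 0), (17343, 1716), (14670, 2391), (0, 0), (0, 0), (0, 0), (3735, 8373), (0, 0), (0, 0), (0, 0), (16857, 10641), (8109, 5628), (0, 0), (0, 0), (0, 0), (12483, 9891), (0, 0), (0, 0), (0, 0), (10296, 4254), (14670, 2226), (0, 0), (0, 0),
  (0, 0), (8109, 9864), (0, 0), (0, 0), (0, 0), (3735, 14967), (12483, 10674), (0, 0), (0, 0), (0, 0), (10296, 7515), (0, 0), (0, 0), (0, 0), (14670, 5682), (19044, 4845), (0, 0), (0, 0), (0, 0), (16857, 18105), (0, 0), (0, 0), (0, 0), (17343, 8292), (19044, 4686), (0, 0), (0, 0),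
  (0, 0), (1548, 5817), (0, 0), (0, 0), (0, 0), (1791, 17343), (16857, 5010), (0, 0), (0, 0), (0, 0), (16803, 13920), (0, 0), (0, 0), (0, 0), (12483, 9189), (1548, 10353), (0, 0), (0, 0), (0, 0), (14670, 16269), (0, 0), (0, 0), (0, 0), (1548, 17343), (3735, 7899), (0, 0), (0, 0)]

/-- The certificate check for one normal form. -/
def check (i : ℕ) (w : ℕ × ℕ) : Bool :=
  decide (detDig (normDig i) ≠ 1) ||
    (decide (detDig (dig w.1) = 1) && decide (detDig (dig w.2) = 1) &&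
      decide (∀ k, normDig i k = mulDig (mulDig (dig w.1) (mulDig xDig (adjDig (dig w.1))))
        (mulDig (dig w.2) (mulDig xDig (adjDig (dig w.2)))) k))

theorem witness_length : witness.length = 729 := by decide +kernel

theorem check_all : ((List.range 729).zip witness).all (fun p => check p.1 p.2) = true := by
  decide +kernel

theorem natModThree (a : ℕ) : ((a % 3 : ℕ) : ZMod 3) = (a : ZMod 3) := ZMod.natCast_mod a 3

theorem toMat_mul (f g : Fin 9 → ℕ) : toMat (mulDig f g) = toMat f * toMat g := by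
  ext i j
  fin_cases i <;> fin_cases j <;>
    simp [toMat, mulDig, Matrix.mul_apply, Fin.sum_univ_three, natModThree]

theorem toMat_det (f : Fin 9 → ℕ) : (toMat f).det = (detDig f : ZMod 3) := by
  have h2 : (2 : ZMod 3) = -1 := by decide
  simp [toMat, detDig, Matrix.det_fin_three, natModThree, h2]
  ring

theorem toMat_adj (f : Fin 9 → ℕ) : toMat (adjDig f) = (toMat f).adjugate := by
  have h2 : (2 : ZMod 3) = -1 := by decide
  ext i j
  fin_cases i <;> fin_cases j <;>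
    simp [toMat, adjDig, Matrix.adjugate_fin_three, natModThree, h2] <;> ring

/-- The element of order four as an element of `SL_3(3)`. -/
def x : Matrix.SpecialLinearGroup (Fin 3) (ZMod 3) :=
  ⟨toMat xDig, by rw [toMat_det]; decide +kernel⟩

/-- Every normal form of determinant one is a product of two conjugates of `x`. -/
theorem normal_form (a b c d e f : ZMod 3)
    (hdet : (!![0, a, b; 1, c, d; 0, e, f] : Matrix (Fin 3) (Fin 3) (ZMod 3)).det = 1) :
    ∃ u v : Matrix.SpecialLinearGroup (Fin 3) (ZMod 3),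
      ((u * x * u⁻¹) * (v * x * v⁻¹) : Matrix.SpecialLinearGroup (Fin 3) (ZMod 3)).1 =
        !![0, a, b; 1, c, d; 0, e, f] := by
  set i := a.val * 243 + b.val * 81 + c.val * 27 + d.val * 9 + e.val * 3 + f.val with hi
  have ha := ZMod.val_lt a; have hb := ZMod.val_lt b; have hc := ZMod.val_lt c
  have hd := ZMod.val_lt d; have he := ZMod.val_lt e; have hf := ZMod.val_lt f
  have hlt : i < 729 := by omega
  have hlt' : i < witness.length := by rw [witness_length]; exact hlt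
  have hmem : (i, witness[i]) ∈ (List.range 729).zip witness := by
    rw [List.mem_iff_getElem]
    exact ⟨i, by simp [witness_length, hlt], by simp⟩
  have hchk := List.all_eq_true.mp check_all _ hmem
  have hnorm : toMat (normDig i) = !![0, a, b; 1, c, d; 0, e, f] := by
    have e1 : i / 243 % 3 = a.val := by omega
    have e2 : i / 81 % 3 = b.val := by omega
    have e3 : i / 27 % 3 = c.val := by omega
    have e4 : i / 9 % 3 = d.val := by omega
    have e5 : i / 3 % 3 = e.val := by omega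
    have e6 : i % 3 = f.val := by omega
    ext r s
    fin_cases r <;> fin_cases s <;> simp [toMat, normDig, e1, e2, e3, e4, e5, e6]
  simp only [check, Bool.or_eq_true, Bool.and_eq_true, decide_eq_true_eq] at hchk
  rcases hchk with h1 | ⟨⟨h1, h2⟩, h3⟩
  · exfalso
    apply h1
    have h := toMat_det (normDig i)
    rw [hnorm, hdet] at h
    have hv := congrArg ZMod.val h
    rw [ZMod.val_natCast] at hv
    have : detDig (normDig i) < 3 := Nat.mod_lt _ (by norm_num)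
    rw [Nat.mod_eq_of_lt this] at hv
    exact hv.symm.trans (ZMod.val_one 3)
  · let u : Matrix.SpecialLinearGroup (Fin 3) (ZMod 3) :=
      ⟨toMat (dig (witness[i]).1), by rw [toMat_det, h1, Nat.cast_one]⟩
    let v : Matrix.SpecialLinearGroup (Fin 3) (ZMod 3) :=
      ⟨toMat (dig (witness[i]).2), by rw [toMat_det, h2, Nat.cast_one]⟩
    refine ⟨u, v, ?_⟩
    rw [← hnorm, funext h3]
    change (u.1 * x.1 * (u.1).adjugate) * (v.1 * x.1 * (v.1).adjugate) = _
    simp [toMat_mul, toMat_adj, u, v, x, Matrix.mul_assoc]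

end Cfsg.Agent.H71.ThreeThree
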