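/-
Unipotent, torus and Weyl elements of the Suzuki groups `Cfsg.Lie.Sz F e`.
-/
import Cfsg.Prelude.Def_Sz

set_option autoImplicit false

open Matrix

namespace Cfsg.Agent.H71.Suz

/-- `x ↦ x ^ e` is additive and squares to `x ↦ x ^ 2`. -/
structure IsTwist (F : Type*) [CommRing F] (e : ℕ) : Prop where
  add : ∀ x y : F, (x + y) ^ e = x ^ e + y ^ e
  twice : ∀ x : F, (x ^ e) ^ e = x ^ 2
  two : (2 : F) = 0
  ne_zero : e ≠ 0

/-- The twist of a field with `2 ^ (2m+1)` elements. -/
theorem isTwist_of_card {F : Type*} [Field F] [Fintype F] (m : ℕ)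
    (hF : Fintype.card F = 2 ^ (2 * m + 1)) : IsTwist F (2 ^ (m + 1)) := by
  have h2 : (2 : F) = 0 := by
    have h := FiniteField.cast_card_eq_zero F
    rw [hF, Nat.cast_pow] at h
    exact (pow_eq_zero_iff (Nat.succ_ne_zero (2 * m))).mp (by simpa using h)
  have : CharP F 2 := CharTwo.of_one_ne_zero_of_two_eq_zero one_ne_zero h2
  refine ⟨fun x y => add_pow_char_pow x y 2 (m + 1), fun x => ?_, h2, by positivity⟩
  rw [← pow_mul, ← pow_add, show m + 1 + (m + 1) = (2 * m + 1) + 1 by ring, pow_succ, pow_mul,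
    ← hF, FiniteField.pow_card]

variable {R : Type*} [CommRing R]

/-- Matrix of the unipotent element with parameters `(a, b)`. -/
def uMat (e : ℕ) (a b : R) : Matrix (Fin 4) (Fin 4) R :=
  !![1, 0, 0, 0;
     a, 1, 0, 0;
     b, a ^ e, 1, 0;
     a ^ e * a ^ 2 + a * b + b ^ e, a ^ e * a + b, a, 1]

/-- Matrix of the Weyl element. -/
def wMat : Matrix (Fin 4) (Fin 4) R :=
  !![0, 0, 0, 1; 0, 0, 1, 0; 0, 1, 0, 0; 1, 0, 0, 0]

theorem wMat_mul_self : (wMat : Matrix (Fin 4) (Fin 4) R) * wMat = 1 := by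
  ext i j
  fin_cases i <;> fin_cases j <;> simp [wMat, Matrix.mul_apply, Fin.sum_univ_four]

theorem uMat_mul {e : ℕ} (h : IsTwist R e) (a b c d : R) :
    uMat e a b * uMat e c d = uMat e (a + c) (b + d + a ^ e * c) := by
  have h2 := h.two
  have hadd := h.add
  have htw := h.twice
  ext i j
  fin_cases i <;> fin_cases j <;>
    simp [uMat, Matrix.mul_apply, Fin.sum_univ_four, hadd, htw, mul_pow] <;> grind

theorem uMat_zero {e : ℕ} (he : e ≠ 0) : uMat e (0 : R) 0 = 1 := by
  ext i j
  fin_cases i <;> fin_cases j <;> simp [uMat, zero_pow he]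

/-- The unipotent element `u(a, b)`. -/
def u {e : ℕ} (h : IsTwist R e) (a b : R) : GL (Fin 4) R where
  val := uMat e a b
  inv := uMat e a (b + a ^ e * a)
  val_inv := by
    have h2 := h.two
    rw [uMat_mul h]
    have e1 : a + a = 0 := by grind
    have e2 : b + (b + a ^ e * a) + a ^ e * a = 0 := by grind
    rw [e1, e2, uMat_zero h.ne_zero]
  inv_val := by
    have h2 := h.two
    rw [uMat_mul h]
    have e1 : a + a = 0 := by grind
    have e2 : b + a ^ e * a + b + a ^ e * a = 0 := by grind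
    rw [e1, e2, uMat_zero h.ne_zero]

theorem u_mul {e : ℕ} (h : IsTwist R e) (a b c d : R) :
    u h a b * u h c d = u h (a + c) (b + d + a ^ e * c) :=
  Units.ext (uMat_mul h a b c d)

theorem u_zero {e : ℕ} (h : IsTwist R e) : u h (0 : R) 0 = 1 :=
  Units.ext (uMat_zero h.ne_zero)

/-- The Weyl element. -/
def w : GL (Fin 4) R := ⟨wMat, wMat, wMat_mul_self, wMat_mul_self⟩

variable {F : Type*} [Field F] {e : ℕ}

theorem u_mem (h : IsTwist F e) (a b : F) : u h a b ∈ Cfsg.Lie.Sz F e := by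
  have h2 := h.two
  have hadd := h.add
  have htw := h.twice
  refine Subgroup.subset_closure ⟨fun x y => ?_, ?_⟩
  · simp [Cfsg.Lie.altForm4, u, uMat, Matrix.mulVec, dotProduct, Fin.sum_univ_four]
    grind
  · ext i j
    fin_cases i <;> fin_cases j <;>
      simp [Cfsg.Lie.star4, Cfsg.Lie.pairOf, u, uMat, hadd, htw, mul_pow, zero_pow h.ne_zero] <;>
      grind

theorem w_mem (h : IsTwist F e) : (w : GL (Fin 4) F) ∈ Cfsg.Lie.Sz F e := by
  have h2 := h.two
  refine Subgroup.subset_closure ⟨fun x y => ?_, ?_⟩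
  · simp [Cfsg.Lie.altForm4, w, wMat, Matrix.mulVec, dotProduct, Fin.sum_univ_four]
    grind
  · ext i j
    fin_cases i <;> fin_cases j <;>
      simp [Cfsg.Lie.star4, Cfsg.Lie.pairOf, w, wMat, zero_pow h.ne_zero] <;> grind

/-- The torus element with parameter `t`. -/
def torus (e : ℕ) (t : Fˣ) : GL (Fin 4) F where
  val := Matrix.diagonal ![(t : F), (t : F) ^ e / t, (t : F) / t ^ e, (t : F)⁻¹]
  inv := Matrix.diagonal ![(t : F)⁻¹, (t : F) / t ^ e, (t : F) ^ e / t, (t : F)]
  val_inv := by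
    have := t.ne_zero
    rw [Matrix.diagonal_mul_diagonal, ← Matrix.diagonal_one]
    congr 1; funext i; fin_cases i <;> simp [field]
  inv_val := by
    have := t.ne_zero
    rw [Matrix.diagonal_mul_diagonal, ← Matrix.diagonal_one]
    congr 1; funext i; fin_cases i <;> simp [field]

theorem torus_mem (h : IsTwist F e) (t : Fˣ) : torus e t ∈ Cfsg.Lie.Sz F e := by
  have h2 := h.two
  have ht := t.ne_zero
  refine Subgroup.subset_closure ⟨fun x y => ?_, ?_⟩
  · simp [Cfsg.Lie.altForm4, torus, Matrix.mulVec_diagonal]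
    field_simp
  · ext i j
    fin_cases i <;> fin_cases j <;>
      simp [Cfsg.Lie.star4, Cfsg.Lie.pairOf, torus, zero_pow h.ne_zero, div_pow, h.twice] <;>
      field_simp

/-- Conjugation of the centre of the Sylow 2-subgroup by the torus. -/
theorem torus_conj_center (h : IsTwist F e) (t : Fˣ) (b : F) :
    torus e t * u h 0 b = u h 0 (b / (t : F) ^ e) * torus e t := by
  have ht := t.ne_zero
  refine Units.ext ?_
  ext i j
  fin_cases i <;> fin_cases j <;>
    simp [torus, u, uMat, Matrix.mul_apply, Fin.sum_univ_four, zero_pow h.ne_zero, div_pow,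
      h.twice] <;> field_simp

end Cfsg.Agent.H71.Suz
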