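/-
Block models of symplectic and odd-dimensional orthogonal groups along a fixed-point-free isometry.
-/
import Cfsg.Agent.H71.IsometryTwist
import Cfsg.Agent.H5.ModelIso
import Cfsg.Agent.H4.NegOne
import Cfsg.Agent.H4.Classify

set_option autoImplicit false

namespace Cfsg.Agent.H71.SympOddModels

open LinearMap (BilinForm)
open QuadraticMap IsometryTwist

section products

variable {F V₁ V₂ V : Type*} [Field F] [AddCommGroup V₁] [Module F V₁] [AddCommGroup V₂]
  [Module F V₂] [AddCommGroup V] [Module F V]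

/-- Orthogonal sum of two bilinear forms. -/
def prodB (B₁ : BilinForm F V₁) (B₂ : BilinForm F V₂) : BilinForm F (V₁ × V₂) :=
  B₁.compl₁₂ (LinearMap.fst F V₁ V₂) (LinearMap.fst F V₁ V₂) +
    B₂.compl₁₂ (LinearMap.snd F V₁ V₂) (LinearMap.snd F V₁ V₂)

theorem prodB_apply (B₁ : BilinForm F V₁) (B₂ : BilinForm F V₂) (x y : V₁ × V₂) :
    prodB B₁ B₂ x y = B₁ x.1 y.1 + B₂ x.2 y.2 := rfl

theorem prodB_isAlt {B₁ : BilinForm F V₁} {B₂ : BilinForm F V₂} (h₁ : B₁.IsAlt) (h₂ : B₂.IsAlt) :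
    (prodB B₁ B₂).IsAlt := fun x => by rw [prodB_apply, h₁, h₂, add_zero]

theorem prodB_nondegenerate {B₁ : BilinForm F V₁} {B₂ : BilinForm F V₂} (h₁ : B₁.Nondegenerate)
    (h₂ : B₂.Nondegenerate) : (prodB B₁ B₂).Nondegenerate := by
  refine ⟨fun x hx => Prod.ext (h₁.1 _ fun y => ?_) (h₂.1 _ fun y => ?_),
    fun x hx => Prod.ext (h₁.2 _ fun y => ?_) (h₂.2 _ fun y => ?_)⟩
  · simpa [prodB_apply] using hx (y, 0)
  · simpa [prodB_apply] using hx (0, y)
  · simpa [prodB_apply] using hx (y, 0)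
  · simpa [prodB_apply] using hx (0, y)

/-- Isometries of an orthogonal sum. -/
def prodIso (B₁ : BilinForm F V₁) (B₂ : BilinForm F V₂) :
    H2.isometries B₁ × H2.isometries B₂ →* H2.isometries (prodB B₁ B₂) where
  toFun p := ⟨(p.1 : V₁ ≃ₗ[F] V₁).prodCongr (p.2 : V₂ ≃ₗ[F] V₂), fun x y => by
    simp only [prodB_apply, LinearEquiv.prodCongr_apply, p.1.2 _ _, p.2.2 _ _]⟩
  map_one' := rfl
  map_mul' _ _ := rfl

/-- Orthogonal groups of an orthogonal sum. -/
def prodOrth (Q₁ : QuadraticForm F V₁) (Q₂ : QuadraticForm F V₂) :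
    H5.orth Q₁ × H5.orth Q₂ →* H5.orth (Q₁.prod Q₂) where
  toFun p := ⟨(p.1 : V₁ ≃ₗ[F] V₁).prodCongr (p.2 : V₂ ≃ₗ[F] V₂), fun x => by
    simp only [QuadraticMap.prod_apply, LinearEquiv.prodCongr_apply, H5.orth_map]⟩
  map_one' := rfl
  map_mul' _ _ := rfl

theorem prodOrth_apply (Q₁ : QuadraticForm F V₁) (Q₂ : QuadraticForm F V₂)
    (p : H5.orth Q₁ × H5.orth Q₂) (x : V₁ × V₂) :
    (prodOrth Q₁ Q₂ p : (V₁ × V₂) ≃ₗ[F] (V₁ × V₂)) x =
      ((p.1 : V₁ ≃ₗ[F] V₁) x.1, (p.2 : V₂ ≃ₗ[F] V₂) x.2) := rfl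

theorem polar_prod (Q₁ : QuadraticForm F V₁) (Q₂ : QuadraticForm F V₂) (x y : V₁ × V₂) :
    polar (Q₁.prod Q₂) x y = polar Q₁ x.1 y.1 + polar Q₂ x.2 y.2 := by
  simp only [polar, QuadraticMap.prod_apply, Prod.fst_add, Prod.snd_add]
  ring

theorem prod_nondegenerate {Q₁ : QuadraticForm F V₁} {Q₂ : QuadraticForm F V₂}
    (h₁ : (polarBilin Q₁).Nondegenerate) (h₂ : (polarBilin Q₂).Nondegenerate) :
    (polarBilin (Q₁.prod Q₂)).Nondegenerate := by
  have h := prodB_nondegenerate h₁ h₂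
  have e : polarBilin (Q₁.prod Q₂) = prodB (polarBilin Q₁) (polarBilin Q₂) :=
    LinearMap.ext fun x => LinearMap.ext fun y => polar_prod Q₁ Q₂ x y
  rwa [e]

/-- An isomorphism preserves membership in the commutator subgroup. -/
theorem equiv_mem_commutator_iff {G H : Type*} [Group G] [Group H] (e : G ≃* H) (g : G) :
    e g ∈ commutator H ↔ g ∈ commutator G := by
  have h : (commutator G).map e.toMonoidHom = commutator H := by
    rw [commutator_def, Subgroup.map_commutator, Subgroup.map_top_of_surjective _ e.surjective,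
      commutator_def]
  rw [← h]
  exact Subgroup.mem_map_iff_mem e.injective

variable [Finite F]

/-- A homomorphism carrying reflections to reflections of the same norm preserves `Ω` both ways. -/
theorem mem_commutator_map_iff [FiniteDimensional F V₁] [FiniteDimensional F V] [Finite V₁]
    [Finite V] (h2 : (2 : F) ≠ 0) {Q₁ : QuadraticForm F V₁} {Q : QuadraticForm F V}
    (hQ₁ : (polarBilin Q₁).Nondegenerate) (hQ : (polarBilin Q).Nondegenerate)
    (f : H5.orth Q₁ →* H5.orth Q) (ι : V₁ → V) (hι : ∀ v, Q (ι v) = Q₁ v)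
    (hf : ∀ v, f (H5.refl Q₁ v) = H5.refl Q (ι v)) (g : H5.orth Q₁) :
    f g ∈ commutator (H5.orth Q) ↔ g ∈ commutator (H5.orth Q₁) := by
  obtain ⟨vs, hvs, rfl⟩ := H5.exists_list_refl
    (show g ∈ H5.reflGroup Q₁ by
      rw [H5.reflGroup_eq_top hQ₁ (H5.std_of_two_ne_zero h2 _)]; trivial)
  have e : f (vs.map (H5.refl Q₁)).prod = ((vs.map ι).map (H5.refl Q)).prod := by
    rw [map_list_prod, List.map_map, List.map_map]
    congr 1
    exact List.map_congr_left fun v _ => hf v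
  rw [e, H5.list_prod_mem_commutator_iff hQ₁ (H5.std_of_two_ne_zero h2 _) hvs,
    H5.list_prod_mem_commutator_iff hQ (H5.std_of_two_ne_zero h2 _) (by
      intro w hw
      obtain ⟨v, hv, rfl⟩ := List.mem_map.mp hw
      rw [hι]; exact hvs v hv)]
  simp [List.map_map, Function.comp_def, hι]

theorem prodOrth_left_iff [FiniteDimensional F V₁] [FiniteDimensional F V₂] [Finite V₁] [Finite V₂]
    (h2 : (2 : F) ≠ 0) {Q₁ : QuadraticForm F V₁} {Q₂ : QuadraticForm F V₂}
    (h₁ : (polarBilin Q₁).Nondegenerate) (h₂ : (polarBilin Q₂).Nondegenerate) (g : H5.orth Q₁) :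
    prodOrth Q₁ Q₂ (g, 1) ∈ commutator (H5.orth (Q₁.prod Q₂)) ↔
      g ∈ commutator (H5.orth Q₁) := by
  refine mem_commutator_map_iff h2 h₁ (prod_nondegenerate h₁ h₂)
    ((prodOrth Q₁ Q₂).comp (MonoidHom.inl _ _)) (fun v => (v, 0))
    (fun v => by simp) (fun v => H5.orth_ext fun x => ?_) g
  rw [MonoidHom.comp_apply, MonoidHom.inl_apply, prodOrth_apply, H5.refl_apply, H5.refl_apply,
    polar_prod]
  ext <;> simp

theorem prodOrth_right_iff [FiniteDimensional F V₁] [FiniteDimensional F V₂] [Finite V₁] [Finite V₂]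
    (h2 : (2 : F) ≠ 0) {Q₁ : QuadraticForm F V₁} {Q₂ : QuadraticForm F V₂}
    (h₁ : (polarBilin Q₁).Nondegenerate) (h₂ : (polarBilin Q₂).Nondegenerate) (g : H5.orth Q₂) :
    prodOrth Q₁ Q₂ (1, g) ∈ commutator (H5.orth (Q₁.prod Q₂)) ↔
      g ∈ commutator (H5.orth Q₂) := by
  refine mem_commutator_map_iff h2 h₂ (prod_nondegenerate h₁ h₂)
    ((prodOrth Q₁ Q₂).comp (MonoidHom.inr _ _)) (fun v => (0, v))
    (fun v => by simp) (fun v => H5.orth_ext fun x => ?_) g
  rw [MonoidHom.comp_apply, MonoidHom.inr_apply, prodOrth_apply, H5.refl_apply, H5.refl_apply,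
    polar_prod]
  ext <;> simp

end products

variable {F : Type*} [Field F]

/-- Coordinates of a symplectic space. -/
abbrev VC (k : ℕ) (F : Type*) := Fin k ⊕ Fin k → F

/-- Coordinates of an odd orthogonal space. -/
abbrev VO (k : ℕ) (F : Type*) := Unit ⊕ (Fin k ⊕ Fin k) → F

/-- Isometries of the standard alternating form. -/
abbrev IsoC (k : ℕ) (F : Type*) [Field F] :=
  H2.isometries (F := F) (V := Fin k ⊕ Fin k → F) (H2.sympBilin k F)

/-- A scalar multiple has the same orthogonal group. -/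
theorem orth_smul {V : Type*} [AddCommGroup V] [Module F V] {c : F} (hc : c ≠ 0)
    (Q : QuadraticForm F V) : H5.orth Q = H5.orth (c • Q) := by
  ext g
  simp [H5.mem_orth, smul_apply, hc]

theorem qOdd_eq (m : ℕ) : H4.qOdd m F = H5.qOdd m F :=
  DFunLike.coe_injective ((H4.coe_qOdd m).trans (H5.coe_qOdd m).symm)

/-- The quadratic form with polar form a given symmetric form. -/
def qf {V : Type*} [AddCommGroup V] [Module F V] (S : BilinForm F V) : QuadraticForm F V :=
  (2⁻¹ : F) • LinearMap.BilinMap.toQuadraticMap S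

theorem qf_apply {V : Type*} [AddCommGroup V] [Module F V] (S : BilinForm F V) (x : V) :
    qf S x = 2⁻¹ * S x x := rfl

theorem polar_qf {V : Type*} [AddCommGroup V] [Module F V] (h2 : (2 : F) ≠ 0) (S : BilinForm F V)
    (hS : ∀ x y, S x y = S y x) (x y : V) : polar (qf S) x y = S x y := by
  simp only [polar, qf_apply, map_add, LinearMap.add_apply, hS y x]
  field_simp
  ring

theorem qf_nondegenerate {V : Type*} [AddCommGroup V] [Module F V] (h2 : (2 : F) ≠ 0)
    {S : BilinForm F V} (hS : ∀ x y, S x y = S y x) (hnd : S.Nondegenerate) :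
    (polarBilin (qf S)).Nondegenerate := by
  rwa [show polarBilin (qf S) = S from LinearMap.ext fun x => LinearMap.ext (polar_qf h2 S hS x)]

theorem mem_orth_qf {V : Type*} [AddCommGroup V] [Module F V] (h2 : (2 : F) ≠ 0)
    {S : BilinForm F V} (hS : ∀ x y, S x y = S y x) (z : V ≃ₗ[F] V) :
    z ∈ H5.orth (qf S) ↔ z ∈ H2.isometries S := by
  constructor
  · intro h x y
    rw [← polar_qf h2 S hS, ← polar_qf h2 S hS]
    exact H5.orth_polar ⟨z, h⟩ x y
  · intro h x
    rw [qf_apply, qf_apply, h]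

/-- The quadratic form attached to an isometry of the standard alternating form. -/
def qsig {k : ℕ} (h : IsoC k F) : QuadraticForm F (VC k F) :=
  qf (sig (H2.sympBilin k F) (h : VC k F ≃ₗ[F] VC k F))

theorem sig_h_symm {k : ℕ} (h : IsoC k F) (x y : VC k F) :
    sig (H2.sympBilin k F) (h : VC k F ≃ₗ[F] VC k F) x y =
      sig (H2.sympBilin k F) (h : VC k F ≃ₗ[F] VC k F) y x :=
  sig_symm (H2.sympBilin_isAlt k F) h.2 x y

variable {k N : ℕ} {h : IsoC k F}

theorem qsig_nondegenerate (h2 : (2 : F) ≠ 0) (hN : Odd N)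
    (hf : Fpf N (h : VC k F ≃ₗ[F] VC k F)) : (polarBilin (qsig h)).Nondegenerate :=
  qf_nondegenerate h2 (sig_h_symm h)
    (sig_nondegenerate (H2.sympBilin_nondegenerate k F) (H2.sympBilin_isAlt k F) hN h.2 hf)

theorem mem_qsig_iff (h2 : (2 : F) ≠ 0) (hN : Odd N) (hf : Fpf N (h : VC k F ≃ₗ[F] VC k F))
    {z : VC k F ≃ₗ[F] VC k F} (hz : Commute z (h : VC k F ≃ₗ[F] VC k F)) :
    z ∈ H5.orth (qsig h) ↔ z ∈ IsoC k F := by
  rw [qsig, mem_orth_qf h2 (sig_h_symm h)]
  exact mem_isometries_sig_iff hN hf hz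

/-- A commuting isometry as an element of the orthogonal group. -/
def toO (h2 : (2 : F) ≠ 0) (hN : Odd N) (hf : Fpf N (h : VC k F ≃ₗ[F] VC k F)) (z : IsoC k F)
    (hz : Commute z h) : H5.orth (qsig h) :=
  ⟨z, (mem_qsig_iff h2 hN hf (congrArg Subtype.val hz.eq)).mpr z.2⟩

theorem orderOf_toO (h2 : (2 : F) ≠ 0) (hN : Odd N) (hf : Fpf N (h : VC k F ≃ₗ[F] VC k F))
    (z : IsoC k F) (hz : Commute z h) : orderOf (toO h2 hN hf z hz) = orderOf z :=
  (Subgroup.orderOf_coe _).symm.trans (Subgroup.orderOf_coe z)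

theorem subsingleton_isoC_zero : Subsingleton (IsoC 0 F) :=
  ⟨fun a b => iso_ext fun x => funext fun i => Sum.elim Fin.elim0 Fin.elim0 i⟩

section symplectic

variable {n : ℕ}

/-- The block embedding given by an isometric identification. -/
noncomputable def embC {a b : ℕ} (E : (VC a F × VC b F) ≃ₗ[F] VC n F)
    (hE : ∀ x y, H2.sympBilin n F (E x) (E y) = prodB (H2.sympBilin a F) (H2.sympBilin b F) x y) :
    IsoC a F × IsoC b F →* IsoC n F :=
  (H2.isometriesCongr _ _ E hE).toMonoidHom.comp (prodIso _ _)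

theorem embC_apply {a b : ℕ} (E : (VC a F × VC b F) ≃ₗ[F] VC n F)
    (hE : ∀ x y, H2.sympBilin n F (E x) (E y) = prodB (H2.sympBilin a F) (H2.sympBilin b F) x y)
    (p : IsoC a F × IsoC b F) (u : VC a F) (v : VC b F) :
    (embC E hE p : VC n F ≃ₗ[F] VC n F) (E (u, v)) =
      E ((p.1 : VC a F ≃ₗ[F] VC a F) u, (p.2 : VC b F ≃ₗ[F] VC b F) v) := by
  show (H2.isometriesCongr _ _ E hE (prodIso _ _ p) : VC n F ≃ₗ[F] VC n F) (E (u, v)) = _
  rw [H2.isometriesCongr_apply, E.symm_apply_apply]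
  rfl

theorem embC_injective {a b : ℕ} (E : (VC a F × VC b F) ≃ₗ[F] VC n F)
    (hE : ∀ x y, H2.sympBilin n F (E x) (E y) = prodB (H2.sympBilin a F) (H2.sympBilin b F) x y) :
    Function.Injective (embC E hE) := fun p q hpq => by
  refine Prod.ext (iso_ext fun u => ?_) (iso_ext fun v => ?_)
  · have := LinearEquiv.congr_fun (congrArg Subtype.val hpq) (E (u, 0))
    rw [embC_apply, embC_apply] at this
    exact congrArg Prod.fst (E.injective this)
  · have := LinearEquiv.congr_fun (congrArg Subtype.val hpq) (E (0, v))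
    rw [embC_apply, embC_apply] at this
    exact congrArg Prod.snd (E.injective this)

theorem embC_neg {a b : ℕ} (E : (VC a F × VC b F) ≃ₗ[F] VC n F)
    (hE : ∀ x y, H2.sympBilin n F (E x) (E y) = prodB (H2.sympBilin a F) (H2.sympBilin b F) x y) :
    embC E hE (neg _, neg _) = neg _ := iso_ext fun x => by
  obtain ⟨⟨u, v⟩, rfl⟩ := E.surjective x
  rw [embC_apply, IsometryTwist.neg_apply, IsometryTwist.neg_apply, IsometryTwist.neg_apply, ← map_neg]
  rfl

/-- Block embeddings exist. -/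
theorem exists_embC {k n : ℕ} (hk : k ≤ n) :
    ∃ φ : IsoC k F × IsoC (n - k) F →* IsoC n F,
      Function.Injective φ ∧ φ (neg _, neg _) = neg _ := by
  obtain ⟨m, e, hd, he⟩ := H2.exists_equiv_std (prodB (H2.sympBilin k F) (H2.sympBilin (n - k) F))
    (prodB_nondegenerate (H2.sympBilin_nondegenerate _ _) (H2.sympBilin_nondegenerate _ _))
    (prodB_isAlt (H2.sympBilin_isAlt _ _) (H2.sympBilin_isAlt _ _))
  obtain rfl : m = n := by
    rw [Module.finrank_prod, Module.finrank_fintype_fun_eq_card,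
      Module.finrank_fintype_fun_eq_card] at hd
    simp at hd
    omega
  exact ⟨embC e (by simpa using he), embC_injective _ _, embC_neg _ _⟩

/-- Splitting the symplectic group along an element. -/
theorem exists_splitC (x : IsoC n F) {N : ℕ} (hx : x ^ N = 1) (hNF : (N : F) ≠ 0) :
    ∃ (k : ℕ) (_ : k ≤ n) (h : IsoC k F), Fpf N (h : VC k F ≃ₗ[F] VC k F) ∧
      ∃ φ : IsoC k F × IsoC (n - k) F →* IsoC n F, Function.Injective φ ∧
        φ (neg _, neg _) = neg _ ∧ φ (h, 1) = x ∧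
        ∀ z, Commute z x → ∃ p, φ p = z ∧ Commute p.1 h := by
  have hB := H2.sympBilin_nondegenerate n F
  have hA := H2.sympBilin_isAlt n F
  obtain ⟨W, K, E, gW, hE, hform, hWn, hKn, hfp, hgE, -, hz⟩ := exists_split hB hA.isRefl x.2
    (by rw [← Subgroup.coe_pow, hx]; rfl) hNF
  obtain ⟨k, e₁, hd₁, he₁⟩ := H2.exists_equiv_std _ hWn fun a => hA _
  obtain ⟨j, e₂, hd₂, he₂⟩ := H2.exists_equiv_std _ hKn fun a => hA _
  have hsum : k + j = n := by
    have := E.finrank_eq
    rw [Module.finrank_prod, hd₁, hd₂, Module.finrank_fintype_fun_eq_card] at this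
    simp at this
    omega
  obtain rfl : j = n - k := by omega
  let E' := (e₁.symm.prodCongr e₂.symm).trans E
  have hE' : ∀ u v, H2.sympBilin n F (E' u) (E' v) =
      prodB (H2.sympBilin k F) (H2.sympBilin (n - k) F) u v := by
    rintro ⟨u, u'⟩ ⟨v, v'⟩
    show H2.sympBilin n F (E (e₁.symm u, e₂.symm u')) (E (e₁.symm v, e₂.symm v')) = _
    rw [hform, ← he₁, ← he₂]
    simp [prodB_apply]
  let T₁ := H2.isometriesCongr ((H2.sympBilin n F).restrict W) (H2.sympBilin k F) e₁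
    (by simpa using he₁)
  let T₂ := H2.isometriesCongr ((H2.sympBilin n F).restrict K) (H2.sympBilin (n - k) F) e₂
    (by simpa using he₂)
  have key : ∀ (z : IsoC n F) (zW : H2.isometries ((H2.sympBilin n F).restrict W))
      (zK : H2.isometries ((H2.sympBilin n F).restrict K)),
      (∀ a c, (z : VC n F ≃ₗ[F] VC n F) (E (a, c)) =
        E ((zW : W ≃ₗ[F] W) a, (zK : K ≃ₗ[F] K) c)) →
      embC E' hE' (T₁ zW, T₂ zK) = z := by
    intro z zW zK hzz
    refine iso_ext fun v => ?_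
    obtain ⟨⟨u, u'⟩, rfl⟩ := E'.surjective v
    rw [embC_apply]
    show E (e₁.symm (e₁ _), e₂.symm (e₂ _)) = (z : VC n F ≃ₗ[F] VC n F) (E (e₁.symm u, e₂.symm u'))
    rw [hzz, e₁.symm_apply_apply, e₂.symm_apply_apply]
    rfl
  refine ⟨k, by omega, T₁ gW, ⟨?_, ?_⟩, embC E' hE', embC_injective _ _, embC_neg _ _, ?_, ?_⟩
  · rw [← Subgroup.coe_pow, ← map_pow, show gW ^ N = 1 from Subtype.ext hfp.pow, map_one]
    rfl
  · intro v hv
    obtain ⟨w, rfl⟩ := e₁.surjective v
    rw [H2.isometriesCongr_apply, e₁.symm_apply_apply] at hv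
    rw [hfp.fix w (e₁.injective hv), map_zero]
  · rw [← map_one T₂]
    exact key x gW 1 hgE
  · intro z hzx
    obtain ⟨zW, zK, hzz, hc⟩ := hz z z.2 (congrArg Subtype.val hzx.eq)
    exact ⟨_, key z zW zK hzz, hc.map T₁⟩

end symplectic

section orthogonal

variable {n j : ℕ}

/-- The block embedding of the orthogonal groups. -/
noncomputable def embO (h : IsoC k F) (E : (VC k F × VO j F) ≃ₗ[F] VO n F) {c₁ c₂ : F} (h1 : c₁ ≠ 0)
    (h2 : c₂ ≠ 0)
    (hE : ∀ x, H5.qOdd n F (E x) = ((c₁ • qsig h).prod (c₂ • H5.qOdd j F)) x) :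
    H5.orth (qsig h) × H5.orth (H5.qOdd j F) →* H5.orth (H5.qOdd n F) :=
  (H5.orthCongr E hE).toMonoidHom.comp ((prodOrth _ _).comp
    (MonoidHom.prodMap (MulEquiv.subgroupCongr (orth_smul h1 (qsig h))).toMonoidHom
      (MulEquiv.subgroupCongr (orth_smul h2 (H5.qOdd j F))).toMonoidHom))

variable {E : (VC k F × VO j F) ≃ₗ[F] VO n F} {c₁ c₂ : F} {h1 : c₁ ≠ 0} {h2' : c₂ ≠ 0}
  {hE : ∀ x, H5.qOdd n F (E x) = ((c₁ • qsig h).prod (c₂ • H5.qOdd j F)) x}

theorem embO_apply (p : H5.orth (qsig h) × H5.orth (H5.qOdd j F)) (u : VC k F) (v : VO j F) :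
    (embO h E h1 h2' hE p : VO n F ≃ₗ[F] VO n F) (E (u, v)) =
      E ((p.1 : VC k F ≃ₗ[F] VC k F) u, (p.2 : VO j F ≃ₗ[F] VO j F) v) := by
  show (H5.orthCongr E hE (prodOrth _ _ _) : VO n F ≃ₗ[F] VO n F) (E (u, v)) = _
  rw [H5.orthCongr_apply, E.symm_apply_apply]
  rfl

theorem embO_injective : Function.Injective (embO h E h1 h2' hE) := fun p q hpq => by
  refine Prod.ext (H5.orth_ext fun u => ?_) (H5.orth_ext fun v => ?_)
  · have := LinearEquiv.congr_fun (congrArg Subtype.val hpq) (E (u, 0))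
    rw [embO_apply, embO_apply] at this
    exact congrArg Prod.fst (E.injective this)
  · have := LinearEquiv.congr_fun (congrArg Subtype.val hpq) (E (0, v))
    rw [embO_apply, embO_apply] at this
    exact congrArg Prod.snd (E.injective this)

theorem embO_neg : embO h E h1 h2' hE (H4.negOrth _, H4.negOrth _) = H4.negOrth _ :=
  H5.orth_ext fun x => by
    obtain ⟨⟨u, v⟩, rfl⟩ := E.surjective x
    rw [embO_apply, H4.negOrth_apply, H4.negOrth_apply, H4.negOrth_apply, ← map_neg]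
    rfl

theorem smul_nondegenerate {V : Type*} [AddCommGroup V] [Module F V] {c : F} (hc : c ≠ 0)
    {Q : QuadraticForm F V} (hQ : (polarBilin Q).Nondegenerate) :
    (polarBilin (c • Q)).Nondegenerate := by
  have key : ∀ x y, polarBilin (c • Q) x y = c * polarBilin Q x y := fun x y => by
    simp [polarBilin_apply_apply, polar_smul, FunLike.coe_smul]
  refine ⟨fun x hx => hQ.1 x fun y => ?_, fun y hy => hQ.2 y fun x => ?_⟩
  · exact (mul_eq_zero.mp ((key x y).symm.trans (hx y))).resolve_left hc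
  · exact (mul_eq_zero.mp ((key x y).symm.trans (hy x))).resolve_left hc

theorem embO_left_iff [Finite F] (h20 : (2 : F) ≠ 0) (hN : Odd N)
    (hf : Fpf N (h : VC k F ≃ₗ[F] VC k F)) (g : H5.orth (qsig h)) :
    embO h E h1 h2' hE (g, 1) ∈ commutator (H5.orth (H5.qOdd n F)) ↔
      g ∈ commutator (H5.orth (qsig h)) := by
  have : Finite (VC k F) := Pi.finite
  have : Finite (VO j F) := Pi.finite
  rw [show embO h E h1 h2' hE (g, 1) = H5.orthCongr E hE (prodOrth _ _
      (MulEquiv.subgroupCongr (orth_smul h1 (qsig h)) g, 1)) from rfl,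
    equiv_mem_commutator_iff, prodOrth_left_iff h20
      (smul_nondegenerate h1 (qsig_nondegenerate h20 hN hf))
      (smul_nondegenerate h2' (H5.qOdd_nondegenerate j h20)), equiv_mem_commutator_iff]

theorem embO_right_iff [Finite F] (h20 : (2 : F) ≠ 0) (hN : Odd N)
    (hf : Fpf N (h : VC k F ≃ₗ[F] VC k F)) (g : H5.orth (H5.qOdd j F)) :
    embO h E h1 h2' hE (1, g) ∈ commutator (H5.orth (H5.qOdd n F)) ↔
      g ∈ commutator (H5.orth (H5.qOdd j F)) := by
  have : Finite (VC k F) := Pi.finite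
  have : Finite (VO j F) := Pi.finite
  rw [show embO h E h1 h2' hE (1, g) = H5.orthCongr E hE (prodOrth _ _
      (1, MulEquiv.subgroupCongr (orth_smul h2' (H5.qOdd j F)) g)) from rfl,
    equiv_mem_commutator_iff, prodOrth_right_iff h20
      (smul_nondegenerate h1 (qsig_nondegenerate h20 hN hf))
      (smul_nondegenerate h2' (H5.qOdd_nondegenerate j h20)), equiv_mem_commutator_iff]

/-- The properties of a block embedding of orthogonal groups. -/
structure IsBlock {k j n : ℕ} (h : IsoC k F)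
    (φ : H5.orth (qsig h) × H5.orth (H5.qOdd j F) →* H5.orth (H5.qOdd n F)) : Prop where
  inj : Function.Injective φ
  map_neg : φ (H4.negOrth _, H4.negOrth _) = H4.negOrth _
  left_iff : ∀ g, φ (g, 1) ∈ commutator (H5.orth (H5.qOdd n F)) ↔
    g ∈ commutator (H5.orth (qsig h))
  right_iff : ∀ g, φ (1, g) ∈ commutator (H5.orth (H5.qOdd n F)) ↔
    g ∈ commutator (H5.orth (H5.qOdd j F))

/-- Block embeddings exist. -/
theorem exists_embO [Finite F] (h20 : (2 : F) ≠ 0) (hk : k ≤ n) (hN : Odd N)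
    (hf : Fpf N (h : VC k F ≃ₗ[F] VC k F)) :
    ∃ φ : H5.orth (qsig h) × H5.orth (H5.qOdd (n - k) F) →* H5.orth (H5.qOdd n F),
      IsBlock h φ := by
  have hP := prod_nondegenerate (qsig_nondegenerate h20 hN hf) (H5.qOdd_nondegenerate (n - k) h20)
  obtain ⟨-, c, hc, g, hg⟩ := H4.isom_std_odd hP (m := n) (by
    rw [Module.finrank_prod, Module.finrank_fintype_fun_eq_card,
      Module.finrank_fintype_fun_eq_card]
    simp
    omega)
  have hE : ∀ x, H5.qOdd n F (g x) =
      ((c⁻¹ • qsig h).prod (c⁻¹ • H5.qOdd (n - k) F)) x := by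
    intro x
    rw [QuadraticMap.prod_apply, smul_apply, smul_apply, smul_eq_mul,
      smul_eq_mul, ← mul_add, ← QuadraticMap.prod_apply, ← hg, ← mul_assoc, inv_mul_cancel₀ hc,
      one_mul, qOdd_eq]
  exact ⟨embO h g (inv_ne_zero hc) (inv_ne_zero hc) hE, embO_injective, embO_neg,
    embO_left_iff h20 hN hf, embO_right_iff h20 hN hf⟩

/-- Splitting the orthogonal group along an element. -/
theorem exists_splitO [Finite F] (h20 : (2 : F) ≠ 0) (x : H5.orth (H5.qOdd n F)) {N : ℕ}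
    (hx : x ^ N = 1) (hN : Odd N) (hNF : (N : F) ≠ 0) :
    ∃ (k : ℕ) (_ : k ≤ n) (h : IsoC k F) (hf : Fpf N (h : VC k F ≃ₗ[F] VC k F)),
      ∃ φ : H5.orth (qsig h) × H5.orth (H5.qOdd (n - k) F) →* H5.orth (H5.qOdd n F),
        IsBlock h φ ∧ φ (toO h20 hN hf h (Commute.refl h), 1) = x ∧
        ∀ z, Commute z x → ∃ (a : IsoC k F) (ha : Commute a h)
          (b : H5.orth (H5.qOdd (n - k) F)), φ (toO h20 hN hf a ha, b) = z := by
  let Q := H5.qOdd n F
  have hQ := H5.qOdd_nondegenerate (F := F) n h20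
  have hiso : ∀ g : H5.orth Q, (g : VO n F ≃ₗ[F] VO n F) ∈ H2.isometries (polarBilin Q) :=
    fun g => H5.orth_polar g
  obtain ⟨W, K, E, gW, hE, hform, hWn, hKn, hfp, hgE, -, hz⟩ :=
    exists_split hQ (H5.polar_isRefl Q) (hiso x) (by rw [← Subgroup.coe_pow, hx]; rfl) hNF
  have hsymW : ∀ a b : W, LinearMap.BilinForm.restrict (polarBilin Q) W a b = LinearMap.BilinForm.restrict (polarBilin Q) W b a :=
    fun a b => polar_comm _ _ _
  obtain ⟨β, hβA, hβn, hβg, hβ⟩ := exists_alt_twist h20 hWn hsymW hN gW.2 hfp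
  obtain ⟨k, e, hd, he⟩ := H2.exists_equiv_std β hβn hβA
  have hdim : 2 * k + Module.finrank F K = 2 * n + 1 := by
    have := E.finrank_eq
    rw [Module.finrank_prod, hd, Module.finrank_fintype_fun_eq_card] at this
    rw [this]; simp; omega
  let h : IsoC k F := H2.isometriesCongr β (H2.sympBilin k F) e (by simpa using he) ⟨gW, hβg⟩
  have hhapp : ∀ v, (h : VC k F ≃ₗ[F] VC k F) v = e ((gW : W ≃ₗ[F] W) (e.symm v)) := fun v => rfl
  have hf : Fpf N (h : VC k F ≃ₗ[F] VC k F) := by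
    refine ⟨?_, fun v hv => ?_⟩
    · rw [← Subgroup.coe_pow, ← map_pow,
        show (⟨gW, hβg⟩ : H2.isometries β) ^ N = 1 from Subtype.ext hfp.pow, map_one]
      rfl
    · rw [hhapp] at hv
      obtain ⟨w, rfl⟩ := e.surjective v
      rw [e.symm_apply_apply] at hv
      rw [hfp.fix w (e.injective hv), map_zero]
  have hk : k ≤ n := by omega
  let QK : QuadraticForm F K := Q.comp K.subtype
  have hKn' : (polarBilin QK).Nondegenerate := by
    rw [show polarBilin QK = LinearMap.BilinForm.restrict (polarBilin Q) K from rfl]; exact hKn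
  obtain ⟨-, c, hc, g₂, hg₂⟩ := H4.isom_std_odd hKn' (m := n - k) (by omega)
  rw [qOdd_eq] at hg₂
  have hsig : ∀ u : VC k F, qsig h u = Q (e.symm u : VO n F) := by
    intro u
    have hd : dlt (h : VC k F ≃ₗ[F] VC k F) u = e (dlt (gW : W ≃ₗ[F] W) (e.symm u)) := by
      have hsy : (h : VC k F ≃ₗ[F] VC k F).symm u = e ((gW : W ≃ₗ[F] W).symm (e.symm u)) := by
        rw [LinearEquiv.symm_apply_eq, hhapp]
        simp
      rw [dlt_apply, dlt_apply, map_sub, hhapp, hsy]
    rw [qsig, qf_apply, sig_apply, hd, H2.sympBilin_apply]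
    conv_lhs => rw [← e.apply_symm_apply u]
    simp only [e.symm_apply_apply, he]
    rw [← sig_apply, hβ]
    show 2⁻¹ * polar Q (e.symm u : VO n F) (e.symm u : VO n F) = _
    rw [H5.polar_self', ← mul_assoc, inv_mul_cancel₀ h20, one_mul]
  let E' : (VC k F × VO (n - k) F) ≃ₗ[F] VO n F := (e.symm.prodCongr g₂.symm).trans E
  have hE' : ∀ u, Q (E' u) = (((1 : F) • qsig h).prod (c • H5.qOdd (n - k) F)) u := by
    rintro ⟨u, v⟩
    have hperp : polar Q (e.symm u : VO n F) (g₂.symm v : VO n F) = 0 := by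
      have := hform (e.symm u) 0 0 (g₂.symm v)
      simpa [hE] using this
    show Q (E (e.symm u, g₂.symm v)) = _
    rw [hE, QuadraticMap.map_add (⇑Q), hperp, add_zero, QuadraticMap.prod_apply, smul_apply,
      smul_apply, one_smul, hsig, smul_eq_mul]
    refine congrArg₂ (· + ·) rfl ?_
    show QK (g₂.symm v) = c * H5.qOdd (n - k) F v
    rw [← hg₂, g₂.apply_symm_apply]
  refine ⟨k, hk, h, hf, embO h E' one_ne_zero hc hE',
    ⟨embO_injective, embO_neg, embO_left_iff h20 hN hf, embO_right_iff h20 hN hf⟩, ?_, ?_⟩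
  · refine H5.orth_ext fun v => ?_
    obtain ⟨⟨u, u'⟩, rfl⟩ := E'.surjective v
    rw [embO_apply]
    show E (e.symm (e _), g₂.symm u') = (x : VO n F ≃ₗ[F] VO n F) (E (e.symm u, g₂.symm u'))
    rw [hgE, e.symm_apply_apply]
    rfl
  · intro z hzx
    obtain ⟨zW, zK, hzz, hcW⟩ := hz z (hiso z) (congrArg Subtype.val hzx.eq)
    have hcW' : Commute (zW : W ≃ₗ[F] W) gW := congrArg Subtype.val hcW.eq
    have hzβ : (zW : W ≃ₗ[F] W) ∈ H2.isometries β := by
      rw [← mem_isometries_sig_iff hN hfp hcW', hβ]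
      exact zW.2
    let a : IsoC k F := H2.isometriesCongr β (H2.sympBilin k F) e (by simpa using he) ⟨zW, hzβ⟩
    have ha : Commute a h :=
      (show Commute (⟨zW, hzβ⟩ : H2.isometries β) ⟨gW, hβg⟩ from Subtype.ext hcW').map _
    have hbmem : (g₂.symm.trans ((zK : K ≃ₗ[F] K).trans g₂)) ∈ H5.orth (H5.qOdd (n - k) F) := by
      intro v
      have hQK : ∀ w : K, QK ((zK : K ≃ₗ[F] K) w) = QK w := fun w => by
        have h' := zK.2 w w
        refine mul_left_cancel₀ h20 ?_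
        rw [← H5.polar_self', ← H5.polar_self']
        exact h'
      refine mul_left_cancel₀ hc ?_
      show c * H5.qOdd (n - k) F (g₂ _) = c * _
      rw [hg₂]
      refine (hQK (g₂.symm v)).trans ?_
      rw [← hg₂, g₂.apply_symm_apply]
    refine ⟨a, ha, ⟨_, hbmem⟩, H5.orth_ext fun v => ?_⟩
    obtain ⟨⟨u, u'⟩, rfl⟩ := E'.surjective v
    rw [embO_apply]
    show E (e.symm (e _), g₂.symm (g₂ _)) = (z : VO n F ≃ₗ[F] VO n F) (E (e.symm u, g₂.symm u'))
    rw [hzz, e.symm_apply_apply, g₂.symm_apply_apply]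
    rfl

end orthogonal

end Cfsg.Agent.H71.SympOddModels
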