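/-
Coprime actions of an odd p-group generated by each of two sets, where every element of the
module is a product of a fixed point of one generator and a fixed point of another, are trivial.
-/
import Cfsg.Agent.H20.External
import Cfsg.Agent.H20.Abelian
import Cfsg.Agent.H20.PxQ
import Cfsg.Agent.H20.Sylow
import Cfsg.Agent.H24.PGroupBasic

set_option autoImplicit false

open scoped Pointwise

namespace Cfsg.Agent.H71

/-- An element of a commutative group killed by two coprime exponents is trivial. -/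
theorem eq_one_of_pow_eq_one_coprime {V : Type*} [Monoid V] {x : V} {a b : ℕ} (h : Nat.Coprime a b)
    (ha : x ^ a = 1) (hb : x ^ b = 1) : x = 1 := by
  have h1 : orderOf x ∣ Nat.gcd a b :=
    Nat.dvd_gcd (orderOf_dvd_of_pow_eq_one ha) (orderOf_dvd_of_pow_eq_one hb)
  rw [h.gcd_eq_one, Nat.dvd_one, orderOf_eq_one_iff] at h1
  exact h1

/-- The key inequality: some generator has at most cube-root many fixed points. -/
theorem exists_small_fixed {V : Type*} [CommGroup V] [Finite V] {p : ℕ} [Fact p.Prime] (hp : 3 ≤ p)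
    (P : Subgroup (MulAut V)) (hP : IsPGroup p P) (hne : P ≠ ⊥) (C : Set (MulAut V))
    (hC : Subgroup.closure C = P)
    (hirr : ∀ w ∈ P, (∀ x ∈ P, w * x = x * w) → w ≠ 1 → ∀ v : V, w v = v → v = 1) :
    ∃ c ∈ C, Nat.card {v : V // c v = v} ^ 3 ≤ Nat.card V := by
  have hCP : C ⊆ P := hC ▸ Subgroup.subset_closure
  by_cases hab : ∀ c ∈ C, ∀ x ∈ P, c * x = x * c
  · obtain ⟨c, hc, hc1⟩ : ∃ c ∈ C, c ≠ 1 := by
      by_contra! h
      exact hne (by rw [← hC, Subgroup.closure_eq_bot_iff]; exact fun c hc => h c hc)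
    refine ⟨c, hc, ?_⟩
    have : Subsingleton {v : V // c v = v} := ⟨fun a b => Subtype.ext
      ((hirr c (hCP hc) (hab c hc) hc1 a a.2).trans (hirr c (hCP hc) (hab c hc) hc1 b b.2).symm)⟩
    have h1 : Nat.card {v : V // c v = v} ≤ 1 := Finite.card_le_one_iff_subsingleton.mpr this
    calc Nat.card {v : V // c v = v} ^ 3 ≤ 1 ^ 3 := Nat.pow_le_pow_left h1 3
      _ ≤ _ := by simpa using Nat.one_le_iff_ne_zero.mpr (Nat.card_pos (α := V)).ne'
  · push Not at hab
    obtain ⟨c₀, hc₀, x₀, hx₀, hcx⟩ := hab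
    set Z := Subgroup.center P with hZ
    have hnt : Nontrivial (↥P ⧸ Z) := by
      refine ⟨⟨QuotientGroup.mk ⟨c₀, hCP hc₀⟩, 1, fun h => hcx ?_⟩⟩
      rw [QuotientGroup.eq_one_iff, Subgroup.mem_center_iff] at h
      exact (congrArg Subtype.val (h ⟨x₀, hx₀⟩)).symm
    have := (hP.to_quotient Z).center_nontrivial
    obtain ⟨q, hq⟩ := exists_ne (1 : Subgroup.center (↥P ⧸ Z))
    obtain ⟨a, ha⟩ := QuotientGroup.mk_surjective (q : ↥P ⧸ Z)
    have haZ : a ∉ Z := fun h => hq (Subtype.ext (by rw [← ha]; exact (QuotientGroup.eq_one_iff a).mpr h))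
    obtain ⟨c, hc, hac⟩ : ∃ c ∈ C, c * (a : MulAut V) ≠ a * c := by
      by_contra! h
      refine haZ (Subgroup.mem_center_iff.mpr fun g => Subtype.ext ?_)
      have hle : P ≤ Subgroup.centralizer ({(a : MulAut V)} : Set (MulAut V)) := by
        refine (le_of_eq hC.symm).trans ((Subgroup.closure_le _).mpr fun z hz => ?_)
        rw [SetLike.mem_coe, Subgroup.mem_centralizer_singleton_iff]
        exact h z hz
      have hg := hle g.2
      rw [Subgroup.mem_centralizer_singleton_iff] at hg
      exact hg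
    refine ⟨c, hc, ?_⟩
    let c' : P := ⟨c, hCP hc⟩
    let w : P := a * c' * a⁻¹ * c'⁻¹
    have hwZ : w ∈ Z := by
      rw [← QuotientGroup.eq_one_iff]
      have hcomm := Subgroup.mem_center_iff.mp q.2 (QuotientGroup.mk c')
      rw [← ha] at hcomm
      simp only [w, QuotientGroup.mk_mul, QuotientGroup.mk_inv]
      rw [← hcomm]; group
    have hw1 : w ≠ 1 := by
      intro h
      have h' : a * c' = c' * a := by
        have := congrArg (fun z => z * c' * a) h
        simpa [w, mul_assoc] using this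
      exact hac (congrArg Subtype.val h').symm
    have hw2 : w ^ 2 ≠ 1 := by
      intro h
      obtain ⟨k, hk⟩ := hP w
      refine hw1 (eq_one_of_pow_eq_one_coprime ?_ h hk)
      exact Nat.Coprime.pow_right k ((Nat.coprime_primes Nat.prime_two Fact.out).mpr (by omega))
    let u : MulAut V := ((w⁻¹ : P) : MulAut V)
    have hucomm : ∀ x ∈ P, ∀ v, u (x v) = x (u v) := fun x hx v => by
      have h := Subgroup.mem_center_iff.mp (Z.inv_mem hwZ) ⟨x, hx⟩
      exact (congrArg (fun f : P => (f : MulAut V) v) h).symm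
    have hu1 : ∀ v, u v = v → v = 1 := fun v hv => by
      refine hirr u (w⁻¹ : P).2 (fun x hx => MulEquiv.ext fun v => hucomm x hx v) ?_ v hv
      simpa [u] using hw1
    have hu2 : ∀ v, u (u v) = v → v = 1 := fun v hv => by
      refine hirr (u * u) (mul_mem (w⁻¹ : P).2 (w⁻¹ : P).2) (fun x hx => MulEquiv.ext fun v => ?_) ?_ v hv
      · show u (u (x v)) = x (u (u v))
        rw [hucomm x hx, hucomm x hx]
      · intro h
        have h' : (w⁻¹ * w⁻¹ : P) = 1 := Subtype.ext h
        rw [← mul_inv_rev, inv_eq_one, ← pow_two] at h'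
        exact hw2 h'
    have hca : ∀ v, c ((a : MulAut V) v) = u ((a : MulAut V) (c v)) := fun v => by
      have h : c' * a = w⁻¹ * (a * c') := by simp [w, mul_assoc]
      exact congrArg (fun f : P => (f : MulAut V) v) h
    let Φ : {v : V // c v = v} × {v : V // c v = v} × {v : V // c v = v} → V :=
      fun t => t.1.1 * (a : MulAut V) t.2.1.1 * (a : MulAut V) ((a : MulAut V) t.2.2.1)
    have key : ∀ v0 v1 v2, c v0 = v0 → c v1 = v1 → c v2 = v2 →
        v0 * (a : MulAut V) v1 * (a : MulAut V) ((a : MulAut V) v2) = 1 → v0 = 1 ∧ v1 = 1 ∧ v2 = 1 := by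
      intro v0 v1 v2 h0 h1 h2 h
      set y1 := (a : MulAut V) v1
      set y2 := (a : MulAut V) ((a : MulAut V) v2)
      have e1 : c y1 = u y1 := by simp only [y1]; rw [hca, h1]
      have e2 : c y2 = u (u y2) := by
        simp only [y2]; rw [hca, hca, h2, ← hucomm _ a.2]
      have h' := congrArg c h
      rw [map_mul, map_mul, map_one, h0, e1, e2] at h'
      have hx : (u y1 / y1) * (u (u y2) / y2) = 1 := by
        calc (u y1 / y1) * (u (u y2) / y2)
            = (v0 * u y1 * u (u y2)) / (v0 * y1 * y2) := by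
              rw [div_mul_div_comm, mul_assoc v0, mul_assoc v0, mul_div_mul_left_eq_div]
          _ = 1 := by rw [h', h, div_one]
      set x1 := u y1 / y1 with hx1def
      set x2 := u (u y2) / y2 with hx2def
      have hcu : ∀ v, c (u v) = u (c v) := fun v => (hucomm c (hCP hc) v).symm
      have ex1 : c x1 = u x1 := by simp [x1, map_div, hcu, e1]
      have ex2 : c x2 = u (u x2) := by simp [x2, map_div, hcu, e2]
      have h3 : u x1 * u (u x2) = 1 := by rw [← ex1, ← ex2, ← map_mul, hx, map_one]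
      have h4 : u x1 * u x2 = 1 := by rw [← map_mul, hx, map_one]
      have h5 : u (u x2) = u x2 := mul_left_cancel (h3.trans h4.symm)
      have hx2 : x2 = 1 := hu1 x2 (u.injective h5)
      have hy2 : y2 = 1 := hu2 y2 (div_eq_one.mp (hx2def ▸ hx2))
      have hx1 : x1 = 1 := by simpa [hx2] using hx
      have hy1 : y1 = 1 := hu1 y1 (div_eq_one.mp (hx1def ▸ hx1))
      have hv0 : v0 = 1 := by simpa [hy1, hy2] using h
      refine ⟨hv0, (map_eq_one_iff _ (MulEquiv.injective _)).mp hy1, ?_⟩
      exact (map_eq_one_iff _ (MulEquiv.injective _)).mp ((map_eq_one_iff _ (MulEquiv.injective _)).mp hy2)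
    have hinj : Function.Injective Φ := by
      rintro ⟨⟨a0, p0⟩, ⟨a1, p1⟩, ⟨a2, p2⟩⟩ ⟨⟨b0, q0⟩, ⟨b1, q1⟩, ⟨b2, q2⟩⟩ h
      obtain ⟨r0, r1, r2⟩ := key (a0 / b0) (a1 / b1) (a2 / b2)
        (by rw [map_div, p0, q0]) (by rw [map_div, p1, q1]) (by rw [map_div, p2, q2])
        (by simp only [map_div, div_mul_div_comm]; exact div_eq_one.mpr h)
      rw [div_eq_one] at r0 r1 r2
      simp [r0, r1, r2]
    have hle := Nat.card_le_card_of_injective Φ hinj
    rw [Nat.card_prod, Nat.card_prod] at hle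
    calc Nat.card {v : V // c v = v} ^ 3 = _ := by ring
      _ ≤ _ := hle

/-- Two-set criterion for triviality of a coprime action on an abelian group. -/
theorem eq_bot_of_two_sets {p : ℕ} [Fact p.Prime] (hp : 3 ≤ p) : ∀ (n : ℕ) (V : Type*) [CommGroup V]
    [Finite V], Nat.card V ≤ n → Nat.Coprime p (Nat.card V) → ∀ (P : Subgroup (MulAut V)),
    IsPGroup p P → ∀ C D : Set (MulAut V), Subgroup.closure C = P → Subgroup.closure D = P →
    (∀ c ∈ C, ∀ d ∈ D, ∀ v, ∃ a b, c a = a ∧ d b = b ∧ v = a * b) → P = ⊥ := by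
  intro n
  induction n with
  | zero =>
      intro V _ _ hV
      exact absurd hV (by simp [Nat.card_pos.ne'])
  | succ n ih =>
      intro V _ _ hV hcop P hP C D hC hD h
      by_contra hne
      have hpow : ∀ φ ∈ P, ∀ v, φ (φ v / v) = φ v / v → φ v = v := by
        intro φ hφ v hv
        set f := φ v / v
        have hit : ∀ k : ℕ, (φ ^ k) v = v * f ^ k := by
          intro k
          induction k with
          | zero => simp
          | succ k ihk =>
              rw [pow_succ', MulAut.mul_apply, ihk, map_mul, map_pow, hv, pow_succ', ← mul_assoc]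
              simp [f]
        obtain ⟨j, hj⟩ := hP ⟨φ, hφ⟩
        have hj' : φ ^ (p ^ j) = 1 := congrArg Subtype.val hj
        have h2 := hit (p ^ j)
        rw [hj', MulAut.one_apply, left_eq_mul] at h2
        exact div_eq_one.mp (eq_one_of_pow_eq_one_coprime (hcop.pow_left j) h2 (pow_card_eq_one'))
      -- triviality modulo proper nontrivial invariant subgroups
      have hquot : ∀ W : Subgroup V, W ≠ ⊥ → (∀ φ ∈ P, ∀ w ∈ W, φ w ∈ W) →
          ∀ φ ∈ P, ∀ v, φ v / v ∈ W := by
        intro W hW hinv φ hφ v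
        have hWmap : ∀ f : P, W.map ((f : MulAut V) : V ≃* V).toMonoidHom = W := fun f => by
          refine le_antisymm ?_ fun w hw => ⟨(f : MulAut V)⁻¹ w, hinv _ (P.inv_mem f.2) w hw, ?_⟩
          · rintro _ ⟨w, hw, rfl⟩; exact hinv _ f.2 w hw
          · exact MulEquiv.apply_symm_apply (f : MulAut V) w
        let ψ : P →* MulAut (V ⧸ W) :=
          { toFun := fun f => QuotientGroup.congr W W (f : MulAut V) (hWmap f)
            map_one' := MulEquiv.ext fun x => QuotientGroup.induction_on x fun v => rfl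
            map_mul' := fun f g => MulEquiv.ext fun x => QuotientGroup.induction_on x fun v => rfl }
        have hsmall : Nat.card (V ⧸ W) ≤ n := by
          have h1 := Subgroup.card_eq_card_quotient_mul_card_subgroup W
          have h2 : 1 < Nat.card W := Subgroup.one_lt_card_iff_ne_bot W |>.mpr hW
          have h3 : 0 < Nat.card (V ⧸ W) := Nat.card_pos
          nlinarith
        have hdvd : Nat.card (V ⧸ W) ∣ Nat.card V := Subgroup.card_quotient_dvd_card W
        have hcl : ∀ S : Set (MulAut V), Subgroup.closure S = P →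
            Subgroup.closure (ψ '' ((↑) ⁻¹' S : Set P)) = ψ.range := by
          intro S hS
          rw [← MonoidHom.map_closure, MonoidHom.range_eq_map]
          congr 1
          apply Subgroup.map_injective P.subtype_injective
          rw [MonoidHom.map_closure, ← MonoidHom.range_eq_map, Subgroup.range_subtype]
          rw [show (P.subtype : P → MulAut V) '' ((↑) ⁻¹' S) = S from Set.image_preimage_eq_of_subset (by
            rintro x hx; exact ⟨⟨x, hS ▸ Subgroup.subset_closure hx⟩, rfl⟩)]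
          exact hS
        have := ih (V ⧸ W) hsmall (hcop.coprime_dvd_right hdvd) ψ.range
          (hP.of_surjective ψ.rangeRestrict ψ.rangeRestrict_surjective) _ _ (hcl C hC) (hcl D hD) ?_
        · have h1 : ψ ⟨φ, hφ⟩ = 1 := by
            have : ψ ⟨φ, hφ⟩ ∈ ψ.range := ⟨_, rfl⟩
            rwa [‹ψ.range = ⊥›, Subgroup.mem_bot] at this
          have h2 : (QuotientGroup.mk (φ v) : V ⧸ W) = QuotientGroup.mk v :=
            congrArg (fun f : MulAut (V ⧸ W) => f (QuotientGroup.mk v)) h1
          exact QuotientGroup.eq_iff_div_mem.mp h2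
        · rintro _ ⟨c, hc, rfl⟩ _ ⟨d, hd, rfl⟩ x
          obtain ⟨v, rfl⟩ := QuotientGroup.mk_surjective x
          obtain ⟨a, b, ha, hb, rfl⟩ := h _ hc _ hd v
          exact ⟨QuotientGroup.mk a, QuotientGroup.mk b, congrArg QuotientGroup.mk ha,
            congrArg QuotientGroup.mk hb, rfl⟩
      let FV : Subgroup V :=
        { carrier := {v | ∀ φ ∈ P, φ v = v}
          one_mem' := fun φ _ => map_one φ
          mul_mem' := fun {a b} ha hb φ hφ => by rw [map_mul, ha φ hφ, hb φ hφ]
          inv_mem' := fun {a} ha φ hφ => by rw [map_inv, ha φ hφ] }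
      by_cases hF : FV = ⊥
      · have hirr' : ∀ W : Subgroup V, W ≠ ⊥ → (∀ φ ∈ P, ∀ w ∈ W, φ w ∈ W) → W = ⊤ := by
          intro W hW hinv
          refine eq_top_iff.mpr fun v _ => ?_
          have hcopP : (Nat.card P).Coprime (Nat.card V) := by
            obtain ⟨k, hk⟩ := IsPGroup.iff_card.mp hP
            rw [hk]; exact hcop.pow_left k
          obtain ⟨f, hf1, hf2⟩ := Cfsg.Agent.H20.External.exists_fixed_mem_coset P.subtype hcopP
            (Or.inl (have := hP.isNilpotent; inferInstance)) W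
            (fun φ w hw => hinv φ φ.2 w hw) (k := v) (fun φ => by
              rw [inv_mul_eq_div]; exact hquot W hW hinv φ φ.2 v)
          have : f ∈ FV := fun φ hφ => hf2 ⟨φ, hφ⟩
          rw [hF, Subgroup.mem_bot] at this
          simpa [this] using hf1
        have hirr : ∀ w ∈ P, (∀ x ∈ P, w * x = x * w) → w ≠ 1 → ∀ v : V, w v = v → v = 1 := by
          intro w _ hcomm hw1 v hv
          let W : Subgroup V := MonoidHom.eqLocus (w : V ≃* V).toMonoidHom (MonoidHom.id V)
          by_contra hv1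
          have hW : W ≠ ⊥ := fun hW => hv1 (by
            have : v ∈ W := hv
            rwa [hW, Subgroup.mem_bot] at this)
          have hT := hirr' W hW fun φ hφ z hz => by
            show w (φ z) = φ z
            rw [← MulAut.mul_apply, hcomm φ hφ, MulAut.mul_apply, show w z = z from hz]
          exact hw1 (MulEquiv.ext fun z => (hT ▸ Subgroup.mem_top z : z ∈ W))
        obtain ⟨c, hc, hcle⟩ := exists_small_fixed hp P hP hne C hC hirr
        obtain ⟨d, hd, hdle⟩ := exists_small_fixed hp P hP hne D hD hirr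
        have hsurj : Function.Surjective
            (fun t : {v : V // c v = v} × {v : V // d v = v} => t.1.1 * t.2.1) := fun v => by
          obtain ⟨a, b, ha, hb, rfl⟩ := h c hc d hd v
          exact ⟨(⟨a, ha⟩, ⟨b, hb⟩), rfl⟩
        have h1 := Nat.card_le_card_of_surjective _ hsurj
        rw [Nat.card_prod] at h1
        have h2 : Nat.card V ^ 3 ≤ Nat.card V ^ 2 := by
          calc Nat.card V ^ 3 ≤ (Nat.card {v : V // c v = v} * Nat.card {v : V // d v = v}) ^ 3 :=
                Nat.pow_le_pow_left h1 3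
            _ = Nat.card {v : V // c v = v} ^ 3 * Nat.card {v : V // d v = v} ^ 3 := mul_pow _ _ _
            _ ≤ Nat.card V * Nat.card V := Nat.mul_le_mul hcle hdle
            _ = Nat.card V ^ 2 := (sq _).symm
        have hsub : Subsingleton V := by
          refine Finite.card_le_one_iff_subsingleton.mp ?_
          by_contra! h4
          exact absurd h2 (not_le.mpr (Nat.pow_lt_pow_right h4 (by norm_num)))
        have : Subsingleton (MulAut V) := ⟨fun f g => MulEquiv.ext fun v => Subsingleton.elim _ _⟩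
        exact hne (Subgroup.eq_bot_of_subsingleton P)
      · refine hne (Subgroup.eq_bot_iff_forall P |>.mpr fun φ hφ => MulEquiv.ext fun v => ?_)
        exact hpow φ hφ v ((hquot FV hF (fun φ hφ w hw => by rw [hw φ hφ]; exact hw) φ hφ v) φ hφ)

/-- `|A| |B| = |AB| |A ∩ B|`. -/
theorem card_mul_card_eq_range_mul {G : Type*} [Group G] (A B : Subgroup G) :
    Nat.card A * Nat.card B =
      Nat.card (Set.range fun t : A × B => (t.1 : G) * t.2) * Nat.card (A ⊓ B : Subgroup G) := by
  classical
  choose s hs using fun y : Set.range fun t : A × B => (t.1 : G) * t.2 => y.2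
  rw [← Nat.card_prod, ← Nat.card_prod]
  refine Nat.card_congr
    { toFun := fun t => (⟨t.1 * t.2, t, rfl⟩,
        ⟨((s ⟨t.1 * t.2, t, rfl⟩).1 : G)⁻¹ * t.1, A.mul_mem (A.inv_mem (s _).1.2) t.1.2, ?_⟩)
      invFun := fun z => (⟨(s z.1).1 * (z.2 : G), A.mul_mem (s z.1).1.2 z.2.2.1⟩,
        ⟨(z.2 : G)⁻¹ * (s z.1).2, B.mul_mem (B.inv_mem z.2.2.2) (s z.1).2.2⟩)
      left_inv := ?_
      right_inv := ?_ }
  · have h := hs ⟨t.1 * t.2, t, rfl⟩
    simp only at h
    have : ((s ⟨t.1 * t.2, t, rfl⟩).1 : G)⁻¹ * t.1 = (s ⟨t.1 * t.2, t, rfl⟩).2 * (t.2 : G)⁻¹ := by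
      rw [inv_mul_eq_iff_eq_mul, ← mul_assoc, h, mul_inv_cancel_right]
    rw [this]
    exact B.mul_mem (s _).2.2 (B.inv_mem t.2.2)
  · intro t
    have h := hs ⟨t.1 * t.2, t, rfl⟩
    simp only at h
    refine Prod.ext (Subtype.ext ?_) (Subtype.ext ?_)
    · simp
    · simp [mul_assoc, h]
  · rintro ⟨⟨y, hy⟩, z⟩
    have h := hs ⟨y, hy⟩
    simp only at h
    have e : ((s ⟨y, hy⟩).1 : G) * z * ((z : G)⁻¹ * (s ⟨y, hy⟩).2) = y := by
      simp [mul_assoc, h]
    refine Prod.ext (Subtype.ext e) (Subtype.ext ?_)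
    simp [e]

/-- Subgroup form of the two-set criterion, on a q-group. -/
theorem le_centralizer_of_two_sets {G : Type*} [Group G] [Finite G] {p q : ℕ} [Fact p.Prime]
    [Fact q.Prime] (hp : 3 ≤ p) {P Q : Subgroup G} (hP : IsPGroup p P) (hQ : IsPGroup q Q)
    (hcop : Nat.Coprime p (Nat.card Q)) (hPQ : P ≤ Subgroup.normalizer (Q : Set G)) (C D : Set G)
    (hC : Subgroup.closure C = P) (hD : Subgroup.closure D = P)
    (h : ∀ c ∈ C, ∀ d ∈ D, ∀ x ∈ Q, ∃ a ∈ Q, ∃ b ∈ Q, Commute c a ∧ Commute d b ∧ x = a * b) :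
    P ≤ Subgroup.centralizer (Q : Set G) := by
  set N := frattini Q
  have hNc : N.Characteristic := frattini_characteristic
  let cong : MulAut Q →* MulAut (Q ⧸ N) :=
    { toFun := fun f => QuotientGroup.congr N N f
        (Subgroup.characteristic_iff_map_eq.mp hNc f)
      map_one' := MulEquiv.ext fun x => QuotientGroup.induction_on x fun v => rfl
      map_mul' := fun f g => MulEquiv.ext fun x => QuotientGroup.induction_on x fun v => rfl }
  let φ : P →* MulAut (Q ⧸ N) := cong.comp (Cfsg.Agent.H20.conjAut hPQ)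
  letI : CommGroup (Q ⧸ N) :=
    { (inferInstance : Group (Q ⧸ N)) with
      mul_comm := (Subgroup.Normal.quotient_commutative_iff_commutator_le.mpr
        (Cfsg.Agent.H24.commutator_le_frattini hQ)).is_comm.comm }
  have hφ : ∀ (a : P) (x : Q), φ a (QuotientGroup.mk x)
      = QuotientGroup.mk (Cfsg.Agent.H20.conjAut hPQ a x) := fun a x => rfl
  have hcl : ∀ S : Set G, Subgroup.closure S = P →
      Subgroup.closure (φ '' ((↑) ⁻¹' S : Set P)) = φ.range := by
    intro S hS
    rw [← MonoidHom.map_closure, MonoidHom.range_eq_map]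
    congr 1
    apply Subgroup.map_injective P.subtype_injective
    rw [MonoidHom.map_closure, ← MonoidHom.range_eq_map, Subgroup.range_subtype]
    rw [show (P.subtype : P → G) '' ((↑) ⁻¹' S) = S from Set.image_preimage_eq_of_subset (by
      rintro x hx; exact ⟨⟨x, hS ▸ Subgroup.subset_closure hx⟩, rfl⟩)]
    exact hS
  have hfix : ∀ (a : P) (x : Q), Commute (a : G) x → φ a (QuotientGroup.mk x) = QuotientGroup.mk x := by
    intro a x hax
    rw [hφ]
    refine congrArg QuotientGroup.mk (Subtype.ext ?_)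
    rw [Cfsg.Agent.H20.coe_conjAut, hax.eq, mul_inv_cancel_right]
  have htriv : φ.range = ⊥ := eq_bot_of_two_sets hp _ (Q ⧸ N) le_rfl
    (hcop.coprime_dvd_right (Subgroup.card_quotient_dvd_card N)) φ.range
    (hP.of_surjective φ.rangeRestrict φ.rangeRestrict_surjective) _ _ (hcl C hC) (hcl D hD) (by
      rintro _ ⟨c, hc, rfl⟩ _ ⟨d, hd, rfl⟩ x
      obtain ⟨x, rfl⟩ := QuotientGroup.mk_surjective x
      obtain ⟨a, ha, b, hb, hca, hdb, hx⟩ := h _ hc _ hd x x.2
      refine ⟨QuotientGroup.mk ⟨a, ha⟩, QuotientGroup.mk ⟨b, hb⟩, hfix _ _ hca, hfix _ _ hdb, ?_⟩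
      rw [← QuotientGroup.mk_mul]
      exact congrArg QuotientGroup.mk (Subtype.ext hx))
  refine Cfsg.Agent.H20.le_centralizer_of_trivial_on_frattini hPQ ?_ fun a ha k hk => ?_
  · obtain ⟨j, hj⟩ := IsPGroup.iff_card.mp hP
    rw [hj]
    exact (hcop.coprime_dvd_right (Subgroup.card_subgroup_dvd_card (frattini Q))).pow_left j
  · have h1 : φ ⟨a, ha⟩ = 1 := by
      have : φ ⟨a, ha⟩ ∈ φ.range := ⟨_, rfl⟩
      rwa [htriv, Subgroup.mem_bot] at this
    have h2 : (QuotientGroup.mk (Cfsg.Agent.H20.conjAut hPQ ⟨a, ha⟩ ⟨k, hk⟩) : Q ⧸ N)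
        = QuotientGroup.mk ⟨k, hk⟩ :=
      congrArg (fun f : MulAut (Q ⧸ N) => f (QuotientGroup.mk ⟨k, hk⟩)) h1
    refine ⟨_, QuotientGroup.eq_iff_div_mem.mp h2, ?_⟩
    simp [div_eq_mul_inv, Cfsg.Agent.H20.coe_conjAut]

/-- The fixed points of `c` in a `c`-invariant Sylow subgroup form a Sylow subgroup of `C(c)`. -/
theorem card_inf_centralizer_of_invariant_sylow {G : Type*} [Group G] [Finite G] {q : ℕ}
    [Fact q.Prime] {N Q : Subgroup G} {c : G}
    (hcN : Subgroup.zpowers c ≤ Subgroup.normalizer (N : Set G))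
    (hcop : (Nat.card (Subgroup.zpowers c)).Coprime (Nat.card N))
    (hQN : Q ≤ N) (hQ : IsPGroup q Q) (hQc : Nat.card Q = q ^ (Nat.card N).factorization q)
    (hcQ : Subgroup.zpowers c ≤ Subgroup.normalizer (Q : Set G)) :
    Nat.card (Q ⊓ Subgroup.centralizer (Subgroup.zpowers c : Set G) : Subgroup G) =
      q ^ (Nat.card (N ⊓ Subgroup.centralizer (Subgroup.zpowers c : Set G) : Subgroup G)).factorization q := by
  set B := Subgroup.zpowers c
  set A := N ⊓ Subgroup.centralizer (B : Set G)
  have hsolv : Group.IsSolvable B ∨ Group.IsSolvable N :=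
    Or.inl (Cfsg.Agent.H20.isSolvable_of_isMulCommutative B)
  refine le_antisymm ?_ ?_
  · obtain ⟨k, hk⟩ := IsPGroup.iff_card.mp (hQ.to_le (inf_le_left :
      Q ⊓ Subgroup.centralizer (B : Set G) ≤ Q))
    rw [hk]
    refine Nat.pow_le_pow_right (Fact.out : q.Prime).pos ?_
    refine (Nat.Prime.pow_dvd_iff_le_factorization Fact.out (Nat.card_pos.ne')).mp ?_
    rw [← hk]
    exact Subgroup.card_dvd_of_le (inf_le_inf_right _ hQN)
  · obtain ⟨R⟩ := (inferInstance : Nonempty (Sylow q A))
    set R' := (R : Subgroup A).map A.subtype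
    have hR'A : R' ≤ A := Subgroup.map_subtype_le _
    have hBR : B ≤ Subgroup.normalizer (R' : Set G) :=
      Cfsg.Agent.H20.le_normalizer_of_le_centralizer fun b hb => by
        rw [Subgroup.mem_centralizer_iff]
        exact fun r hr => (Subgroup.mem_centralizer_iff.mp (hR'A hr).2 b hb).symm
    obtain ⟨Q1, hle, hQ1⟩ := Cfsg.Agent.H20.exists_invariant_sylow_ge hcN hcop hsolv q
      (hR'A.trans inf_le_left) (Cfsg.Agent.H20.isPGroup_map_sylow R) hBR
    obtain ⟨h, hh, heq⟩ := Cfsg.Agent.H20.invariant_sylow_subgroup_conj hcN hcop hsolv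
      (Subgroup.map_subtype_le _) hQN (Cfsg.Agent.H20.card_map_sylow Q1) hQc hQ1 hcQ
    have hsub : MulAut.conj h • R' ≤ Q ⊓ Subgroup.centralizer (B : Set G) := by
      intro x hx
      rw [Cfsg.Agent.H20.mem_conj_smul] at hx
      refine Subgroup.mem_inf.mpr ⟨?_, ?_⟩
      · rw [← heq, Cfsg.Agent.H20.mem_conj_smul]; exact hle hx
      · obtain ⟨-, h1⟩ := Subgroup.mem_inf.mp hh
        obtain ⟨-, h2⟩ := Subgroup.mem_inf.mp (hR'A hx)
        have := mul_mem (mul_mem h1 h2) (inv_mem h1)
        simpa [mul_assoc] using this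
    rw [← Cfsg.Agent.H20.card_map_sylow R, ← Cfsg.Agent.H20.card_conj_smul h]
    exact Subgroup.card_le_of_le hsub

end Cfsg.Agent.H71
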