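/-
Elements of `PSU_3(q)` realising the maximal element orders, obtained from similarity classes.
-/
import Cfsg.Agent.H71.UnitaryThreeUpper
import Cfsg.Agent.H71.PSLBlocks
import Cfsg.Agent.H66.SemisimpleGL
import Cfsg.Agent.H66.Matrix
import Cfsg.Agent.H67.UnitarySimilar

set_option autoImplicit false

open Matrix Polynomial

namespace Cfsg.Agent.H71.UnitaryThree

variable {F : Type*} [Field F] [Fintype F] {q : ℕ}

/-- A determinant one matrix similar to its contragredient gives an element of `PSU`, whose order is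
controlled by the scalar powers of the matrix. -/
theorem exists_psu (hF : Fintype.card F = q ^ 2) {n : ℕ} (hn : 2 ≤ n) (A : GL (Fin n) F)
    (hA : IsConj (A : Matrix (Fin n) (Fin n) F) (H67.contraMat (H3.conjQ hF) A))
    (hdet : (A : Matrix (Fin n) (Fin n) F).det = 1) {a : ℕ}
    (h : ∀ N, (∃ c : F, (A : Matrix (Fin n) (Fin n) F) ^ N = c • (1 : Matrix (Fin n) (Fin n) F)) → a ∣ N) :
    ∃ x : Cfsg.PSU n F q, a ∣ orderOf x := by
  classical
  obtain ⟨B, hB⟩ := H67.exists_GU_isConj hF A hA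
  obtain ⟨c, hc⟩ := isConj_iff.mp hB
  have hBd : ((B : GL (Fin n) F) : Matrix (Fin n) (Fin n) F).det = 1 := by
    rw [← hc, Units.val_mul, Units.val_mul, Matrix.det_units_conj, hdet]
  refine ⟨QuotientGroup.mk ⟨⟨_, hBd⟩, B.2⟩, h _ ?_⟩
  set g : Cfsg.SU n F q := ⟨⟨_, hBd⟩, B.2⟩
  set o := orderOf (QuotientGroup.mk g : Cfsg.PSU n F q)
  have h1 : g ^ o ∈ Subgroup.center (Cfsg.SU n F q) := by
    rw [← QuotientGroup.eq_one_iff, QuotientGroup.mk_pow]
    exact pow_orderOf_eq_one _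
  obtain ⟨l, hl⟩ := (H3.mem_center_SU_iff hF hn _).mp h1
  refine ⟨l, ?_⟩
  have h2 : (((B : GL (Fin n) F) ^ o : GL (Fin n) F) : Matrix (Fin n) (Fin n) F)
      = l • (1 : Matrix (Fin n) (Fin n) F) := by
    have h3 : (((B : GL (Fin n) F) ^ o : GL (Fin n) F) : Matrix (Fin n) (Fin n) F)
        = ((g ^ o).1 : Matrix (Fin n) (Fin n) F) := by
      rw [Units.val_pow_eq_pow_val, SubgroupClass.coe_pow, Matrix.SpecialLinearGroup.coe_pow]
    rw [h3]
    refine Matrix.ext_of_mulVec_single fun i => ?_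
    rw [hl, Matrix.smul_mulVec, Matrix.one_mulVec]
  have hA' : A = c⁻¹ * (B : GL (Fin n) F) * c := by rw [← hc]; group
  rw [← Units.val_pow_eq_pow_val, hA', show c⁻¹ * (B : GL (Fin n) F) * c = c⁻¹ * (B : GL (Fin n) F) * (c⁻¹)⁻¹ by rw [inv_inv],
    conj_pow, Units.val_mul, Units.val_mul, h2, inv_inv, Matrix.mul_smul, mul_one, Matrix.smul_mul,
    Units.inv_mul]

/-- Semisimple matrices are similar to unitary ones when the characteristic polynomial is self dual. -/
theorem isConj_contra_of_charpoly (hF : Fintype.card F = q ^ 2) (p : ℕ) [Fact p.Prime] [CharP F p]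
    {n : ℕ} (A : GL (Fin n) F) (hA : (orderOf A).Coprime p)
    (hc : (A : Matrix (Fin n) (Fin n) F).charpoly = (H67.contraMat (H3.conjQ hF) A).charpoly) :
    IsConj (A : Matrix (Fin n) (Fin n) F) (H67.contraMat (H3.conjQ hF) A) := by
  have hA' : (orderOf (H67.contraHom (H3.conjQ hF) (Fin n) A)).Coprime p :=
    hA.coprime_dvd_left (orderOf_map_dvd _ A)
  exact H66.gl_isConj_iff.mp (H66.isConj_of_charpoly_eq p hA hA' hc)

omit [Fintype F] in
theorem pow_smul_one_apply {n : ℕ} {M : Matrix (Fin n) (Fin n) F} {c : F}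
    (h : M = c • (1 : Matrix (Fin n) (Fin n) F)) (i : Fin n) : M i i = c := by
  rw [h]; simp

theorem not_dvd_of_char (hF : Fintype.card F = q ^ 2) (p : ℕ) [Fact p.Prime] [CharP F p] :
    p ∣ q := by
  obtain ⟨p', k, hp', hc', hk, hqk⟩ := H3.exists_q_eq_pow hF
  rw [CharP.eq F ‹CharP F p› hc']
  exact hqk ▸ dvd_pow_self p' (by omega)

/-- The diagonal torus. -/
theorem lower_diag (hF : Fintype.card F = q ^ 2) (p : ℕ) [Fact p.Prime] [CharP F p] :
    (∃ x : Cfsg.PSU 3 F q, (q ^ 2 - 1) / Nat.gcd 3 (q + 1) ∣ orderOf x) ∧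
    (∃ x : Cfsg.PSU 3 F q, q + 1 ∣ orderOf x) := by
  classical
  have hq2 := H3.two_le_q hF
  have hp : p.Prime := Fact.out
  have hpq := not_dvd_of_char hF p
  obtain ⟨x, hx⟩ := IsCyclic.exists_generator (α := Fˣ)
  have hxo : orderOf x = q ^ 2 - 1 := by
    rw [orderOf_eq_card_of_forall_mem_zpowers hx, Nat.card_units, Nat.card_eq_fintype_card, hF]
  have hcop : (q ^ 2 - 1).Coprime p := by
    refine ((hp.coprime_iff_not_dvd).mpr fun h => ?_).symm
    have h1 := Nat.dvd_sub (hpq.trans (dvd_pow_self q two_ne_zero)) h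
    rw [Nat.sub_sub_self (Nat.one_le_pow _ _ (by omega)), Nat.dvd_one] at h1
    exact hp.ne_one h1
  have hqqx : x ^ (q * q) = x := by
    rw [← pow_two, show q ^ 2 = orderOf x + 1 by rw [hxo]; have := Nat.one_le_pow 2 q (by omega); omega,
      pow_succ, pow_orderOf_eq_one, one_mul]
  let mkD : (Fin 3 → Fˣ) → GL (Fin 3) F := fun a =>
    ⟨Matrix.diagonal fun i => (a i : F), Matrix.diagonal fun i => ((a i)⁻¹ : Fˣ),
      by simp [Matrix.diagonal_mul_diagonal], by simp [Matrix.diagonal_mul_diagonal]⟩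
  have hchar : ∀ a : Fin 3 → Fˣ,
      (Multiset.map (fun i => ((a i)⁻¹ : Fˣ) ^ q) (Finset.univ : Finset (Fin 3)).val)
        = Multiset.map a (Finset.univ : Finset (Fin 3)).val →
      IsConj ((mkD a : GL (Fin 3) F) : Matrix (Fin 3) (Fin 3) F) (H67.contraMat (H3.conjQ hF) (mkD a)) := by
    intro a ha
    refine isConj_contra_of_charpoly hF p _ (hcop.coprime_dvd_left (orderOf_dvd_of_pow_eq_one ?_)) ?_
    · refine Units.ext ?_
      rw [Units.val_pow_eq_pow_val]
      show Matrix.diagonal (fun i => (a i : F)) ^ (q ^ 2 - 1) = (1 : Matrix (Fin 3) (Fin 3) F)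
      rw [Matrix.diagonal_pow, ← Matrix.diagonal_one]
      congr 1
      funext i
      rw [Pi.pow_apply, ← hF]
      exact FiniteField.pow_card_sub_one_eq_one _ (a i).ne_zero
    · show (Matrix.diagonal fun i => (a i : F)).charpoly =
        ((Matrix.diagonal fun i => (((a i)⁻¹ : Fˣ) : F)).map (H3.conjQ hF))ᵀ.charpoly
      rw [Matrix.charpoly_transpose, Matrix.diagonal_map (map_zero _), Matrix.charpoly_diagonal,
        Matrix.charpoly_diagonal]
      have := congrArg (fun s => (Multiset.map (fun u : Fˣ => X - C (u : F)) s).prod) ha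
      simp only [Multiset.map_map, Function.comp_def, Units.val_pow_eq_pow_val] at this
      exact this.symm
  constructor
  · let a : Fin 3 → Fˣ := ![x ^ (q - 1), x, (x ^ q)⁻¹]
    have hdet : (Matrix.diagonal fun i => (a i : F)).det = 1 := by
      rw [Matrix.det_diagonal, Fin.prod_univ_three]
      show ((x ^ (q - 1) : Fˣ) : F) * (x : F) * (((x ^ q)⁻¹ : Fˣ) : F) = 1
      rw [← Units.val_mul, ← Units.val_mul, ← pow_succ, Nat.sub_add_cancel (by omega), mul_inv_cancel, Units.val_one]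
    refine exists_psu hF (by norm_num) (mkD a) (hchar a ?_) hdet fun N ⟨c, hc⟩ => ?_
    · have hx1 : x ^ (q ^ 2 - 1) = 1 := by rw [← hxo, pow_orderOf_eq_one]
      have e0 : ((x ^ (q - 1))⁻¹) ^ q = x ^ (q - 1) := by
        rw [inv_pow, inv_eq_iff_mul_eq_one, ← pow_mul, ← pow_add, ← hx1]
        congr 1
        obtain ⟨s, hs⟩ : ∃ s, q = s + 1 := ⟨q - 1, by omega⟩
        rw [hs, Nat.add_sub_cancel]
        symm
        rw [Nat.sub_eq_iff_eq_add (Nat.one_le_pow _ _ (by omega))]; ring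
      have e1 : (x⁻¹) ^ q = (x ^ q)⁻¹ := inv_pow x q
      have e2 : (((x ^ q)⁻¹)⁻¹) ^ q = x := by rw [inv_inv, ← pow_mul, hqqx]
      show ([((a 0)⁻¹) ^ q, ((a 1)⁻¹) ^ q, ((a 2)⁻¹) ^ q] : Multiset Fˣ) = [a 0, a 1, a 2]
      show ([((x ^ (q - 1))⁻¹) ^ q, (x⁻¹) ^ q, (((x ^ q)⁻¹)⁻¹) ^ q] : Multiset Fˣ) = [x ^ (q - 1), x, (x ^ q)⁻¹]
      rw [e0, e1, e2, Multiset.coe_eq_coe]
      exact List.Perm.cons _ (List.Perm.swap _ _ _)
    · rw [show ((mkD a : GL (Fin 3) F) : Matrix (Fin 3) (Fin 3) F) = Matrix.diagonal fun i => (a i : F) from rfl,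
        Matrix.diagonal_pow] at hc
      have h0 : (x ^ (q - 1)) ^ N = x ^ N := by
        have e0 := pow_smul_one_apply hc 0
        have e1 := pow_smul_one_apply hc 1
        rw [Matrix.diagonal_apply_eq, Pi.pow_apply, ← Units.val_pow_eq_pow_val] at e0 e1
        exact Units.ext (e0.trans e1.symm)
      have h2 : ((x ^ q)⁻¹) ^ N = x ^ N := by
        have e1 := pow_smul_one_apply hc 1
        have e2 := pow_smul_one_apply hc 2
        rw [Matrix.diagonal_apply_eq, Pi.pow_apply, ← Units.val_pow_eq_pow_val] at e1 e2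
        exact Units.ext (e2.trans e1.symm)
      have d1 : q ^ 2 - 1 ∣ N * (q + 1) := by
        rw [← hxo]
        refine orderOf_dvd_of_pow_eq_one ?_
        rw [inv_pow, inv_eq_iff_mul_eq_one, ← pow_mul, ← pow_add] at h2
        rw [← h2]; congr 1; ring
      have d2 : q ^ 2 - 1 ∣ N * (q - 2) := by
        rw [← hxo]
        refine orderOf_dvd_of_pow_eq_one ?_
        have h3 : x ^ (N * (q - 2)) * x ^ N = 1 * x ^ N := by
          rw [one_mul, ← pow_add, ← Nat.mul_succ, show (q - 2).succ = q - 1 by omega, mul_comm N, pow_mul]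
          exact h0
        exact mul_right_cancel h3
      have d3 : q ^ 2 - 1 ∣ N * Nat.gcd 3 (q + 1) := by
        refine ((Nat.dvd_gcd d1 d2).trans (Nat.gcd_mul_left N (q + 1) (q - 2)).dvd).trans (mul_dvd_mul_left N ?_)
        refine Nat.dvd_gcd ?_ (Nat.gcd_dvd_left _ _)
        have := Nat.dvd_sub (Nat.gcd_dvd_left (q + 1) (q - 2)) (Nat.gcd_dvd_right (q + 1) (q - 2))
        rwa [show q + 1 - (q - 2) = 3 by omega] at this
      refine Nat.dvd_of_mul_dvd_mul_right (Nat.gcd_pos_of_pos_left (q + 1) (by norm_num : 0 < 3)) ?_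
      rw [Nat.div_mul_cancel (sq_sub_one_eq q ▸ (Nat.gcd_dvd_right 3 (q + 1)).mul_right (q - 1))]
      exact d3
  · set z := x ^ (q - 1) with hz
    have hz1 : z ^ (q + 1) = 1 := by
      rw [hz, ← pow_mul, mul_comm, ← sq_sub_one_eq, ← hxo, pow_orderOf_eq_one]
    have hzo : orderOf z = q + 1 := by
      rw [hz, orderOf_pow' _ (by omega), hxo, sq_sub_one_eq, Nat.gcd_mul_left_left,
        Nat.mul_div_cancel _ (by omega)]
    let a : Fin 3 → Fˣ := ![z, z⁻¹, 1]
    have hdet : (Matrix.diagonal fun i => (a i : F)).det = 1 := by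
      rw [Matrix.det_diagonal, Fin.prod_univ_three]
      show (z : F) * ((z⁻¹ : Fˣ) : F) * ((1 : Fˣ) : F) = 1
      rw [← Units.val_mul, mul_inv_cancel, Units.val_one, mul_one]
    refine exists_psu hF (by norm_num) (mkD a) (hchar a ?_) hdet fun N ⟨c, hc⟩ => ?_
    · have e0 : (z⁻¹) ^ q = z := by rw [inv_pow, inv_eq_iff_mul_eq_one, ← pow_succ, hz1]
      have e1 : ((z⁻¹)⁻¹) ^ q = z⁻¹ := by rw [inv_inv]; exact eq_inv_of_mul_eq_one_left (by rw [← pow_succ, hz1])
      show ([(z⁻¹) ^ q, ((z⁻¹)⁻¹) ^ q, (1⁻¹ : Fˣ) ^ q] : Multiset Fˣ) = [z, z⁻¹, 1]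
      rw [e0, e1, inv_one, one_pow]
    · rw [show ((mkD a : GL (Fin 3) F) : Matrix (Fin 3) (Fin 3) F) = Matrix.diagonal fun i => (a i : F) from rfl,
        Matrix.diagonal_pow] at hc
      rw [← hzo]
      refine orderOf_dvd_of_pow_eq_one ?_
      have e0 := pow_smul_one_apply hc 0
      have e2 := pow_smul_one_apply hc 2
      rw [Matrix.diagonal_apply_eq, Pi.pow_apply, ← Units.val_pow_eq_pow_val] at e0 e2
      have := Units.ext (e0.trans e2.symm)
      simpa [a] using this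

/-- A unipotent times a scalar, extended by a scalar. -/
theorem lower_mixed (hF : Fintype.card F = q ^ 2) (p : ℕ) [Fact p.Prime] [CharP F p] :
    ∃ x : Cfsg.PSU 3 F q, p * (q + 1) / Nat.gcd 3 (q + 1) ∣ orderOf x := by
  classical
  have hq2 := H3.two_le_q hF
  have hp : p.Prime := Fact.out
  have hpq := not_dvd_of_char hF p
  obtain ⟨x, hx⟩ := IsCyclic.exists_generator (α := Fˣ)
  have hxo : orderOf x = q ^ 2 - 1 := by
    rw [orderOf_eq_card_of_forall_mem_zpowers hx, Nat.card_units, Nat.card_eq_fintype_card, hF]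
  set z := x ^ (q - 1) with hzdef
  have hzo : orderOf z = q + 1 := by
    rw [hzdef, orderOf_pow' _ (by omega), hxo, sq_sub_one_eq, Nat.gcd_mul_left_left,
      Nat.mul_div_cancel _ (by omega)]
  set l : F := (z : F) with hl
  have hl0 : l ≠ 0 := z.ne_zero
  have hlq : l ^ q = l⁻¹ := by
    refine eq_inv_of_mul_eq_one_left ?_
    rw [← pow_succ, hl, ← Units.val_pow_eq_pow_val, ← hzo, pow_orderOf_eq_one, Units.val_one]
  have hl2 : ((l ^ 2)⁻¹) ^ q = l ^ 2 := by
    rw [inv_pow, ← pow_mul, mul_comm, pow_mul, hlq, inv_pow, inv_inv]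
  let M : Matrix (Fin 3) (Fin 3) F := !![l, l, 0; 0, l, 0; 0, 0, (l ^ 2)⁻¹]
  have hdet : M.det = 1 := by
    simp [M, Matrix.det_fin_three]
    field_simp
  let A : GL (Fin 3) F := Matrix.GeneralLinearGroup.mkOfDetNeZero M (by rw [hdet]; exact one_ne_zero)
  let C' : Matrix (Fin 3) (Fin 3) F := !![l, 0, 0; -l, l, 0; 0, 0, (l ^ 2)⁻¹]
  let P : GL (Fin 3) F := Matrix.GeneralLinearGroup.mkOfDetNeZero !![0, 1, 0; -1, 0, 0; 0, 0, 1]
    (by simp [Matrix.det_fin_three])
  have hcontra : H67.contraMat (H3.conjQ hF) A = C' := by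
    rw [H67.contraMat_eq]
    apply Matrix.inv_eq_right_inv
    show (M.map (H3.conjQ hF))ᵀ * C' = 1
    have hq0 : q ≠ 0 := by omega
    ext i j
    fin_cases i <;> fin_cases j <;>
      simp [M, C', Matrix.mul_apply, Fin.sum_univ_three, zero_pow hq0, hlq, hl2, hl0]
  have hconj : IsConj (A : Matrix (Fin 3) (Fin 3) F) (H67.contraMat (H3.conjQ hF) A) := by
    rw [hcontra]
    refine ⟨P, ?_⟩
    show (!![0, 1, 0; -1, 0, 0; 0, 0, 1] : Matrix (Fin 3) (Fin 3) F) * M = C' * !![0, 1, 0; -1, 0, 0; 0, 0, 1]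
    ext i j
    fin_cases i <;> fin_cases j <;> simp [M, C', Matrix.mul_apply, Fin.sum_univ_three]
  refine exists_psu hF (by norm_num) A hconj hdet fun N ⟨c, hc⟩ => ?_
  have hpow : ∀ N : ℕ, M ^ N = !![l ^ N, (N : F) * l ^ N, 0; 0, l ^ N, 0; 0, 0, ((l ^ 2)⁻¹) ^ N] := by
    intro N
    induction N with
    | zero => ext i j; fin_cases i <;> fin_cases j <;> simp
    | succ N ih =>
        rw [pow_succ, ih]
        ext i j
        fin_cases i <;> fin_cases j <;> simp [M, Matrix.mul_apply, Fin.sum_univ_three, pow_succ]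
        ring
  change M ^ N = _ at hc
  rw [hpow] at hc
  have e01 := congrFun (congrFun hc 0) 1
  have e00 := congrFun (congrFun hc 0) 0
  have e22 := congrFun (congrFun hc 2) 2
  simp at e01 e00 e22
  have hpN : p ∣ N := by
    rcases e01 with h | h
    · exact (CharP.cast_eq_zero_iff F p N).mp h
    · exact absurd h.1 hl0
  have h3 : l ^ (N * 3) = 1 := by
    rw [← e00, inv_eq_iff_eq_inv] at e22
    have h7 : (l ^ 2) ^ N * l ^ N = 1 := by rw [e22, inv_mul_cancel₀ (pow_ne_zero _ hl0)]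
    rw [← h7, ← pow_mul, ← pow_add]; congr 1; ring
  have h4 : q + 1 ∣ N * Nat.gcd 3 (q + 1) := by
    have h5 : q + 1 ∣ N * 3 := by
      rw [← hzo]; exact orderOf_dvd_of_pow_eq_one (Units.ext (by simpa using h3))
    exact (Nat.dvd_gcd h5 (dvd_mul_left _ N)).trans (Nat.gcd_mul_left N 3 (q + 1)).dvd
  have h5 : (q + 1) / Nat.gcd 3 (q + 1) ∣ N := by
    refine Nat.dvd_of_mul_dvd_mul_right (Nat.gcd_pos_of_pos_left (q + 1) (by norm_num : 0 < 3)) ?_
    rw [Nat.div_mul_cancel (Nat.gcd_dvd_right _ _)]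
    exact h4
  rw [Nat.mul_div_assoc p (Nat.gcd_dvd_right _ _)]
  refine Nat.Coprime.mul_dvd_of_dvd_of_dvd ?_ hpN h5
  refine hp.coprime_iff_not_dvd.mpr fun h => ?_
  have h6 := Nat.dvd_sub (h.trans (Nat.div_dvd_of_dvd (Nat.gcd_dvd_right _ _))) hpq
  rw [Nat.add_sub_cancel_left, Nat.dvd_one] at h6
  exact hp.ne_one h6

set_option maxHeartbeats 1000000 in
theorem lower_cubic_aux (hF : Fintype.card F = q ^ 2) (hq3 : 3 ≤ q) {L : Type*} [Field L]
    [Algebra F L] [Fintype L] (hfr : Module.finrank F L = 3) :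
    ∃ x : Cfsg.PSU 3 F q, (q ^ 2 - q + 1) / Nat.gcd 3 (q + 1) ∣ orderOf x := by
  classical
  have hq2 := H3.two_le_q hF
  obtain ⟨p, k, hp', hcF, hk1, hqk⟩ := H3.exists_q_eq_pow hF
  have : Fact p.Prime := ⟨hp'⟩
  have : Module.Finite F L := Module.finite_of_finrank_eq_succ hfr
  have hcard : Fintype.card L = q ^ 6 := by
    rw [Module.card_eq_pow_finrank (K := F), hfr, hF, ← pow_mul]
  have hqq : q ≤ q ^ 2 := Nat.le_self_pow (by norm_num) q
  set m := q ^ 2 - q + 1 with hm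
  have hm6 : q ^ 6 = m * ((q + 1) * (q ^ 3 - 1)) + 1 := by
    obtain ⟨u, hu⟩ : ∃ u, q ^ 3 = u + 1 := ⟨q ^ 3 - 1, by have := Nat.one_le_pow 3 q (by omega); omega⟩
    have e1 : m * (q + 1) = u + 2 := by
      have : (q ^ 2 - q + 1) * (q + 1) = q ^ 3 + 1 := by nlinarith [Nat.sub_add_cancel hqq]
      rw [hm, this, hu]
    rw [show q ^ 6 = q ^ 3 * q ^ 3 by ring, hu, Nat.add_sub_cancel, ← mul_assoc, e1]; ring
  obtain ⟨ζ, hζ⟩ := IsCyclic.exists_generator (α := Lˣ)
  have hζo : orderOf ζ = m * ((q + 1) * (q ^ 3 - 1)) := by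
    rw [orderOf_eq_card_of_forall_mem_zpowers hζ, Nat.card_units, Nat.card_eq_fintype_card, hcard, hm6,
      Nat.add_sub_cancel]
  set β := ζ ^ ((q + 1) * (q ^ 3 - 1)) with hβdef
  have hpos : 0 < (q + 1) * (q ^ 3 - 1) := by
    have : 2 ^ 3 ≤ q ^ 3 := Nat.pow_le_pow_left hq2 3
    exact Nat.mul_pos (by omega) (by omega)
  have hβo : orderOf β = m := by
    rw [hβdef, orderOf_pow' _ hpos.ne', hζo, Nat.gcd_mul_left_left, Nat.mul_div_cancel _ hpos]
  have hm3 : m ∣ q ^ 3 + 1 := ⟨q + 1, by rw [hm]; nlinarith [Nat.sub_add_cancel hqq]⟩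
  have hm1 : β ^ m = 1 := by rw [← hβo, pow_orderOf_eq_one]
  let b := Module.finBasisOfFinrankEq F L hfr
  let φ : L →* Matrix (Fin 3) (Fin 3) F := (Algebra.leftMulMatrix b).toMonoidHom
  let A : GL (Fin 3) F := Units.map φ β
  have hAo : orderOf A = m := by
    rw [orderOf_injective _ (Units.map_injective (Algebra.leftMulMatrix_injective b)), hβo]
  have hmp : m.Coprime p := by
    refine ((hp'.coprime_iff_not_dvd).mpr fun h => ?_).symm
    have hpq : p ∣ q := hqk ▸ dvd_pow_self p (by omega)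
    have h1 : p ∣ q ^ 3 + 1 := h.trans hm3
    have h2 := (Nat.dvd_add_right (hpq.trans (dvd_pow_self q (by norm_num : 3 ≠ 0)))).mp h1
    exact hp'.ne_one (Nat.dvd_one.mp h2)
  have hgcd : Nat.gcd m (q ^ 2 - 1) ∣ Nat.gcd 3 (q + 1) := by
    have a1 := Nat.gcd_dvd_left m (q ^ 2 - 1)
    have a2 := Nat.gcd_dvd_right m (q ^ 2 - 1)
    have h6 : q * (q ^ 2 - 1) + q = q ^ 3 := by
      rw [← Nat.mul_succ, show Nat.succ (q ^ 2 - 1) = q ^ 2 by have := Nat.one_le_pow 2 q (by omega); omega]; ring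
    have a3 : Nat.gcd m (q ^ 2 - 1) ∣ q + 1 := by
      have := Nat.dvd_sub (a1.trans hm3) (a2.mul_left q)
      rwa [show q ^ 3 + 1 - q * (q ^ 2 - 1) = q + 1 by omega] at this
    refine Nat.dvd_gcd ?_ a3
    have h5 : (q + 1) * (q + 1) = m + 3 * q := by rw [hm]; nlinarith [Nat.sub_add_cancel hqq]
    have a4 := a3.mul_right (q + 1)
    rw [h5] at a4
    have a5 := (Nat.dvd_add_right a1).mp a4
    have a6 := Nat.dvd_sub (a3.mul_left 3) a5
    rwa [show 3 * (q + 1) - 3 * q = 3 by omega] at a6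
  have hnb : (β : L) ∉ (algebraMap F L).range := by
    rintro ⟨e, he⟩
    have h1 : β ^ (q ^ 2 - 1) = 1 := by
      refine Units.ext ?_
      have he0 : e ≠ 0 := by rintro rfl; exact β.ne_zero (by rw [← he, map_zero])
      rw [Units.val_pow_eq_pow_val, ← he, ← map_pow, Units.val_one, ← hF,
        FiniteField.pow_card_sub_one_eq_one e he0, map_one]
    have h2 := orderOf_dvd_of_pow_eq_one h1
    rw [hβo] at h2
    have h3 : m ≤ 3 := Nat.le_of_dvd (by norm_num)
      (((Nat.dvd_gcd dvd_rfl h2).trans hgcd).trans (Nat.gcd_dvd_left _ _))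
    have : 3 * q ≤ q ^ 2 := by rw [pow_two]; exact Nat.mul_le_mul_right q hq3
    omega
  have hmin : ∀ y : L, y ∉ (algebraMap F L).range → (minpoly F y).natDegree = 3 := by
    intro y hy
    have h1 := minpoly.degree_dvd (K := F) (L := L) (Algebra.IsIntegral.isIntegral y)
    rw [hfr] at h1
    rcases (Nat.dvd_prime Nat.prime_three).mp h1 with h | h
    · exact absurd (minpoly.natDegree_eq_one_iff.mp h) hy
    · exact h
  have hchar : ∀ y : L, y ∉ (algebraMap F L).range → (Algebra.leftMulMatrix b y).charpoly = minpoly F y := by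
    intro y hy
    have hint : IsIntegral F y := Algebra.IsIntegral.isIntegral y
    refine eq_of_monic_of_dvd_of_natDegree_le (minpoly.monic hint) (Matrix.charpoly_monic _) ?_ ?_
    · have h := Matrix.minpoly_dvd_charpoly (Algebra.leftMulMatrix b y)
      rwa [minpoly.algHom_eq (Algebra.leftMulMatrix b) (Algebra.leftMulMatrix_injective b)] at h
    · simp [hmin y hy]
  refine exists_psu hF (by norm_num) A (isConj_contra_of_charpoly hF p A (hAo ▸ hmp) ?_) ?_ ?_
  · show (Algebra.leftMulMatrix b (β : L)).charpoly =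
      ((Algebra.leftMulMatrix b ((β⁻¹ : Lˣ) : L)).map (H3.conjQ hF))ᵀ.charpoly
    have hnb' : ((β⁻¹ : Lˣ) : L) ∉ (algebraMap F L).range := by
      rintro ⟨e, he⟩
      exact hnb ⟨e⁻¹, by rw [map_inv₀, he, Units.val_inv_eq_inv_val, inv_inv]⟩
    rw [Matrix.charpoly_transpose, Matrix.charpoly_map, hchar _ hnb, hchar _ hnb']
    have hint' : IsIntegral F ((β⁻¹ : Lˣ) : L) := Algebra.IsIntegral.isIntegral _
    refine (eq_of_monic_of_dvd_of_natDegree_le (minpoly.monic (Algebra.IsIntegral.isIntegral _))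
      ((minpoly.monic hint').map _) (minpoly.dvd F _ ?_) ?_).symm
    · -- `β = (β⁻¹) ^ (q ^ 3)` is a root of the twisted polynomial
      have : CharP L p := charP_of_injective_algebraMap (algebraMap F L).injective p
      set g := minpoly F ((β⁻¹ : Lˣ) : L)
      have hz : Polynomial.aeval ((β⁻¹ : Lˣ) : L) g = 0 := minpoly.aeval _ _
      have hfrob : Polynomial.aeval ((((β⁻¹ : Lˣ) : L)) ^ q) (g.map (H3.conjQ hF)) = 0 := by
        have h1 := congrArg (iterateFrobenius L p k) hz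
        rw [map_zero, ← Polynomial.eval_map_algebraMap, Polynomial.eval_map, Polynomial.hom_eval₂] at h1
        rw [Polynomial.aeval_def, Polynomial.eval₂_map]
        simp only [iterateFrobenius_def] at h1
        rw [← hqk] at h1
        have hcomp : (algebraMap F L).comp (H3.conjQ hF) = (iterateFrobenius L p k).comp (algebraMap F L) :=
          RingHom.ext fun a => by simp [iterateFrobenius_def, hqk]
        rw [hcomp]
        exact h1
      have hpow2 : Polynomial.aeval (((((β⁻¹ : Lˣ) : L)) ^ q) ^ Fintype.card F) (g.map (H3.conjQ hF)) = 0 := by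
        have hfr' : Polynomial.aeval (((((β⁻¹ : Lˣ) : L)) ^ q) ^ Fintype.card F) (g.map (H3.conjQ hF))
            = (Polynomial.aeval (((β⁻¹ : Lˣ) : L) ^ q) (g.map (H3.conjQ hF))) ^ Fintype.card F :=
          Polynomial.aeval_algHom_apply (FiniteField.frobeniusAlgHom F L) _ _
        rw [hfr', hfrob, zero_pow Fintype.card_ne_zero]
      convert hpow2 using 2
      rw [hF, ← pow_mul, show q * q ^ 2 = q ^ 3 by ring, ← Units.val_pow_eq_pow_val]
      have hβ3 : β = (β ^ q ^ 3)⁻¹ := by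
        refine eq_inv_of_mul_eq_one_left ?_
        rw [← pow_succ']
        obtain ⟨s, hs⟩ := hm3
        rw [hs, pow_mul, hm1, one_pow]
      rw [inv_pow, ← hβ3]
    · rw [Polynomial.natDegree_map, hmin _ hnb, hmin _ hnb']
  · show (Algebra.leftMulMatrix b (β : L)).det = 1
    rw [← Algebra.norm_eq_matrix_det b]
    refine (algebraMap F L).injective ?_
    rw [map_one, FiniteField.algebraMap_norm_eq_pow_sum, hfr, Nat.card_eq_fintype_card, hF,
      ← Units.val_pow_eq_pow_val]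
    simp only [Finset.sum_range_succ, Finset.sum_range_zero, zero_add, pow_zero, pow_one]
    have hdvd : m ∣ 1 + q ^ 2 + (q ^ 2) ^ 2 :=
      ⟨q ^ 2 + q + 1, by rw [hm]; nlinarith [Nat.sub_add_cancel hqq]⟩
    obtain ⟨t, ht⟩ := hdvd
    rw [ht, pow_mul, hm1, one_pow, Units.val_one]
  · rintro N ⟨c, hc⟩
    change (Algebra.leftMulMatrix b (β : L)) ^ N = _ at hc
    rw [← map_pow, ← Algebra.algebraMap_eq_smul_one, ← (Algebra.leftMulMatrix b).commutes] at hc
    have h1 : (β : L) ^ N = algebraMap F L c := Algebra.leftMulMatrix_injective b hc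
    have hc0 : c ≠ 0 := by rintro rfl; rw [map_zero] at h1; exact pow_ne_zero _ β.ne_zero h1
    have h2 : β ^ (N * (q ^ 2 - 1)) = 1 := by
      refine Units.ext ?_
      rw [Units.val_pow_eq_pow_val, pow_mul, h1, ← map_pow, ← hF,
        FiniteField.pow_card_sub_one_eq_one c hc0, map_one, Units.val_one]
    have h3 : m ∣ N * (q ^ 2 - 1) := hβo ▸ orderOf_dvd_of_pow_eq_one h2
    have h5 : m ∣ N * Nat.gcd 3 (q + 1) :=
      ((Nat.dvd_gcd (dvd_mul_left _ N) h3).trans (Nat.gcd_mul_left N m _).dvd).trans (mul_dvd_mul_left N hgcd)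
    refine Nat.dvd_of_mul_dvd_mul_right (Nat.gcd_pos_of_pos_left (q + 1) (by norm_num : 0 < 3)) ?_
    rw [Nat.div_mul_cancel (dvd_sq_sub_q_add_one (Nat.gcd_dvd_right _ _) (Nat.gcd_dvd_left _ _))]
    exact h5

/-- The torus of order `q ^ 2 - q + 1`. -/
theorem lower_cubic (hF : Fintype.card F = q ^ 2) (hq3 : 3 ≤ q) :
    ∃ x : Cfsg.PSU 3 F q, (q ^ 2 - q + 1) / Nat.gcd 3 (q + 1) ∣ orderOf x := by
  obtain ⟨p, k, hp, hc, -, -⟩ := H3.exists_q_eq_pow hF
  have : Fact p.Prime := ⟨hp⟩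
  have := Fintype.ofFinite (FiniteField.Extension F p 3)
  exact lower_cubic_aux hF hq3 (L := FiniteField.Extension F p 3) (FiniteField.finrank_extension F p 3)

end Cfsg.Agent.H71.UnitaryThree
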